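import Mathlib
import Cfsg.Prelude.Def_GeometricClasses

/-!
Fixed points of a coprime automorphism of a small irreducible group (H960).

* `card_modEq_fixed` : `|α| ≡ |{a | f a = a}| (mod r)` if `f^[r] = id`, `r` prime;
* `card_modEq_CR` : `|R| ≡ |C_R(y)| (mod r)` if `y` normalises `R` and `y ^ r` centralises `R`;
* `fixed_cases` : `R` of order `16 m` with commutators `± 1`, `m ∣ 4` scalars, `r` odd;
* `trace_formula` : `n² |C_R(y)| = |R| tr(y) tr(y⁻¹)`.
-/

set_option autoImplicit false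
open Cfsg Cfsg.Geo Matrix
open scoped MatrixGroups

namespace Cfsg.Agent.H960

/-- A map with `f^[r] = id`, `r` prime, on a finite set: number of fixed points modulo `r`. -/
theorem card_modEq_fixed {α : Type*} [Finite α] {r : ℕ} [Fact r.Prime] (f : α → α) (hf : f^[r] = id) :
    Nat.card α ≡ Nat.card {a : α // f a = a} [MOD r] := by
  classical
  have := Fintype.ofFinite α
  have h := @Equiv.Perm.card_fixedPoints_modEq α _ _ f r 1 _ (by
    rw [pow_one]
    exact (hom_coe_pow (fun g : Function.End α ↦ g) rfl (fun g h ↦ rfl) f r).trans hf)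
  rw [Nat.card_eq_fintype_card, Nat.card_eq_fintype_card]
  exact h

section Group

variable {G : Type*} [Group G]

/-- `C_R(y)` as a subgroup of `G`. -/
def CR (R : Subgroup G) (y : G) : Subgroup G := R ⊓ Subgroup.centralizer {y}

theorem mem_CR {R : Subgroup G} {y g : G} : g ∈ CR R y ↔ g ∈ R ∧ g * y = y * g := by
  rw [CR, Subgroup.mem_inf, Subgroup.mem_centralizer_singleton_iff]

theorem CR_le {R : Subgroup G} {y : G} : CR R y ≤ R := inf_le_left

/-- iterated conjugation -/
theorem conj_iterate (y : G) (k : ℕ) (g : G) : (fun x => y * x * y⁻¹)^[k] g = y ^ k * g * (y ^ k)⁻¹ := by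
  induction k with
  | zero => simp
  | succ k ih => rw [Function.iterate_succ_apply', ih]; group

/-- fixed points of conjugation by `y` on a `y`-invariant finite set `S` -/
theorem card_modEq_set {S : Set G} (hS : S.Finite) {y : G} {r : ℕ} [Fact r.Prime]
    (hy : ∀ g ∈ S, y * g * y⁻¹ ∈ S) (hr : ∀ g ∈ S, y ^ r * g = g * y ^ r) :
    Nat.card S ≡ Nat.card {g : G // g ∈ S ∧ g * y = y * g} [MOD r] := by
  have := hS.to_subtype
  let f : S → S := fun g => ⟨y * g * y⁻¹, hy g g.2⟩
  have hf : ∀ (k : ℕ) (g : S), ((f^[k] g : S) : G) = y ^ k * g * (y ^ k)⁻¹ := by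
    intro k
    induction k with
    | zero => intro g; simp
    | succ k ih =>
      intro g
      rw [Function.iterate_succ_apply']
      change y * ((f^[k] g : S) : G) * y⁻¹ = _
      rw [ih]; group
  have h := card_modEq_fixed f (r := r) (by
    funext g
    apply Subtype.ext
    rw [hf, id, hr g g.2, mul_inv_cancel_right])
  refine h.trans (Nat.ModEq.symm ?_)
  rw [Nat.card_congr (show {a : S // f a = a} ≃ {g : G // g ∈ S ∧ g * y = y * g} from
    { toFun := fun a => ⟨a.1.1, a.1.2, by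
        have h1 : y * (a.1 : G) * y⁻¹ = a.1 := congrArg Subtype.val a.2
        rw [mul_inv_eq_iff_eq_mul] at h1; exact h1.symm⟩
      invFun := fun a => ⟨⟨a.1, a.2.1⟩, Subtype.ext (by
        change y * a.1 * y⁻¹ = a.1
        rw [← a.2.2, mul_inv_cancel_right])⟩
      left_inv := fun a => rfl
      right_inv := fun a => rfl })]

theorem card_modEq_CR {R : Subgroup G} [Finite R] {y : G} {r : ℕ} [Fact r.Prime]
    (hy : ∀ g ∈ R, y * g * y⁻¹ ∈ R) (hr : ∀ g ∈ R, y ^ r * g = g * y ^ r) :
    Nat.card R ≡ Nat.card (CR R y) [MOD r] := by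
  have h := card_modEq_set (S := (R : Set G)) (Set.toFinite _) hy hr
  refine h.trans (Nat.ModEq.symm ?_)
  rw [Nat.card_congr (Equiv.subtypeEquivRight (fun g => mem_CR) : CR R y ≃ {g : G // g ∈ R ∧ g * y = y * g})]
  rfl

/-- Fixed points of an element of odd prime order on a group of order `16 m` (`m ∣ 4`) with centre `Z` of order `m`
in which non-commuting elements `g, h` satisfy `h * g = e * (g * h)`, `e` central of order two. -/
theorem fixed_cases {R Z : Subgroup G} [Finite R] {m r : ℕ} (hZR : Z ≤ R)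
    (hZc : ∀ z ∈ Z, ∀ g ∈ R, z * g = g * z) (hcard : Nat.card R = 16 * m) (hZcard : Nat.card Z = m) (hm : m ∣ 4)
    (hnc : ∀ g ∈ R, g ∉ Z → ∃ h ∈ R, h * g ≠ g * h) (e : G)
    (hcomm : ∀ g ∈ R, ∀ h ∈ R, h * g = g * h ∨ h * g = e * (g * h)) (hee : e * e = 1) (heZ : e ∈ Z)
    [Fact r.Prime] (hr2 : r ≠ 2) {y : G} (hy : ∀ g ∈ R, y * g * y⁻¹ ∈ R) (hZy : ∀ z ∈ Z, z * y = y * z)
    (hr : ∀ g ∈ R, y ^ r * g = g * y ^ r) :
    (∀ g ∈ R, g * y = y * g) ∨ (r = 5 ∧ Nat.card (CR R y) = m) ∨
      (r = 3 ∧ (Nat.card (CR R y) = m ∨ Nat.card (CR R y) = 4 * m)) := by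
  have hrp : r.Prime := Fact.out
  have hm0 : 0 < m := Nat.pos_of_dvd_of_pos hm (by norm_num)
  have hZC : Z ≤ CR R y := fun z hz => mem_CR.2 ⟨hZR hz, hZy z hz⟩
  obtain ⟨k, hk⟩ : m ∣ Nat.card (CR R y) := by rw [← hZcard]; exact Subgroup.card_dvd_of_le hZC
  have hk16 : k ∣ 16 := by
    have h1 : Nat.card (CR R y) ∣ Nat.card R := Subgroup.card_dvd_of_le CR_le
    rw [hcard, hk, mul_comm 16 m] at h1
    exact Nat.dvd_of_mul_dvd_mul_left hm0 h1
  have hmod := card_modEq_CR (R := R) (y := y) (r := r) hy hr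
  rw [hcard, hk] at hmod
  have hrm : Nat.Coprime r m := by
    apply Nat.Coprime.coprime_dvd_right hm
    have : Nat.Coprime r (2 ^ 2) := Nat.Coprime.pow_right 2 ((Nat.coprime_primes hrp Nat.prime_two).2 hr2)
    simpa using this
  have hk1 : k ≤ 16 := Nat.le_of_dvd (by norm_num) hk16
  have hdiv : r ∣ 16 - k := by
    rw [mul_comm 16 m] at hmod
    have h2 : (m * k) ≡ m * 16 [MOD r] := hmod.symm
    have h3 := (Nat.modEq_iff_dvd' (Nat.mul_le_mul_left m hk1)).1 h2
    rw [← Nat.mul_sub] at h3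
    exact hrm.dvd_of_dvd_mul_left h3
  have hk5 : k = 1 ∨ k = 2 ∨ k = 4 ∨ k = 8 ∨ k = 16 := by
    have : k ∈ Nat.divisors 16 := Nat.mem_divisors.2 ⟨hk16, by norm_num⟩
    have h16 : Nat.divisors 16 = {1, 2, 4, 8, 16} := by decide
    rw [h16] at this
    simpa using this
  have hprime_dvd : ∀ a b : ℕ, r ∣ a * b → r ∣ a ∨ r ∣ b := fun a b h => (hrp.dvd_mul).1 h
  have heq : ∀ s : ℕ, s.Prime → r ∣ s → r = s := fun s hs h => (Nat.prime_dvd_prime_iff_eq hrp hs).1 h
  rcases hk5 with rfl | rfl | rfl | rfl | rfl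
  · -- k = 1
    have h15 : r ∣ 3 * 5 := by simpa using hdiv
    rcases hprime_dvd _ _ h15 with h | h
    · exact Or.inr (Or.inr ⟨heq 3 Nat.prime_three h, Or.inl (by rw [hk, mul_one])⟩)
    · exact Or.inr (Or.inl ⟨heq 5 Nat.prime_five h, by rw [hk, mul_one]⟩)
  · -- k = 2
    exfalso
    -- an element of `C_R(y)` outside `Z`
    have hne : ∃ g ∈ CR R y, g ∉ Z := by
      by_contra hcon
      push Not at hcon
      have h1 : CR R y ≤ Z := hcon
      have h2 := Subgroup.card_dvd_of_le h1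
      rw [hk, hZcard] at h2
      have := Nat.le_of_dvd hm0 h2
      omega
    obtain ⟨g, hgC, hgZ⟩ := hne
    have hgR := (mem_CR.1 hgC).1
    obtain ⟨h0, hh0R, hh0⟩ := hnc g hgR hgZ
    -- `C_R(y)` commutes with `g`
    have hcom : ∀ h ∈ CR R y, h * g = g * h := by
      intro h hh
      by_contra hcon
      -- then Z, gZ, hZ are three cosets
      have hindex : (Z.subgroupOf (CR R y)).index = 2 := by
        have h3 := Subgroup.card_mul_index (Z.subgroupOf (CR R y))
        rw [Nat.card_congr (Subgroup.subgroupOfEquivOfLe hZC).toEquiv, hZcard, hk] at h3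
        exact Nat.eq_of_mul_eq_mul_left hm0 h3
      have h4 := Subgroup.mul_mem_iff_of_index_two hindex (a := ⟨h, hh⟩) (b := ⟨g, hgC⟩)
      have hhZ : h ∉ Z := fun hz => hcon (hZc h hz g hgR)
      have h5 : h * g ∈ Z := by
        have : (⟨h, hh⟩ * ⟨g, hgC⟩ : CR R y) ∈ Z.subgroupOf (CR R y) := h4.2 (by
          constructor
          · intro h6; exact absurd (Subgroup.mem_subgroupOf.1 h6) hhZ
          · intro h6; exact absurd (Subgroup.mem_subgroupOf.1 h6) hgZ)
        exact Subgroup.mem_subgroupOf.1 this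
      apply hcon
      have h6 := hZc _ h5 g hgR
      have h7 : g * (h * g) = (g * h) * g := by group
      rw [h7] at h6
      exact mul_right_cancel h6
    -- the set of elements not commuting with `g`
    set S : Set G := {h | h ∈ R ∧ h * g ≠ g * h} with hSdef
    have hSR : S ⊆ (R : Set G) := fun h hh => hh.1
    have hSfin : S.Finite := (Set.toFinite (R : Set G)).subset hSR
    have hgy : g * y = y * g := (mem_CR.1 hgC).2
    have hSy : ∀ h ∈ S, y * h * y⁻¹ ∈ S := by
      rintro h ⟨hR, hne⟩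
      refine ⟨hy h hR, fun hcon => hne ?_⟩
      have h1 : y⁻¹ * g = g * y⁻¹ := by
        rw [inv_mul_eq_iff_eq_mul, ← mul_assoc, ← hgy, mul_inv_cancel_right]
      have h2 : y * (h * g) * y⁻¹ = y * (g * h) * y⁻¹ := by
        calc y * (h * g) * y⁻¹ = y * h * (g * y⁻¹) := by group
          _ = y * h * (y⁻¹ * g) := by rw [h1]
          _ = y * h * y⁻¹ * g := by group
          _ = g * (y * h * y⁻¹) := hcon
          _ = (g * y) * h * y⁻¹ := by group
          _ = (y * g) * h * y⁻¹ := by rw [hgy]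
          _ = y * (g * h) * y⁻¹ := by group
      exact mul_left_cancel (mul_right_cancel h2)
    have hmodS := card_modEq_set hSfin hSy (r := r) (fun h hh => hr h hh.1)
    have hzero : Nat.card {h : G // h ∈ S ∧ h * y = y * h} = 0 := by
      rw [Nat.card_eq_zero]
      left
      refine ⟨fun h => ?_⟩
      exact h.2.1.2 (hcom h.1 (mem_CR.2 ⟨h.2.1.1, h.2.2⟩))
    rw [hzero] at hmodS
    have hrS : r ∣ Nat.card S := (Nat.modEq_zero_iff_dvd).1 hmodS
    -- |R| = 2 |S|
    have hSD : Nat.card S = Nat.card (CR R g) := by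
      apply Nat.card_congr
      refine
        { toFun := fun h => ⟨h0⁻¹ * h.1, mem_CR.2 ⟨R.mul_mem (R.inv_mem hh0R) h.2.1, ?_⟩⟩
          invFun := fun h => ⟨h0 * h.1, R.mul_mem hh0R (CR_le h.2), ?_⟩
          left_inv := fun h => by simp
          right_inv := fun h => by simp }
      · have h1 := (hcomm g hgR h.1 h.2.1).resolve_left h.2.2
        have h2 := (hcomm g hgR h0 hh0R).resolve_left hh0
        have h2' : h0⁻¹ * g = e * (g * h0⁻¹) := by
          have h3 : h0⁻¹ * (h0 * g) * h0⁻¹ = h0⁻¹ * (e * (g * h0)) * h0⁻¹ := by rw [h2]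
          have h4 : h0⁻¹ * (h0 * g) * h0⁻¹ = g * h0⁻¹ := by group
          have h5 : h0⁻¹ * (e * (g * h0)) * h0⁻¹ = h0⁻¹ * e * g := by group
          rw [h4, h5] at h3
          have h6 : h0⁻¹ * e = e * h0⁻¹ := (hZc e heZ _ (R.inv_mem hh0R)).symm
          rw [h6] at h3
          rw [h3, ← mul_assoc, ← mul_assoc, hee, one_mul]
        calc h0⁻¹ * h.1 * g = h0⁻¹ * (h.1 * g) := by group
          _ = h0⁻¹ * (e * (g * h.1)) := by rw [h1]
          _ = (h0⁻¹ * e) * (g * h.1) := by group
          _ = (e * h0⁻¹) * (g * h.1) := by rw [← hZc e heZ _ (R.inv_mem hh0R)]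
          _ = e * (h0⁻¹ * g) * h.1 := by group
          _ = e * (e * (g * h0⁻¹)) * h.1 := by rw [h2']
          _ = (e * e) * (g * (h0⁻¹ * h.1)) := by group
          _ = g * (h0⁻¹ * h.1) := by rw [hee, one_mul]
      · intro hcon
        apply hh0
        have h1 := (mem_CR.1 h.2).2
        have h2 : h0 * h.1 * g = (h0 * g) * h.1 := by rw [mul_assoc, h1]; group
        rw [h2, ← mul_assoc] at hcon
        exact mul_right_cancel hcon
    have hRS : Nat.card R = Nat.card S + Nat.card (CR R g) := by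
      have hunion : (R : Set G) = S ∪ (CR R g : Set G) := by
        ext h
        simp only [SetLike.mem_coe, Set.mem_union, hSdef, Set.mem_ofPred_eq, mem_CR]
        tauto
      have hdis : Disjoint S (CR R g : Set G) := by
        rw [Set.disjoint_left]
        intro h hh hh2
        exact hh.2 (mem_CR.1 hh2).2
      have h1 := Set.ncard_union_eq hdis hSfin ((Set.toFinite (R : Set G)).subset CR_le)
      rw [← hunion] at h1
      rw [← Nat.card_coe_set_eq, ← Nat.card_coe_set_eq, ← Nat.card_coe_set_eq] at h1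
      exact h1
    rw [← hSD, hcard] at hRS
    have h8 : Nat.card S = 8 * m := by omega
    rw [h8] at hrS
    rcases hprime_dvd _ _ hrS with h | h
    · have : r ∣ 2 ^ 3 := by simpa using h
      exact hr2 (heq 2 Nat.prime_two (hrp.dvd_of_dvd_pow this))
    · exact hrp.one_lt.ne' (Nat.Coprime.eq_one_of_dvd hrm h)
  · -- k = 4
    have h12 : r ∣ 3 * (2 * 2) := by simpa using hdiv
    rcases hprime_dvd _ _ h12 with h | h
    · exact Or.inr (Or.inr ⟨heq 3 Nat.prime_three h, Or.inr (by rw [hk, mul_comm])⟩)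
    · rcases hprime_dvd _ _ h with h | h
      · exact absurd (heq 2 Nat.prime_two h) hr2
      · exact absurd (heq 2 Nat.prime_two h) hr2
  · -- k = 8
    exfalso
    have h8 : r ∣ 2 ^ 3 := by simpa using hdiv
    exact hr2 (heq 2 Nat.prime_two (hrp.dvd_of_dvd_pow h8))
  · -- k = 16
    left
    have h1 : CR R y = R := by
      apply Subgroup.eq_of_le_of_card_ge CR_le
      rw [hk, hcard, mul_comm]
    intro g hg
    rw [← h1] at hg
    exact (mem_CR.1 hg).2

end Group

section Trace

variable {ι : Type} [Fintype ι] [DecidableEq ι] {F : Type*} [Field F]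

/-- Commuting with everything in `R` means scalar. -/
def Comm1 (R : Subgroup (GL ι F)) : Prop :=
  ∀ M : Matrix ι ι F, (∀ s ∈ R, M * (s : Matrix ι ι F) = (s : Matrix ι ι F) * M) → ∃ c : F, M = c • (1 : Matrix ι ι F)

theorem comm1_of_absIrr {R : Subgroup (GL ι F)} (h : ActsAbsolutelyIrreducibly (matrixSet R)) : Comm1 R := by
  intro M hM
  apply h.2
  rintro _ ⟨g, hg, rfl⟩
  exact hM g hg

/-- The trace formula. -/
theorem trace_formula {R : Subgroup (GL ι F)} [Finite R] (habs : Comm1 R)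
    (htr : ∀ g ∈ R, g ∉ scalars ι F → Matrix.trace (g : Matrix ι ι F) = 0) {y : GL ι F}
    (hy : ∀ g ∈ R, y * g * y⁻¹ ∈ R)
    (hfix : ∀ g ∈ R, g * (y * g⁻¹ * y⁻¹) ∈ scalars ι F → g * y = y * g) :
    ((Fintype.card ι : ℕ) : F) ^ 2 * (Nat.card (CR R y) : F) =
      (Nat.card R : F) * Matrix.trace (y : Matrix ι ι F) * Matrix.trace ((y⁻¹ : GL ι F) : Matrix ι ι F) := by
  classical
  have := Fintype.ofFinite R
  set S : Matrix ι ι F := ∑ g : R, ((g : GL ι F) : Matrix ι ι F) * (y : Matrix ι ι F) *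
    (((g : GL ι F)⁻¹ : GL ι F) : Matrix ι ι F) with hS
  have hcomm : ∀ s ∈ R, S * (s : Matrix ι ι F) = (s : Matrix ι ι F) * S := by
    intro s hs
    have h1 : (s : Matrix ι ι F) * S * ((s⁻¹ : GL ι F) : Matrix ι ι F) = S := by
      rw [hS, Finset.mul_sum, Finset.sum_mul]
      refine Fintype.sum_equiv (Equiv.mulLeft (⟨s, hs⟩ : R)) _ _ (fun g => ?_)
      simp only [Equiv.coe_mulLeft, Subgroup.coe_mul, _root_.mul_inv_rev, Units.val_mul, Matrix.mul_assoc]
    calc S * (s : Matrix ι ι F) = (s : Matrix ι ι F) * S * ((s⁻¹ : GL ι F) : Matrix ι ι F) * (s : Matrix ι ι F) := by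
          rw [h1]
      _ = (s : Matrix ι ι F) * S := by
          rw [Matrix.mul_assoc, ← Units.val_mul, inv_mul_cancel, Units.val_one, Matrix.mul_one]
  obtain ⟨c, hc⟩ := habs S hcomm
  have htrS : Matrix.trace S = (Nat.card R : F) * Matrix.trace (y : Matrix ι ι F) := by
    rw [hS, Matrix.trace_sum, Nat.card_eq_fintype_card]
    rw [Finset.sum_congr rfl (g := fun _ => Matrix.trace (y : Matrix ι ι F))]
    · rw [Finset.sum_const, Finset.card_univ, nsmul_eq_mul]
    · intro g _
      rw [Matrix.mul_assoc, Matrix.trace_mul_comm, Matrix.mul_assoc, ← Units.val_mul, inv_mul_cancel,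
        Units.val_one, Matrix.mul_one]
  have h2 : c * (Fintype.card ι : F) = (Nat.card R : F) * Matrix.trace (y : Matrix ι ι F) := by
    rw [← htrS, hc, Matrix.trace_smul, Matrix.trace_one, smul_eq_mul]
  -- multiply by `y⁻¹`
  have h3 : Matrix.trace (S * ((y⁻¹ : GL ι F) : Matrix ι ι F)) =
      (Nat.card (CR R y) : F) * (Fintype.card ι : F) := by
    rw [hS, Finset.sum_mul, Matrix.trace_sum]
    have h4 : ∀ g : R, Matrix.trace (((g : GL ι F) : Matrix ι ι F) * (y : Matrix ι ι F) *
        (((g : GL ι F)⁻¹ : GL ι F) : Matrix ι ι F) * ((y⁻¹ : GL ι F) : Matrix ι ι F)) =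
        if (g : GL ι F) * y = y * g then (Fintype.card ι : F) else 0 := by
      intro g
      rw [← Units.val_mul, ← Units.val_mul, ← Units.val_mul]
      split_ifs with h
      · rw [h, mul_inv_cancel_right, mul_inv_cancel, Units.val_one, Matrix.trace_one]
      · have h5 : (g : GL ι F) * y * (g : GL ι F)⁻¹ * y⁻¹ = g * (y * (g : GL ι F)⁻¹ * y⁻¹) := by group
        rw [h5]
        apply htr
        · exact R.mul_mem g.2 (hy _ (R.inv_mem g.2))
        · exact fun hcon => h (hfix g g.2 hcon)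
    rw [Finset.sum_congr rfl (fun g _ => h4 g), ← Finset.sum_filter, Finset.sum_const, nsmul_eq_mul]
    congr 2
    rw [← Fintype.card_subtype, ← Nat.card_eq_fintype_card]
    apply Nat.card_congr
    exact
      { toFun := fun g => ⟨g.1.1, mem_CR.2 ⟨g.1.2, g.2⟩⟩
        invFun := fun g => ⟨⟨g.1, (mem_CR.1 g.2).1⟩, (mem_CR.1 g.2).2⟩
        left_inv := fun g => rfl
        right_inv := fun g => rfl }
  rw [hc, Matrix.smul_mul, Matrix.one_mul, Matrix.trace_smul, smul_eq_mul] at h3
  linear_combination (-(Fintype.card ι : F)) * h3 + Matrix.trace ((y⁻¹ : GL ι F) : Matrix ι ι F) * h2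

end Trace

end Cfsg.Agent.H960
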