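import Cfsg.Agent.H960.HeisN

/-!
Elements of order two and three modulo scalars are conjugate into `N(R)`, `|R| = 27` (H960).
-/

set_option autoImplicit false
set_option linter.unusedSimpArgs false
open Cfsg Cfsg.Geo Matrix
open scoped MatrixGroups

namespace Cfsg.Agent.H960

variable {F : Type*} [Field F]

/-- minus the transposition -/
def P0 : Matrix (Fin 3) (Fin 3) F := !![-1, 0, 0; 0, 0, -1; 0, -1, 0]

/-- the diagonal matrix `(1, 1, ω)` -/
def T0 (ω : F) : Matrix (Fin 3) (Fin 3) F := Matrix.diagonal ![1, 1, ω]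

theorem T0_eq (ω : F) : T0 ω = !![1, 0, 0; 0, 1, 0; 0, 0, ω] := by
  ext i j
  fin_cases i <;> fin_cases j <;> simp [T0]

theorem P0_A0 {ω : F} (hω : ω * ω + ω + 1 = 0) : P0 * A0 ω = A0 ω * A0 ω * P0 := by
  have hω3 : ω * ω * (ω * ω) = ω := by linear_combination (ω * ω - ω) * hω
  rw [A0_eq]
  ext i j
  fin_cases i <;> fin_cases j <;> simp [P0, Matrix.mul_apply, Fin.sum_univ_three, hω3]

theorem P0_C0 : (P0 : Matrix (Fin 3) (Fin 3) F) * C0 = C0 * C0 * P0 := by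
  ext i j
  fin_cases i <;> fin_cases j <;> simp [P0, C0, Matrix.mul_apply, Fin.sum_univ_three]

theorem P0_P0 : (P0 : Matrix (Fin 3) (Fin 3) F) * P0 = 1 := by
  ext i j
  fin_cases i <;> fin_cases j <;> simp [P0, Matrix.mul_apply, Fin.sum_univ_three]

theorem P0_det : (P0 : Matrix (Fin 3) (Fin 3) F).det = 1 := by
  rw [Matrix.det_fin_three]
  simp [P0]

theorem T0_A0 (ω : F) : T0 ω * A0 ω = A0 ω * T0 ω := by
  rw [T0, A0, Matrix.diagonal_mul_diagonal, Matrix.diagonal_mul_diagonal]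
  simp only [mul_comm]

theorem T0_C0 {ω : F} (hω : ω * ω + ω + 1 = 0) : T0 ω * C0 = (ω * ω) • (A0 ω * C0) * T0 ω := by
  have hω3 : ω * (ω * ω) = 1 := by linear_combination (ω - 1) * hω
  have hω4 : ω * ω * ω = 1 := by linear_combination (ω - 1) * hω
  have hω5 : ω * ω * (ω * ω) = ω := by linear_combination (ω * ω - ω) * hω
  rw [T0_eq, A0_eq]
  ext i j
  fin_cases i <;> fin_cases j <;> simp [C0, Matrix.mul_apply, Fin.sum_univ_three, hω3, hω4, hω5]

theorem perm_P0 : (Equiv.swap (1 : Fin 3) 2).permMatrix F = -P0 := by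
  ext i j
  fin_cases i <;> fin_cases j <;> simp [P0, Equiv.Perm.permMatrix, PEquiv.toMatrix, Equiv.swap_apply_def]

section

variable {R : Subgroup (GL (Fin 3) F)} {Q a b : GL (Fin 3) F} {ω : F}

theorem Heis.conj_mul (H : Heis R Q a b ω) : ((Q⁻¹ * a * Q : GL (Fin 3) F) : Matrix (Fin 3) (Fin 3) F) = A0 ω ∧
    ((Q⁻¹ * b * Q : GL (Fin 3) F) : Matrix (Fin 3) (Fin 3) F) = C0 := ⟨conj_coe H.aQ, conj_coe H.bQ⟩

/-- the involution in `N(R)` -/
theorem Heis.P_mem [Finite R] (H : Heis R Q a b ω) {P : GL (Fin 3) F} (hP : (P : Matrix (Fin 3) (Fin 3) F) = P0) :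
    Q * P * Q⁻¹ ∈ subgroupNormalizer R := by
  obtain ⟨hA, hB⟩ := H.conj_mul
  have e1 : P * (Q⁻¹ * a * Q) = (Q⁻¹ * a * Q) * (Q⁻¹ * a * Q) * P := by
    apply m_ext
    rw [Units.val_mul P, Units.val_mul _ P, Units.val_mul (Q⁻¹ * a * Q), hA, hP, P0_A0 H.hω]
  have e2 : P * (Q⁻¹ * b * Q) = (Q⁻¹ * b * Q) * (Q⁻¹ * b * Q) * P := by
    apply m_ext
    rw [Units.val_mul P, Units.val_mul _ P, Units.val_mul (Q⁻¹ * b * Q), hB, hP, P0_C0]
  apply H.mem_normalizer (a' := a * a) (b' := b * b) (R.mul_mem H.ha H.ha) (R.mul_mem H.hb H.hb)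
  · calc Q * P * Q⁻¹ * a = Q * (P * (Q⁻¹ * a * Q)) * Q⁻¹ := by group
      _ = Q * ((Q⁻¹ * a * Q) * (Q⁻¹ * a * Q) * P) * Q⁻¹ := by rw [e1]
      _ = a * a * (Q * P * Q⁻¹) := by group
  · calc Q * P * Q⁻¹ * b = Q * (P * (Q⁻¹ * b * Q)) * Q⁻¹ := by group
      _ = Q * ((Q⁻¹ * b * Q) * (Q⁻¹ * b * Q) * P) * Q⁻¹ := by rw [e2]
      _ = b * b * (Q * P * Q⁻¹) := by group

/-- the diagonal element in `N(R)` -/
theorem Heis.T_mem [Finite R] (H : Heis R Q a b ω) {T : GL (Fin 3) F} (hT : (T : Matrix (Fin 3) (Fin 3) F) = T0 ω) :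
    Q * T * Q⁻¹ ∈ subgroupNormalizer R := by
  obtain ⟨hA, hB⟩ := H.conj_mul
  obtain ⟨z, hz, hzm⟩ := H.comm
  have hzs : z ∈ scalars (Fin 3) F := (mem_scalars_iff' _).2 ⟨ω, hzm⟩
  have e1 : T * (Q⁻¹ * a * Q) = (Q⁻¹ * a * Q) * T := by
    apply m_ext
    rw [Units.val_mul T, Units.val_mul _ T, hA, hT, T0_A0]
  have e2 : T * (Q⁻¹ * b * Q) = z * z * ((Q⁻¹ * a * Q) * (Q⁻¹ * b * Q)) * T := by
    apply m_ext
    rw [Units.val_mul T, Units.val_mul _ T, Units.val_mul (z * z), Units.val_mul z z, Units.val_mul (Q⁻¹ * a * Q), hA,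
      hB, hT, T0_C0 H.hω, hzm]
    simp only [Matrix.smul_mul, Matrix.one_mul, smul_smul]
  apply H.mem_normalizer (a' := a) (b' := z * z * (a * b)) H.ha
    (R.mul_mem (R.mul_mem hz hz) (R.mul_mem H.ha H.hb))
  · calc Q * T * Q⁻¹ * a = Q * (T * (Q⁻¹ * a * Q)) * Q⁻¹ := by group
      _ = Q * ((Q⁻¹ * a * Q) * T) * Q⁻¹ := by rw [e1]
      _ = a * (Q * T * Q⁻¹) := by group
  · have hc : Q * (z * z) = z * z * Q := (comm_of_scalar ((scalars (Fin 3) F).mul_mem hzs hzs) Q).symm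
    calc Q * T * Q⁻¹ * b = Q * (T * (Q⁻¹ * b * Q)) * Q⁻¹ := by group
      _ = Q * (z * z * ((Q⁻¹ * a * Q) * (Q⁻¹ * b * Q)) * T) * Q⁻¹ := by rw [e2]
      _ = (Q * (z * z)) * Q⁻¹ * (a * b) * (Q * T * Q⁻¹) := by group
      _ = z * z * (a * b) * (Q * T * Q⁻¹) := by rw [hc]; group

end

theorem det3_scalar {z : GL (Fin 3) F} {c : F} (h : (z : Matrix (Fin 3) (Fin 3) F) = c • (1 : Matrix (Fin 3) (Fin 3) F)) :
    (z : Matrix (Fin 3) (Fin 3) F).det = c ^ 3 := by
  rw [h, Matrix.det_smul, Matrix.det_one, Fintype.card_fin, mul_one]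

/-- passing to a scalar multiple -/
theorem lhs_scale {n : ℕ} {G R : Subgroup (GL (Fin n) F)} {x z : GL (Fin n) F} (hz : z ∈ scalars (Fin n) F)
    (h : ∃ g ∈ G, g⁻¹ * (z * x) * g ∈ subgroupNormalizer R) : ∃ g ∈ G, g⁻¹ * x * g ∈ subgroupNormalizer R := by
  obtain ⟨g, hg, hgN⟩ := h
  refine ⟨g, hg, ?_⟩
  have hzi := (scalars (Fin n) F).inv_mem hz
  have h1 : g⁻¹ * x * g = z⁻¹ * (g⁻¹ * (z * x) * g) := by
    have h3 : z⁻¹ * g⁻¹ = g⁻¹ * z⁻¹ := comm_of_scalar hzi _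
    calc g⁻¹ * x * g = g⁻¹ * z⁻¹ * (z * x) * g := by group
      _ = z⁻¹ * g⁻¹ * (z * x) * g := by rw [h3]
      _ = _ := by group
  rw [h1]
  exact (subgroupNormalizer R).mul_mem (scalars_le_normalizer R hzi) hgN

/-- elements of order two modulo scalars -/
theorem heis_two {G0 : Subgroup (GL (Fin 3) F)} {U : F → Prop} (h2 : (2 : F) ≠ 0) (hA : Amb G0 U) (hU : U (-1))
    {R : Subgroup (GL (Fin 3) F)} [Finite R] {Q a b : GL (Fin 3) F} {ω : F} (H : Heis R Q a b ω) (hQ : Q ∈ G0)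
    (hdiag : ∀ y ∈ G0, y * y = 1 → ∃ B ∈ G0, ∃ s : Fin 3 → F, (∀ i, s i = 1 ∨ s i = -1) ∧
      (y : Matrix (Fin 3) (Fin 3) F) * (B : Matrix (Fin 3) (Fin 3) F) = B * Matrix.diagonal s) :
    Lhs (G0 ⊓ specialLinear (Fin 3) F) R 2 := by
  have h11 : (1 : F) ≠ -1 := fun h => h2 (by linear_combination h)
  obtain ⟨P1, hP1, hP1m⟩ := hA.perm (Equiv.swap (1 : Fin 3) 2)
  obtain ⟨m, hm, hmm⟩ := hA.diag (fun _ => -1) (fun _ => hU)
  rw [← Matrix.smul_one_eq_diagonal, neg_smul, one_smul] at hmm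
  obtain ⟨P, hPd⟩ : ∃ P, P = m * P1 := ⟨_, rfl⟩
  have hP : (P : Matrix (Fin 3) (Fin 3) F) = P0 := by
    rw [hPd, Units.val_mul, hmm, hP1m, perm_P0, neg_mul, one_mul, neg_neg]
  have hPG : P ∈ G0 := by rw [hPd]; exact G0.mul_mem hm hP1
  have hPP : P * P = 1 := m_ext (by rw [Units.val_mul, hP, P0_P0, Units.val_one])
  have key : ∀ y ∈ G0, y * y = 1 → (y : Matrix (Fin 3) (Fin 3) F).det = 1 → y ≠ 1 → ∃ B ∈ G0, ∃ s : Fin 3 → F,
      (∀ i, s i = 1 ∨ s i = -1) ∧ (y : Matrix (Fin 3) (Fin 3) F) * (B : Matrix (Fin 3) (Fin 3) F) = B * Matrix.diagonal s ∧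
      cnt s = 2 := by
    intro y hy hyy hdet hy1
    obtain ⟨B, hB, s, hs, hys⟩ := hdiag y hy hyy
    refine ⟨B, hB, s, hs, hys, ?_⟩
    rw [det_of_diag hys, sign_prod hs] at hdet
    have h0 : cnt s ≠ 0 := by
      intro h
      apply hy1
      apply m_ext
      rw [eq_of_diag hys (cnt_eq_zero hs h), one_smul, Units.val_one]
    have h3 := cnt_le s
    interval_cases h8 : cnt s
    · exact absurd rfl h0
    · exact absurd (by linear_combination -hdet : (1 : F) = -1) h11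
    · rfl
    · exact absurd (by linear_combination -hdet : (1 : F) = -1) h11
  have hy1G : Q * P * Q⁻¹ ∈ G0 := G0.mul_mem (G0.mul_mem hQ hPG) (G0.inv_mem hQ)
  have hQQ : (Q : Matrix (Fin 3) (Fin 3) F).det * ((Q⁻¹ : GL (Fin 3) F) : Matrix (Fin 3) (Fin 3) F).det = 1 := by
    rw [← Matrix.det_mul, ← Units.val_mul, mul_inv_cancel, Units.val_one, Matrix.det_one]
  obtain ⟨C, hC, t, ht, hyt, hct⟩ := key (Q * P * Q⁻¹) hy1G
    (by
      calc Q * P * Q⁻¹ * (Q * P * Q⁻¹) = Q * (P * P) * Q⁻¹ := by group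
        _ = 1 := by rw [hPP]; group)
    (by
      rw [Units.val_mul, Units.val_mul, Matrix.det_mul, Matrix.det_mul, hP, P0_det, mul_one, hQQ])
    (by
      intro h
      have h1 : P = 1 := by
        calc P = Q⁻¹ * (Q * P * Q⁻¹) * Q := by group
          _ = 1 := by rw [h]; group
      have h3 := congrArg (fun g : GL (Fin 3) F => (g : Matrix (Fin 3) (Fin 3) F) 0 0) h1
      simp [hP, P0] at h3
      exact h11 h3.symm)
  intro x hx hxr hxs
  have hxG : x ∈ G0 := hx.1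
  have hxdet : (x : Matrix (Fin 3) (Fin 3) F).det = 1 := (mem_sl x).1 hx.2
  obtain ⟨c, hc⟩ := (mem_scalars_iff' _).1 hxr
  have hc3 : c ^ 3 = 1 := by
    rw [← det3_scalar hc, Units.val_pow_eq_pow_val, Matrix.det_pow, hxdet, one_pow]
  have hx23 : (x ^ 2) ^ 3 = 1 := by
    apply m_ext
    rw [Units.val_pow_eq_pow_val, hc, smul_pow, hc3, one_smul, one_pow, Units.val_one]
  apply lhs_scale (z := x ^ 2) hxr
  have hne : x ^ 2 * x ≠ 1 := by
    intro h
    apply hxs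
    have h1 : x = (x ^ 2)⁻¹ := (inv_eq_of_mul_eq_one_right h).symm
    rw [h1]
    exact (scalars (Fin 3) F).inv_mem hxr
  obtain ⟨B, hB, s, hs, hxB, hcs⟩ := key (x ^ 2 * x) (G0.mul_mem (G0.pow_mem hxG 2) hxG)
    (by rw [← hx23]; group)
    (by
      rw [Units.val_mul, Units.val_pow_eq_pow_val, Matrix.det_mul, Matrix.det_pow, hxdet, one_pow, one_mul]) hne
  obtain ⟨σ, hσ⟩ := sign_perm h2 hs ht (hcs.trans hct.symm)
  obtain ⟨g, hg, hgy⟩ := hA.conj 0 hB hC hxB hyt σ hσ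
  exact ⟨g, hg, by rw [hgy]; exact H.P_mem hP⟩

/-- elements of order three modulo scalars, when all cube roots of unity are cubes in `U` -/
theorem heis_three {G0 : Subgroup (GL (Fin 3) F)} {U : F → Prop} (h3 : (3 : F) ≠ 0) (hA : Amb G0 U)
    {R : Subgroup (GL (Fin 3) F)} [Finite R] {Q a b : GL (Fin 3) F} {ω : F} (H : Heis R Q a b ω) (hQ : Q ∈ G0)
    (hU : ∀ c, c ^ 3 = 1 → U c)
    (hdiag : ∀ y ∈ G0, y ^ 3 = 1 → ∃ B ∈ G0, ∃ s : Fin 3 → F, (∀ i, s i ^ 3 = 1) ∧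
      (y : Matrix (Fin 3) (Fin 3) F) * (B : Matrix (Fin 3) (Fin 3) F) = B * Matrix.diagonal s)
    (hroot : ∀ c : F, c ^ 3 = 1 → ∃ ζ, U ζ ∧ ζ ^ 3 = c) :
    Lhs (G0 ⊓ specialLinear (Fin 3) F) R 3 := by
  have hω := H.hω
  obtain ⟨hω1, hω2, hω12, hω0⟩ := omega_ne h3 hω
  have hω3 : ω * ω * ω = 1 := by linear_combination (ω - 1) * hω
  obtain ⟨T, hTG, hT⟩ := hA.diag ![1, 1, ω] (fun i => by
    fin_cases i
    · exact hA.one
    · exact hA.one
    · exact hU ω (by linear_combination hω3))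
  have hTN : Q * T * Q⁻¹ ∈ subgroupNormalizer R := H.T_mem hT
  -- targets
  have target : ∀ (c : F) (k : ℕ), c ^ 3 = 1 → ∃ y ∈ subgroupNormalizer R,
      (y : Matrix (Fin 3) (Fin 3) F) * (Q : Matrix (Fin 3) (Fin 3) F) = Q * Matrix.diagonal ![c, c, c * ω ^ k] := by
    intro c k hc
    obtain ⟨m, hm, hmm⟩ := hA.diag (fun _ => c) (fun _ => hU c hc)
    rw [← Matrix.smul_one_eq_diagonal] at hmm
    have hms : m ∈ scalars (Fin 3) F := (mem_scalars_iff' _).2 ⟨c, hmm⟩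
    refine ⟨m * (Q * T * Q⁻¹) ^ k, (subgroupNormalizer R).mul_mem (scalars_le_normalizer R hms)
      ((subgroupNormalizer R).pow_mem hTN k), ?_⟩
    have e1 : (Q * T * Q⁻¹) ^ k = Q * T ^ k * Q⁻¹ := by
      have := conj_pow (i := k) (a := Q) (b := T)
      exact this
    have e2 : m * (Q * T * Q⁻¹) ^ k * Q = Q * (m * T ^ k) := by
      rw [e1]
      calc m * (Q * T ^ k * Q⁻¹) * Q = (m * Q) * T ^ k := by group
        _ = Q * (m * T ^ k) := by rw [comm_of_scalar hms, mul_assoc]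
    rw [← Units.val_mul, e2, Units.val_mul, Units.val_mul, Units.val_pow_eq_pow_val, hT, hmm, Matrix.diagonal_pow,
      Matrix.smul_mul, Matrix.one_mul, ← Matrix.diagonal_smul]
    congr 2
    ext i
    fin_cases i <;> simp
  have final : ∀ y ∈ G0, y ^ 3 = 1 → y ∉ scalars (Fin 3) F → ∃ g ∈ G0 ⊓ specialLinear (Fin 3) F,
      g⁻¹ * y * g ∈ subgroupNormalizer R := by
    intro y hy hy3 hys
    obtain ⟨B, hB, s, hs, hyB⟩ := hdiag y hy hy3
    have hconst : ¬ ∀ i, s i = s 0 := by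
      intro h
      exact hys ((mem_scalars_iff' _).2 ⟨s 0, eq_of_diag hyB h⟩)
    have hs0 : ∀ i, s i ≠ 0 := by
      intro i h
      have := hs i
      rw [h, zero_pow (by norm_num)] at this
      exact zero_ne_one this
    -- `(c, c, d)` up to a permutation
    have two : ∀ (σ : Equiv.Perm (Fin 3)) (c d : F), c ^ 3 = 1 → d ^ 3 = 1 →
        (∀ i, (![c, c, d] : Fin 3 → F) (σ i) = s i) → ∃ g ∈ G0 ⊓ specialLinear (Fin 3) F,
        g⁻¹ * y * g ∈ subgroupNormalizer R := by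
      intro σ c d hc hd hσ
      have hc0 : c ≠ 0 := by
        rintro rfl
        rw [zero_pow (by norm_num)] at hc
        exact zero_ne_one hc
      obtain ⟨k, hk⟩ : ∃ k : ℕ, d = c * ω ^ k := by
        have h1 : (d / c) ^ 3 = 1 := by rw [div_pow, hc, hd, div_one]
        rcases cube_cases hω h1 with h | h | h
        · exact ⟨0, by rw [pow_zero, mul_one]; exact (div_eq_one_iff_eq hc0).1 h⟩
        · exact ⟨1, by rw [pow_one, ← h]; field_simp⟩
        · exact ⟨2, by rw [pow_two, ← h]; field_simp⟩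
      obtain ⟨y', hy'N, hy'⟩ := target c k hc
      rw [← hk] at hy'
      obtain ⟨g, hg, hgy⟩ := hA.conj 0 hB hQ hyB hy' σ hσ
      exact ⟨g, hg, by rw [hgy]; exact hy'N⟩
    by_cases h01 : s 0 = s 1
    · apply two 1 (s 0) (s 2) (hs 0) (hs 2)
      intro i
      fin_cases i
      · rfl
      · exact h01
      · rfl
    by_cases h02 : s 0 = s 2
    · apply two (Equiv.swap 1 2) (s 0) (s 1) (hs 0) (hs 1)
      intro i
      fin_cases i
      · rfl
      · rfl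
      · exact h02
    by_cases h12 : s 1 = s 2
    · apply two (Equiv.swap 0 2) (s 1) (s 0) (hs 1) (hs 0)
      intro i
      fin_cases i
      · rfl
      · rfl
      · exact h12
    · -- distinct eigenvalues
      have hex : ∀ i, ∃ k, (![1, ω, ω * ω] : Fin 3 → F) k = s i := by
        intro i
        rcases cube_cases hω (hs i) with h | h | h
        · exact ⟨0, h.symm⟩
        · exact ⟨1, h.symm⟩
        · exact ⟨2, h.symm⟩
      choose f hf using hex
      have hinj : Function.Injective f := by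
        intro i k hik
        have h1 : s i = s k := by rw [← hf, ← hf, hik]
        fin_cases i <;> fin_cases k
        · rfl
        · exact absurd h1 h01
        · exact absurd h1 h02
        · exact absurd h1.symm h01
        · rfl
        · exact absurd h1 h12
        · exact absurd h1.symm h02
        · exact absurd h1.symm h12
        · rfl
      obtain ⟨g, hg, hgy⟩ := hA.conj 0 hB hQ hyB H.aQ (Equiv.ofBijective f (Finite.injective_iff_bijective.1 hinj)) hf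
      exact ⟨g, hg, by rw [hgy]; exact le_normalizer R H.ha⟩
  intro x hx hxr hxs
  have hxG : x ∈ G0 := hx.1
  have hxdet : (x : Matrix (Fin 3) (Fin 3) F).det = 1 := (mem_sl x).1 hx.2
  obtain ⟨c, hc⟩ := (mem_scalars_iff' _).1 hxr
  have hc3 : c ^ 3 = 1 := by
    rw [← det3_scalar hc, Units.val_pow_eq_pow_val, Matrix.det_pow, hxdet, one_pow]
  obtain ⟨ζ, hζU, hζ⟩ := hroot c hc3
  obtain ⟨m, hm, hmm⟩ := hA.diag (fun _ => ζ) (fun _ => hζU)
  rw [← Matrix.smul_one_eq_diagonal] at hmm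
  have hms : m ∈ scalars (Fin 3) F := (mem_scalars_iff' _).2 ⟨ζ, hmm⟩
  have hmi := (scalars (Fin 3) F).inv_mem hms
  apply lhs_scale (z := m⁻¹) hmi
  apply final _ (G0.mul_mem (G0.inv_mem hm) hxG)
  · have hcm : Commute m⁻¹ x := comm_of_scalar hmi x
    have h1 : m ^ 3 = x ^ 3 := by
      apply m_ext
      rw [Units.val_pow_eq_pow_val, hmm, smul_pow, hζ, one_pow, hc]
    rw [hcm.mul_pow, ← h1, inv_pow, inv_mul_cancel]
  · intro h
    apply hxs
    have h1 : x = m * (m⁻¹ * x) := by group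
    rw [h1]
    exact (scalars (Fin 3) F).mul_mem hms h

/-- no element of prime order at least five -/
theorem heis_five {G0 : Subgroup (GL (Fin 3) F)} [Finite F] (h3 : (3 : F) ≠ 0) {R : Subgroup (GL (Fin 3) F)}
    (hR : Nat.card R = 27) {Q a b : GL (Fin 3) F} {ω : F} (H : Heis R Q a b ω) {r : ℕ} [Fact r.Prime] (hr2 : r ≠ 2)
    (hr3 : r ≠ 3) (hΩ : r ∣ (subgroupNormalizer R).relIndex (G0 ⊓ specialLinear (Fin 3) F)) :
    ¬ Lhs (G0 ⊓ specialLinear (Fin 3) F) R r := by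
  intro L
  have hr : r.Prime := Fact.out
  have hfinR : Finite R := Nat.finite_of_card_ne_zero (by rw [hR]; norm_num)
  have hfinG : Finite (GL (Fin 3) F) := inferInstance
  have hrG : r ∣ Nat.card (G0 ⊓ specialLinear (Fin 3) F : Subgroup (GL (Fin 3) F)) :=
    hΩ.trans (Subgroup.relIndex_dvd_card _ _)
  obtain ⟨x0, hx0⟩ := exists_prime_orderOf_dvd_card' (G := (G0 ⊓ specialLinear (Fin 3) F : Subgroup (GL (Fin 3) F))) r hrG
  have hx0r : (x0 : GL (Fin 3) F) ^ r = 1 := by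
    have : x0 ^ r = 1 := orderOf_dvd_iff_pow_eq_one.1 (by rw [hx0])
    exact congrArg Subtype.val this
  have hx01 : (x0 : GL (Fin 3) F) ≠ 1 := by
    intro h
    have h1 : x0 = 1 := Subtype.ext h
    rw [h1, orderOf_one] at hx0
    exact hr.one_lt.ne hx0
  have hxs : (x0 : GL (Fin 3) F) ∉ scalars (Fin 3) F := by
    intro hs
    obtain ⟨c, hc⟩ := (mem_scalars_iff' _).1 hs
    have h1 := det3_scalar hc
    rw [(mem_sl _).1 x0.2.2] at h1
    have h4 : (x0 : GL (Fin 3) F) ^ 3 = 1 := by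
      apply m_ext
      rw [Units.val_pow_eq_pow_val, hc, smul_pow, ← h1, one_smul, one_pow, Units.val_one]
    exact hx01 (pow_eq_one_of_coprime h4 hx0r ((Nat.coprime_primes Nat.prime_three hr).2 (Ne.symm hr3)))
  obtain ⟨g, hg, hgN⟩ := L x0 x0.2 (by rw [hx0r]; exact (scalars (Fin 3) F).one_mem) hxs
  obtain ⟨y, hy⟩ : ∃ y, y = g⁻¹ * x0 * g := ⟨_, rfl⟩
  have hyr : y ^ r = 1 := by
    have := conj_pow (i := r) (a := g⁻¹) (b := (x0 : GL (Fin 3) F))
    rw [inv_inv] at this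
    rw [hy, this, hx0r]; simp
  have hys : y ∉ scalars (Fin 3) F := by
    intro h
    apply hxs
    have h1 : (x0 : GL (Fin 3) F) = g * y * g⁻¹ := by rw [hy]; group
    rw [h1, ← comm_of_scalar h, mul_inv_cancel_right]
    exact h
  rw [← hy] at hgN
  have hmod := card_modEq_CR (R := R) (y := y) (r := r) (fun g hg => mem_normalizer hgN hg)
    (fun g _ => by rw [hyr, one_mul, mul_one])
  rw [hR] at hmod
  have hdvd : Nat.card (CR R y) ∣ 27 := by
    rw [← hR]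
    exact Subgroup.card_dvd_of_le CR_le
  have h27 : Nat.card (CR R y) ≠ 27 := by
    intro h
    have heq : CR R y = R := by
      apply Subgroup.eq_of_le_of_card_ge CR_le
      rw [hR, h]
    apply hys
    have ha := H.ha
    have hb := H.hb
    rw [← heq, mem_CR] at ha hb
    exact H.scalar_of_comm h3 ha.2.symm hb.2.symm
  have h1 : Nat.card (CR R y) ≠ 1 := by
    intro h
    obtain ⟨z, hz, hzm⟩ := H.comm
    have hzs : z ∈ scalars (Fin 3) F := (mem_scalars_iff' _).2 ⟨ω, hzm⟩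
    have hzC : z ∈ CR R y := mem_CR.2 ⟨hz, comm_of_scalar hzs y⟩
    have hsub := (Nat.card_eq_one_iff_unique.1 h).1
    have h2 : (⟨z, hzC⟩ : CR R y) = 1 := Subsingleton.elim _ _
    have h4 : z = 1 := congrArg Subtype.val h2
    have h5 := congrArg (fun g : GL (Fin 3) F => (g : Matrix (Fin 3) (Fin 3) F) 0 0) h4
    simp only [hzm, Matrix.smul_apply, Units.val_one, Matrix.one_apply_eq, smul_eq_mul, mul_one] at h5
    exact (omega_ne h3 H.hω).1 h5
  have hr5 : 5 ≤ r := by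
    have := hr.two_le
    have h4 : r ≠ 4 := by rintro rfl; norm_num at hr
    omega
  have key : ∀ m : ℕ, m = 24 ∨ m = 18 → ¬ r ∣ m := by
    intro m hm hd
    have h6 : r ∣ 2 ^ 3 * 3 ^ 2 := by
      rcases hm with h | h
      · rw [h] at hd
        exact hd.trans (by norm_num)
      · rw [h] at hd
        exact hd.trans (by norm_num)
    rcases (Nat.Prime.dvd_mul hr).1 h6 with h | h
    · exact hr2 ((Nat.prime_dvd_prime_iff_eq hr Nat.prime_two).1 (hr.dvd_of_dvd_pow h))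
    · exact hr3 ((Nat.prime_dvd_prime_iff_eq hr Nat.prime_three).1 (hr.dvd_of_dvd_pow h))
  rcases dvd27 hdvd with h | h | h | h
  · exact h1 h
  · rw [h] at hmod
    exact key 24 (Or.inl rfl) ((Nat.modEq_iff_dvd' (by norm_num)).1 hmod.symm)
  · rw [h] at hmod
    exact key 18 (Or.inr rfl) ((Nat.modEq_iff_dvd' (by norm_num)).1 hmod.symm)
  · exact h27 h

end Cfsg.Agent.H960
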