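import Cfsg.Agent.H960.Three

/-!
Frames for matrices `M` with `M² + aM + b = 0`, `X² + aX + b` irreducible, in dimension four (H960).
-/

set_option autoImplicit false
set_option linter.unusedSimpArgs false
open Cfsg Cfsg.Geo Matrix
open scoped MatrixGroups

namespace Cfsg.Agent.H960

variable {F : Type*} [Field F]

theorem exists_GL_of_li {n : ℕ} {w : Fin n → (Fin n → F)} (hw : LinearIndependent F w) :
    ∃ B : GL (Fin n) F, ∀ j, (B : Matrix (Fin n) (Fin n) F) *ᵥ Pi.single j 1 = w j := by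
  have h1 : IsUnit (Matrix.of w) := Matrix.linearIndependent_rows_iff_isUnit.1 hw
  have h2 : IsUnit (Matrix.of w)ᵀ := (Matrix.isUnit_transpose _).2 h1
  obtain ⟨B, hB⟩ := h2
  refine ⟨B, fun j => ?_⟩
  have hB' : (B : Matrix (Fin n) (Fin n) F) = (Matrix.of w)ᵀ := hB
  ext i
  rw [hB', Matrix.mulVec_single_one]
  rfl

theorem mul_of_cols {n : ℕ} {M B J : Matrix (Fin n) (Fin n) F}
    (h : ∀ j, M *ᵥ (B *ᵥ Pi.single j 1) = B *ᵥ (J *ᵥ Pi.single j 1)) : M * B = B * J := by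
  apply Matrix.ext_of_mulVec_single
  intro j
  rw [← Matrix.mulVec_mulVec, ← Matrix.mulVec_mulVec]
  exact h j

theorem quad_vec {n : ℕ} {M : Matrix (Fin n) (Fin n) F} {a b : F}
    (hM : M * M + a • M + b • (1 : Matrix (Fin n) (Fin n) F) = 0) (w : Fin n → F) :
    M *ᵥ (M *ᵥ w) = (-b) • w + (-a) • (M *ᵥ w) := by
  have h3 : (M * M + a • M + b • (1 : Matrix (Fin n) (Fin n) F)) *ᵥ w = 0 := by rw [hM, Matrix.zero_mulVec]
  rw [Matrix.add_mulVec, Matrix.add_mulVec, Matrix.smul_mulVec, Matrix.smul_mulVec, Matrix.one_mulVec,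
    ← Matrix.mulVec_mulVec] at h3
  rw [← sub_eq_zero, ← h3, neg_smul, neg_smul]
  abel

/-- if `X² + aX + b` has no root, an `M`-invariant subspace containing `(d + eM) w` contains `w` -/
theorem mem_of_quad {n : ℕ} {M : Matrix (Fin n) (Fin n) F} {a b : F} (hab : ∀ t : F, t * t + a * t + b ≠ 0)
    {W : Submodule F (Fin n → F)} (hW : ∀ v ∈ W, M *ᵥ v ∈ W) {w : Fin n → F}
    (hM : M *ᵥ (M *ᵥ w) = (-b) • w + (-a) • (M *ᵥ w)) {d e : F} (hde : ¬ (d = 0 ∧ e = 0))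
    (hw : d • w + e • (M *ᵥ w) ∈ W) : w ∈ W := by
  have hn : d * d - a * d * e + b * e * e ≠ 0 := by
    by_cases he : e = 0
    · subst he
      have hd : d ≠ 0 := fun h => hde ⟨h, rfl⟩
      simpa using hd
    · intro h
      apply hab (-(d / e))
      field_simp
      linear_combination h
  have h1 : (d - a * e) • (d • w + e • (M *ᵥ w)) - e • (M *ᵥ (d • w + e • (M *ᵥ w))) =
      (d * d - a * d * e + b * e * e) • w := by
    rw [Matrix.mulVec_add, Matrix.mulVec_smul, Matrix.mulVec_smul, hM]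
    module
  have h4 : (d * d - a * d * e + b * e * e) • w ∈ W := by
    rw [← h1]
    exact W.sub_mem (W.smul_mem _ hw) (W.smul_mem _ (hW _ hw))
  exact (W.smul_mem_iff hn).1 h4

theorem quad_span {n : ℕ} {M : Matrix (Fin n) (Fin n) F} {a b : F} {w : Fin n → F}
    (hM : M *ᵥ (M *ᵥ w) = (-b) • w + (-a) • (M *ᵥ w)) :
    ∀ v ∈ Submodule.span F {w, M *ᵥ w}, M *ᵥ v ∈ Submodule.span F {w, M *ᵥ w} := by
  intro v hv
  rw [Submodule.mem_span_pair] at hv ⊢
  obtain ⟨c, d, rfl⟩ := hv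
  refine ⟨-(b * d), c - a * d, ?_⟩
  rw [Matrix.mulVec_add, Matrix.mulVec_smul, Matrix.mulVec_smul, hM]
  module

/-- the companion matrix of `(X² + aX + b)²` in block form -/
def jA (a b : F) : Matrix (Fin 4) (Fin 4) F := !![0, -b, 0, 0; 1, -a, 0, 0; 0, 0, 0, -b; 0, 0, 1, -a]

theorem jA_mulVec (a b : F) (v : Fin 4 → F) :
    jA a b *ᵥ v = ![-b * v 1, v 0 - a * v 1, -b * v 3, v 2 - a * v 3] := by
  ext i
  fin_cases i <;> simp [jA, Matrix.mulVec, dotProduct, Fin.sum_univ_four] <;> ring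

theorem det_jA (a b : F) : (jA a b).det = b * b := by
  rw [Matrix.det_succ_row_zero]
  simp [jA, Fin.sum_univ_four, Matrix.det_fin_three, Matrix.submatrix_apply, Fin.succAbove]

theorem exists_frameA {M : Matrix (Fin 4) (Fin 4) F} {a b : F}
    (hM : M * M + a • M + b • (1 : Matrix (Fin 4) (Fin 4) F) = 0) (hab : ∀ t : F, t * t + a * t + b ≠ 0) :
    ∃ B : GL (Fin 4) F, M * B = B * jA a b := by
  -- the first vector
  obtain ⟨w1, hw1⟩ : ∃ w1 : Fin 4 → F, w1 = Pi.single 0 1 := ⟨_, rfl⟩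
  have hw10 : w1 ≠ 0 := by
    intro h
    have := congrFun h 0
    rw [hw1, Pi.single_eq_same, Pi.zero_apply] at this
    exact one_ne_zero this
  obtain ⟨w2, hw2⟩ : ∃ w2, w2 ∉ Submodule.span F {w1, M *ᵥ w1} := by
    by_contra hcon
    push Not at hcon
    have htop : Submodule.span F {w1, M *ᵥ w1} = ⊤ := by
      rw [eq_top_iff]
      exact fun v _ => hcon v
    have h1 : Module.finrank F (Submodule.span F ({w1, M *ᵥ w1} : Set (Fin 4 → F))) = 4 := by
      rw [htop, finrank_top, Module.finrank_fintype_fun_eq_card, Fintype.card_fin]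
    classical
    have h2 : Module.finrank F (Submodule.span F (({w1, M *ᵥ w1} : Finset (Fin 4 → F)) : Set (Fin 4 → F))) ≤ 2 := by
      exact (finrank_span_finset_le_card _).trans (Finset.card_le_two)
    rw [Finset.coe_insert, Finset.coe_singleton, h1] at h2
    omega
  have h0 : ∀ d e : F, d • w1 + e • (M *ᵥ w1) = 0 → d = 0 ∧ e = 0 := by
    intro d e h
    by_contra hcon
    have h6 := mem_of_quad hab (W := ⊥) (by
      intro v hv
      rw [Submodule.mem_bot] at hv ⊢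
      rw [hv, Matrix.mulVec_zero]) (quad_vec hM w1) hcon (by rw [h]; exact Submodule.zero_mem _)
    exact hw10 ((Submodule.mem_bot F).1 h6)
  have hli : LinearIndependent F ![w1, M *ᵥ w1, w2, M *ᵥ w2] := by
    rw [Fintype.linearIndependent_iff]
    intro g hg
    rw [Fin.sum_univ_four] at hg
    simp only [Matrix.cons_val_zero, Matrix.cons_val_one, Matrix.cons_val_two, Matrix.cons_val_three, Matrix.head_cons,
      Matrix.tail_cons, Matrix.cons_val] at hg
    have h7 : g 2 = 0 ∧ g 3 = 0 := by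
      by_contra hcon
      apply hw2
      apply mem_of_quad hab (quad_span (quad_vec hM w1)) (quad_vec hM w2) hcon
      have h8 : g 2 • w2 + g 3 • (M *ᵥ w2) = -(g 0 • w1 + g 1 • (M *ᵥ w1)) := by
        rw [eq_neg_iff_add_eq_zero, ← hg]
        abel
      rw [h8]
      exact Submodule.neg_mem _ (Submodule.mem_span_pair.2 ⟨_, _, rfl⟩)
    rw [h7.1, h7.2, zero_smul, zero_smul, add_zero, add_zero] at hg
    obtain ⟨h8, h9⟩ := h0 _ _ hg
    intro i
    fin_cases i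
    · exact h8
    · exact h9
    · exact h7.1
    · exact h7.2
  obtain ⟨B, hB⟩ := exists_GL_of_li hli
  refine ⟨B, mul_of_cols (fun j => ?_)⟩
  have hquad := fun w => quad_vec hM w
  have e0 : jA a b *ᵥ Pi.single 0 1 = Pi.single 1 1 := by
    rw [jA_mulVec]; ext i; fin_cases i <;> simp
  have e1 : jA a b *ᵥ Pi.single 1 1 = (-b) • Pi.single 0 1 + (-a) • Pi.single 1 1 := by
    rw [jA_mulVec]; ext i; fin_cases i <;> simp
  have e2 : jA a b *ᵥ Pi.single 2 1 = Pi.single 3 1 := by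
    rw [jA_mulVec]; ext i; fin_cases i <;> simp
  have e3 : jA a b *ᵥ Pi.single 3 1 = (-b) • Pi.single 2 1 + (-a) • Pi.single 3 1 := by
    rw [jA_mulVec]; ext i; fin_cases i <;> simp
  have hB0 : (B : Matrix (Fin 4) (Fin 4) F) *ᵥ Pi.single 0 1 = w1 := hB 0
  have hB1 : (B : Matrix (Fin 4) (Fin 4) F) *ᵥ Pi.single 1 1 = M *ᵥ w1 := hB 1
  have hB2 : (B : Matrix (Fin 4) (Fin 4) F) *ᵥ Pi.single 2 1 = w2 := hB 2
  have hB3 : (B : Matrix (Fin 4) (Fin 4) F) *ᵥ Pi.single 3 1 = M *ᵥ w2 := hB 3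
  fin_cases j
  · change M *ᵥ ((B : Matrix (Fin 4) (Fin 4) F) *ᵥ Pi.single 0 1) = B *ᵥ (jA a b *ᵥ Pi.single 0 1)
    rw [e0, hB0, hB1]
  · change M *ᵥ ((B : Matrix (Fin 4) (Fin 4) F) *ᵥ Pi.single 1 1) = B *ᵥ (jA a b *ᵥ Pi.single 1 1)
    rw [e1, Matrix.mulVec_add, Matrix.mulVec_smul, Matrix.mulVec_smul, hB0, hB1, hquad]
  · change M *ᵥ ((B : Matrix (Fin 4) (Fin 4) F) *ᵥ Pi.single 2 1) = B *ᵥ (jA a b *ᵥ Pi.single 2 1)
    rw [e2, hB2, hB3]
  · change M *ᵥ ((B : Matrix (Fin 4) (Fin 4) F) *ᵥ Pi.single 3 1) = B *ᵥ (jA a b *ᵥ Pi.single 3 1)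
    rw [e3, Matrix.mulVec_add, Matrix.mulVec_smul, Matrix.mulVec_smul, hB2, hB3, hquad]

/-- the form of type B -/
def jB : Matrix (Fin 4) (Fin 4) F := !![0, -1, 0, 0; 1, -1, 0, 0; 0, 0, 1, 0; 0, 0, 0, 1]

theorem jB_mulVec (v : Fin 4 → F) : jB *ᵥ v = ![-v 1, v 0 - v 1, v 2, v 3] := by
  ext i
  fin_cases i <;> simp [jB, Matrix.mulVec, dotProduct, Fin.sum_univ_four]
  ring

theorem exists_frameB [Fintype F] {x : GL (Fin 4) F} (hcard : Fintype.card F % 3 = 2) (h3 : (3 : F) ≠ 0)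
    (hroot : ∀ t : F, t * t + 1 * t + 1 ≠ 0) (hx3 : x ^ 3 = 1) (hx1 : x ≠ 1)
    (hxq : (x : Matrix (Fin 4) (Fin 4) F) * x + x + 1 ≠ 0) :
    ∃ B : GL (Fin 4) F, (x : Matrix (Fin 4) (Fin 4) F) * (B : Matrix (Fin 4) (Fin 4) F) = B * (jB : Matrix (Fin 4) (Fin 4) F) := by
  have hprime : Fact (Nat.Prime 3) := ⟨Nat.prime_three⟩
  obtain ⟨M, hM⟩ : ∃ M : Matrix (Fin 4) (Fin 4) F, M = x := ⟨_, rfl⟩
  have hM3 : M * M * M = 1 := by
    have h := congrArg (fun g : GL (Fin 4) F => (g : Matrix (Fin 4) (Fin 4) F)) hx3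
    simp only [Units.val_pow_eq_pow_val, Units.val_one, ← hM] at h
    rw [← h, pow_succ, pow_two]
  have hM1 : M ≠ 1 := fun h => hx1 (m_ext (by rw [← hM, h, Units.val_one]))
  rw [← hM] at hxq ⊢
  obtain ⟨K, hK⟩ : ∃ K, K = LinearMap.ker (Matrix.toLin' ((x : Matrix (Fin 4) (Fin 4) F) - 1)) := ⟨_, rfl⟩
  have hmemK : ∀ v, v ∈ K ↔ M *ᵥ v = v := by
    intro v
    rw [hK, LinearMap.mem_ker, Matrix.toLin'_apply, Matrix.sub_mulVec, Matrix.one_mulVec, sub_eq_zero, hM]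
  have hmod := fixed_space_modEq hx3
  rw [← hK, Fintype.card_fin] at hmod
  have hk4 : Module.finrank F K ≤ 4 := by
    have := Submodule.finrank_le K
    rwa [Module.finrank_fintype_fun_eq_card, Fintype.card_fin] at this
  have hex : ∀ N : Matrix (Fin 4) (Fin 4) F, N ≠ 0 → ∃ v, N *ᵥ v ≠ 0 := by
    intro N hN
    by_contra hcon
    push Not at hcon
    apply hN
    apply Matrix.ext_of_mulVec_single
    intro j
    rw [hcon, Matrix.zero_mulVec]
  have hk : Module.finrank F K = 2 := by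
    have hpos : Module.finrank F K ≠ 0 := by
      intro h
      rw [Submodule.finrank_eq_zero] at h
      obtain ⟨v, hv⟩ := hex _ hxq
      have h1 : (M * M + M + 1) *ᵥ v ∈ K := by
        rw [hmemK, Matrix.mulVec_mulVec]
        congr 1
        calc M * (M * M + M + 1) = M * M * M + M * M + M := by rw [mul_add, mul_add, mul_one, ← mul_assoc]
          _ = M * M + M + 1 := by rw [hM3]; abel
      rw [h, Submodule.mem_bot] at h1
      exact hv h1
    have hne4 : Module.finrank F K ≠ 4 := by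
      intro h
      have htop : K = ⊤ := by
        apply Submodule.eq_top_of_finrank_eq
        rw [h, Module.finrank_fintype_fun_eq_card, Fintype.card_fin]
      apply hM1
      apply Matrix.ext_of_mulVec_single
      intro j
      have h1 : (Pi.single j 1 : Fin 4 → F) ∈ K := by rw [htop]; trivial
      rw [(hmemK _).1 h1, Matrix.one_mulVec]
    have h2 : ∀ k : ℕ, Fintype.card F ^ k % 3 = 2 ^ k % 3 := by
      intro k
      rw [Nat.pow_mod, hcard]
    rw [Nat.ModEq, h2, h2] at hmod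
    generalize Module.finrank F K = k at *
    interval_cases k
    · exact absurd rfl hpos
    · norm_num at hmod
    · rfl
    · norm_num at hmod
    · exact absurd rfl hne4
  let β := Module.finBasisOfFinrankEq F K hk
  obtain ⟨u1, hu1⟩ : ∃ u1 : Fin 4 → F, u1 = (β 0 : K) := ⟨_, rfl⟩
  obtain ⟨u2, hu2⟩ : ∃ u2 : Fin 4 → F, u2 = (β 1 : K) := ⟨_, rfl⟩
  have hu1K : M *ᵥ u1 = u1 := by rw [hu1]; exact (hmemK _).1 (β 0).2
  have hu2K : M *ᵥ u2 = u2 := by rw [hu2]; exact (hmemK _).1 (β 1).2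
  have hu : ∀ c d : F, c • u1 + d • u2 = 0 → c = 0 ∧ d = 0 := by
    intro c d h
    have h1 := Fintype.linearIndependent_iff.1 β.linearIndependent ![c, d] (by
      rw [Fin.sum_univ_two]
      apply Subtype.ext
      rw [hu1, hu2] at h
      exact h)
    exact ⟨h1 0, h1 1⟩
  obtain ⟨v, hv⟩ := hex (M - 1) (sub_ne_zero.2 hM1)
  obtain ⟨w1, hw1⟩ : ∃ w1, w1 = (M - 1) *ᵥ v := ⟨_, rfl⟩
  rw [← hw1] at hv
  have hquad : M *ᵥ (M *ᵥ w1) = (-1 : F) • w1 + (-1 : F) • (M *ᵥ w1) := by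
    have h1 : (M * M + M + 1) * (M - 1) = 0 := by
      have : (M * M + M + 1) * (M - 1) = M * M * M - 1 := by noncomm_ring
      rw [this, hM3, sub_self]
    have h4 : (M * M + M + 1) *ᵥ w1 = 0 := by rw [hw1, Matrix.mulVec_mulVec, h1, Matrix.zero_mulVec]
    rw [Matrix.add_mulVec, Matrix.add_mulVec, Matrix.one_mulVec, ← Matrix.mulVec_mulVec] at h4
    rw [← sub_eq_zero, ← h4, neg_smul, neg_smul, one_smul, one_smul]
    abel
  have hKinv : ∀ v ∈ K, M *ᵥ v ∈ K := by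
    intro v hv
    rw [(hmemK v).1 hv]
    exact hv
  have hw1K : w1 ∉ K := by
    intro h
    rw [hmemK] at h
    rw [h, h] at hquad
    have h5 : (3 : F) • w1 = 0 := by
      calc (3 : F) • w1 = w1 - ((-1 : F) • w1 + (-1 : F) • w1) := by module
        _ = 0 := by rw [← hquad, sub_self]
    exact hv ((smul_eq_zero.1 h5).resolve_left h3)
  have hli : LinearIndependent F ![w1, M *ᵥ w1, u1, u2] := by
    rw [Fintype.linearIndependent_iff]
    intro g hg
    rw [Fin.sum_univ_four] at hg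
    simp only [Matrix.cons_val_zero, Matrix.cons_val_one, Matrix.cons_val_two, Matrix.cons_val_three, Matrix.head_cons,
      Matrix.tail_cons, Matrix.cons_val] at hg
    have h7 : g 0 = 0 ∧ g 1 = 0 := by
      by_contra hcon
      apply hw1K
      apply mem_of_quad hroot hKinv hquad hcon
      have h8 : g 0 • w1 + g 1 • (M *ᵥ w1) = -(g 2 • u1 + g 3 • u2) := by
        rw [eq_neg_iff_add_eq_zero, ← hg]
        abel
      rw [h8]
      exact Submodule.neg_mem _ (Submodule.add_mem _ (Submodule.smul_mem _ _ ((hmemK _).2 hu1K))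
        (Submodule.smul_mem _ _ ((hmemK _).2 hu2K)))
    rw [h7.1, h7.2, zero_smul, zero_smul, add_zero, zero_add] at hg
    obtain ⟨h8, h9⟩ := hu _ _ hg
    intro i
    fin_cases i
    · exact h7.1
    · exact h7.2
    · exact h8
    · exact h9
  obtain ⟨B, hB⟩ := exists_GL_of_li hli
  refine ⟨B, mul_of_cols (fun j => ?_)⟩
  have e0 : (jB : Matrix (Fin 4) (Fin 4) F) *ᵥ Pi.single 0 1 = Pi.single 1 1 := by
    rw [jB_mulVec]; ext i; fin_cases i <;> simp
  have e1 : (jB : Matrix (Fin 4) (Fin 4) F) *ᵥ Pi.single 1 1 = (-1 : F) • Pi.single 0 1 + (-1 : F) • Pi.single 1 1 := by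
    rw [jB_mulVec]; ext i; fin_cases i <;> simp
  have e2 : (jB : Matrix (Fin 4) (Fin 4) F) *ᵥ Pi.single 2 1 = Pi.single 2 1 := by
    rw [jB_mulVec]; ext i; fin_cases i <;> simp
  have e3 : (jB : Matrix (Fin 4) (Fin 4) F) *ᵥ Pi.single 3 1 = Pi.single 3 1 := by
    rw [jB_mulVec]; ext i; fin_cases i <;> simp
  have hB0 : (B : Matrix (Fin 4) (Fin 4) F) *ᵥ Pi.single 0 1 = w1 := hB 0
  have hB1 : (B : Matrix (Fin 4) (Fin 4) F) *ᵥ Pi.single 1 1 = M *ᵥ w1 := hB 1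
  have hB2 : (B : Matrix (Fin 4) (Fin 4) F) *ᵥ Pi.single 2 1 = u1 := hB 2
  have hB3 : (B : Matrix (Fin 4) (Fin 4) F) *ᵥ Pi.single 3 1 = u2 := hB 3
  fin_cases j
  · change M *ᵥ ((B : Matrix (Fin 4) (Fin 4) F) *ᵥ Pi.single 0 1) = B *ᵥ (jB *ᵥ Pi.single 0 1)
    rw [e0, hB0, hB1]
  · change M *ᵥ ((B : Matrix (Fin 4) (Fin 4) F) *ᵥ Pi.single 1 1) = B *ᵥ (jB *ᵥ Pi.single 1 1)
    rw [e1, Matrix.mulVec_add, Matrix.mulVec_smul, Matrix.mulVec_smul, hB0, hB1, hquad]
  · change M *ᵥ ((B : Matrix (Fin 4) (Fin 4) F) *ᵥ Pi.single 2 1) = B *ᵥ (jB *ᵥ Pi.single 2 1)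
    rw [e2, hB2, hu1K]
  · change M *ᵥ ((B : Matrix (Fin 4) (Fin 4) F) *ᵥ Pi.single 3 1) = B *ᵥ (jB *ᵥ Pi.single 3 1)
    rw [e3, hB3, hu2K]

end Cfsg.Agent.H960
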