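import Cfsg.Agent.H960.HeisCases
import Cfsg.Agent.S0242

/-!
The Sylow `3`-subgroups of `SL_3(p)`, `SU_3(p)` of order 27 (H960).
-/

set_option autoImplicit false
set_option linter.unusedSimpArgs false
open Cfsg Cfsg.Geo Matrix
open scoped MatrixGroups

namespace Cfsg.Agent.H960

open Cfsg.Agent.LieClassical.HermBasic

theorem not_81 {A B C : ℕ} (hA : ¬ 3 ∣ A) (hB : B % 9 = 3 ∨ B % 9 = 6) (hC : C % 27 = 9 ∨ C % 27 = 18) :
    ¬ 81 ∣ A * B * C := by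
  intro h
  obtain ⟨u, hu⟩ : 3 ∣ B := by omega
  obtain ⟨v, hv⟩ : 9 ∣ C := by omega
  have hu3 : ¬ 3 ∣ u := by omega
  have hv3 : ¬ 3 ∣ v := by omega
  have h1 : A * B * C = 27 * (A * u * v) := by rw [hu, hv]; ring
  rw [h1] at h
  have h2 : 3 ∣ A * u * v := by
    have h3 : 27 * 3 ∣ 27 * (A * u * v) := by norm_num; exact h
    exact Nat.dvd_of_mul_dvd_mul_left (by norm_num) h3
  rcases (Nat.Prime.dvd_mul Nat.prime_three).1 h2 with h3 | h3
  · rcases (Nat.Prime.dvd_mul Nat.prime_three).1 h3 with h4 | h4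
    · exact hA h4
    · exact hu3 h4
  · exact hv3 h3

theorem pow3_sub {p : ℕ} (h : p % 9 = 4 ∨ p % 9 = 7) : (p ^ 2 - 1) % 9 = 3 ∨ (p ^ 2 - 1) % 9 = 6 := by
  have h1 : p ^ 2 % 9 = 7 ∨ p ^ 2 % 9 = 4 := by
    rw [Nat.pow_mod]
    rcases h with h | h <;> rw [h] <;> norm_num
  omega

theorem pow3_sub' {p : ℕ} (h : p % 9 = 4 ∨ p % 9 = 7) : (p ^ 3 - 1) % 27 = 9 ∨ (p ^ 3 - 1) % 27 = 18 := by
  have h1 : p ^ 3 % 27 = 10 ∨ p ^ 3 % 27 = 19 := by
    rw [Nat.pow_mod]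
    have h2 : p % 27 = 4 ∨ p % 27 = 13 ∨ p % 27 = 22 ∨ p % 27 = 7 ∨ p % 27 = 16 ∨ p % 27 = 25 := by omega
    rcases h2 with h | h | h | h | h | h <;> rw [h] <;> norm_num
  omega

theorem pow3_add {p : ℕ} (h : p % 9 = 2 ∨ p % 9 = 5) : (p ^ 2 - 1) % 9 = 3 ∨ (p ^ 2 - 1) % 9 = 6 := by
  have h1 : p ^ 2 % 9 = 4 ∨ p ^ 2 % 9 = 7 := by
    rw [Nat.pow_mod]
    rcases h with h | h <;> rw [h] <;> norm_num
  omega

theorem pow3_add' {p : ℕ} (h : p % 9 = 2 ∨ p % 9 = 5) : (p ^ 3 + 1) % 27 = 9 ∨ (p ^ 3 + 1) % 27 = 18 := by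
  have h1 : p ^ 3 % 27 = 8 ∨ p ^ 3 % 27 = 17 := by
    rw [Nat.pow_mod]
    have h2 : p % 27 = 2 ∨ p % 27 = 11 ∨ p % 27 = 20 ∨ p % 27 = 5 ∨ p % 27 = 14 ∨ p % 27 = 23 := by omega
    rcases h2 with h | h | h | h | h | h <;> rw [h] <;> norm_num
  omega

/-- the order of the group when the index of `N(R)` is divisible by `3` -/
theorem dvd_81 {Γ : Type*} [Group Γ] {R N G : Subgroup Γ} (hR : Nat.card R = 27) (hRN : R ≤ N) (hRG : R ≤ G)
    (h : 3 ∣ N.relIndex G) : 81 ∣ Nat.card G := by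
  have h1 : R.relIndex (N ⊓ G) * (N ⊓ G).relIndex G = R.relIndex G :=
    Subgroup.relIndex_mul_relIndex _ _ _ (le_inf hRN hRG) inf_le_right
  rw [Subgroup.inf_relIndex_right] at h1
  have h2 : Nat.card R * R.relIndex G = Nat.card G := by
    have := Subgroup.relIndex_mul_relIndex ⊥ R G bot_le hRG
    rwa [Subgroup.relIndex_bot_left, Subgroup.relIndex_bot_left] at this
  rw [← h2, hR, ← h1]
  obtain ⟨k, hk⟩ := h
  exact ⟨R.relIndex (N ⊓ G) * k, by rw [hk]; ring⟩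

variable {F : Type*} [Field F]

theorem card_sl_eq {ι : Type} [Fintype ι] [DecidableEq ι] :
    Nat.card (specialLinear ι F) = Nat.card (Matrix.SpecialLinearGroup ι F) :=
  Nat.card_congr
    { toFun := fun g => ⟨(g : GL ι F), (mem_sl (g : GL ι F)).1 g.2⟩
      invFun := fun A => ⟨(A : GL ι F), (mem_sl (A : GL ι F)).2 A.2⟩
      left_inv := fun _ => Subtype.ext (Units.ext rfl)
      right_inv := fun _ => Subtype.ext rfl }

theorem card_su_eq {n q : ℕ} :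
    Nat.card (GU n F q ⊓ specialLinear (Fin n) F : Subgroup (GL (Fin n) F)) = Nat.card (SU n F q) :=
  Nat.card_congr
    { toFun := fun g => ⟨⟨(g : GL (Fin n) F), (mem_sl (g : GL (Fin n) F)).1 g.2.2⟩, fun u v => (mem_GU_iff _).1 g.2.1 u v⟩
      invFun := fun A => ⟨((A : Matrix.SpecialLinearGroup (Fin n) F) : GL (Fin n) F),
        ⟨fun u v => A.2 u v, (mem_sl ((A : Matrix.SpecialLinearGroup (Fin n) F) : GL (Fin n) F)).2 A.1.2⟩⟩
      left_inv := fun _ => Subtype.ext (Units.ext rfl)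
      right_inv := fun _ => Subtype.ext (Subtype.ext rfl) }

theorem card_SL3 [Fintype F] {p : ℕ} (hF : Fintype.card F = p) (hp : 2 ≤ p) :
    Nat.card (specialLinear (Fin 3) F) = p ^ 3 * (p ^ 2 - 1) * (p ^ 3 - 1) := by
  have h1 := Cfsg.Agent.S0242.result hF 3 (by norm_num)
  rw [Fin.prod_univ_three, ← card_sl_eq] at h1
  have h2 : (p - 1) * (p ^ 3 * (p ^ 2 - 1) * (p ^ 3 - 1)) =
      (p ^ 3 - p ^ ((0 : Fin 3) : ℕ)) * (p ^ 3 - p ^ ((1 : Fin 3) : ℕ)) * (p ^ 3 - p ^ ((2 : Fin 3) : ℕ)) := by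
    have e0 : p ^ 3 - p ^ ((0 : Fin 3) : ℕ) = p ^ 3 - 1 := by simp
    have e1 : p ^ 3 - p ^ ((1 : Fin 3) : ℕ) = p * (p ^ 2 - 1) := by
      rw [Nat.mul_sub]; simp; ring_nf
    have e2 : p ^ 3 - p ^ ((2 : Fin 3) : ℕ) = p ^ 2 * (p - 1) := by
      rw [Nat.mul_sub]; simp; ring_nf
    rw [e0, e1, e2]; ring
  rw [← h2] at h1
  exact Nat.eq_of_mul_eq_mul_left (by omega) h1

theorem card_SU3 [Fintype F] {q : ℕ} (hF : Fintype.card F = q ^ 2) :
    Nat.card (GU 3 F q ⊓ specialLinear (Fin 3) F : Subgroup (GL (Fin 3) F)) = q ^ 3 * (q ^ 2 - 1) * (q ^ 3 + 1) := by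
  rw [card_su_eq]
  have h1 := Cfsg.Agent.LieClassical.GUOrder.card_GU_eq hF (n := 3) (by norm_num)
  rw [Cfsg.Agent.S0277.result hF 3, Finset.prod_range_succ, Finset.prod_range_succ, Finset.prod_range_one,
    if_pos (by decide), if_neg (by decide), if_pos (by decide)] at h1
  have h2 : (q + 1) * (q ^ 3 * (q ^ 2 - 1) * (q ^ 3 + 1)) = (q + 1) * Nat.card (SU 3 F q) := by
    rw [← h1]; norm_num; ring
  exact (Nat.eq_of_mul_eq_mul_left (Nat.succ_pos q) h2).symm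

/-- `R` consists of matrices of determinant one -/
theorem Heis.le_sl {R : Subgroup (GL (Fin 3) F)} {Q a b : GL (Fin 3) F} {ω : F} (H : Heis R Q a b ω) :
    R ≤ specialLinear (Fin 3) F := by
  have hdet : ∀ (x : GL (Fin 3) F) (M : Matrix (Fin 3) (Fin 3) F),
      (x : Matrix (Fin 3) (Fin 3) F) * (Q : Matrix (Fin 3) (Fin 3) F) = Q * M → M.det = 1 → x ∈ specialLinear (Fin 3) F := by
    intro x M h hM
    rw [mem_sl]
    have h1 := congrArg Matrix.det h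
    rw [Matrix.det_mul, Matrix.det_mul, hM, mul_one] at h1
    exact (mul_eq_right₀ (det_ne Q)).1 h1
  have h1 : Subgroup.closure {a, b} ≤ specialLinear (Fin 3) F := by
    rw [Subgroup.closure_le]
    rintro x (rfl | hx)
    · refine hdet _ _ H.aQ ?_
      rw [A0, Matrix.det_diagonal, Fin.prod_univ_three]
      simp only [Matrix.cons_val_zero, Matrix.cons_val_one, Matrix.cons_val_two, Matrix.head_cons, Matrix.tail_cons,
        Matrix.cons_val]
      linear_combination (ω - 1) * H.hω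
    · rw [Set.mem_singleton_iff] at hx
      rw [hx]
      refine hdet _ _ H.bQ ?_
      rw [Matrix.det_fin_three]
      simp [C0]
  exact fun g hg => h1 (H.gen g hg)

end Cfsg.Agent.H960
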