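import Cfsg.Agent.H960.Diag

/-!
Conjugacy inside `G0 ⊓ SL_n(F)` for `G0 = GL_n(F)` or `GU_n(q)` (H960).
-/

set_option autoImplicit false
open Cfsg Cfsg.Geo Matrix
open scoped MatrixGroups

namespace Cfsg.Agent.H960

variable {F : Type*} [Field F]

/-- the properties of `GL_n(F)` and `GU_n(q)` used here; `U` is the set of possible determinants -/
structure Amb {n : ℕ} (G0 : Subgroup (GL (Fin n) F)) (U : F → Prop) : Prop where
  ne : ∀ c, U c → c ≠ 0
  one : U 1
  mul : ∀ c d, U c → U d → U (c * d)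
  inv : ∀ c, U c → U c⁻¹
  diag : ∀ s : Fin n → F, (∀ i, U (s i)) → ∃ g ∈ G0, (g : Matrix (Fin n) (Fin n) F) = Matrix.diagonal s
  perm : ∀ σ : Equiv.Perm (Fin n), ∃ g ∈ G0, (g : Matrix (Fin n) (Fin n) F) = σ.permMatrix F
  det : ∀ g ∈ G0, U (g : Matrix (Fin n) (Fin n) F).det

theorem mem_sl {ι : Type} [Fintype ι] [DecidableEq ι] (g : GL ι F) :
    g ∈ specialLinear ι F ↔ (g : Matrix ι ι F).det = 1 := by
  rw [specialLinear, MonoidHom.mem_ker]
  constructor
  · intro h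
    have := congrArg (fun z : Fˣ => (z : F)) h
    exact this
  · intro h
    apply Units.ext
    exact h

theorem m_ext {ι : Type} [Fintype ι] [DecidableEq ι] {a b : GL ι F} (h : (a : Matrix ι ι F) = (b : Matrix ι ι F)) :
    a = b := Units.ext h

theorem det_perm_ne {n : ℕ} (σ : Equiv.Perm (Fin n)) : (σ.permMatrix F).det ≠ 0 := by
  rw [Matrix.det_permutation]
  intro h
  rcases Int.units_eq_one_or (Equiv.Perm.sign σ) with h1 | h1 <;> rw [h1] at h <;> simp at h

theorem Amb.top (n : ℕ) : Amb (⊤ : Subgroup (GL (Fin n) F)) (fun c => c ≠ 0) where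
  ne := fun c hc => hc
  one := one_ne_zero
  mul := fun c d hc hd => mul_ne_zero hc hd
  inv := fun c hc => inv_ne_zero hc
  diag := fun s hs => ⟨Matrix.GeneralLinearGroup.mkOfDetNeZero (Matrix.diagonal s) (by
    rw [Matrix.det_diagonal, Finset.prod_ne_zero_iff]
    exact fun i _ => hs i), Subgroup.mem_top _, rfl⟩
  perm := fun σ => ⟨Matrix.GeneralLinearGroup.mkOfDetNeZero (σ.permMatrix F) (det_perm_ne σ), Subgroup.mem_top _, rfl⟩
  det := fun g _ => by
    have := (Matrix.GeneralLinearGroup.det g).ne_zero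
    exact this

theorem Amb.gu [Fintype F] {q : ℕ} (hF : Fintype.card F = q ^ 2) (n : ℕ) :
    Amb (GU n F q) (fun c => c ^ (q + 1) = 1) where
  ne := fun c hc => by
    rintro rfl
    rw [zero_pow (Nat.succ_ne_zero q)] at hc
    exact zero_ne_one hc
  one := one_pow _
  mul := fun c d hc hd => by rw [mul_pow, hc, hd, one_mul]
  inv := fun c hc => by rw [inv_pow, hc, inv_one]
  diag := fun s hs => ⟨_, (Cfsg.Agent.ClassicalGeometry.GUBasic.guDiag q s hs).2, rfl⟩
  perm := fun σ => ⟨_, (Cfsg.Agent.ClassicalGeometry.GUBasic.guPerm q σ).2, rfl⟩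
  det := fun g hg => by
    have h := (Cfsg.Agent.LieClassical.HermBasic.mem_GU_iff g).1 hg
    exact Cfsg.Agent.LieClassical.GUOrder.det_mul_frob_det hF _ h

section

variable {ι : Type} [Fintype ι] [DecidableEq ι]

/-- correcting the determinant of a conjugating element -/
theorem conj_fix {G0 : Subgroup (GL ι F)} {x y B D : GL ι F} (hB : B ∈ G0) (h : x * B = B * y) (hD : D ∈ G0)
    (hDy : D * y = y * D) (hdet : (B : Matrix ι ι F).det * (D : Matrix ι ι F).det = 1) :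
    ∃ g ∈ G0 ⊓ specialLinear ι F, g⁻¹ * x * g = y := by
  refine ⟨B * D, ⟨G0.mul_mem hB hD, ?_⟩, ?_⟩
  · show B * D ∈ specialLinear ι F
    rw [mem_sl, Units.val_mul, Matrix.det_mul, hdet]
  · calc (B * D)⁻¹ * x * (B * D) = D⁻¹ * (B⁻¹ * (x * B)) * D := by group
      _ = D⁻¹ * (y * D) := by rw [h, inv_mul_cancel_left, mul_assoc]
      _ = y := by rw [← hDy, inv_mul_cancel_left]

end

theorem perm_diag {n : ℕ} (σ : Equiv.Perm (Fin n)) (s t : Fin n → F) (hσ : ∀ i, t (σ i) = s i) :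
    σ.permMatrix F * Matrix.diagonal t = Matrix.diagonal s * σ.permMatrix F := by
  apply Matrix.ext_of_mulVec_single
  intro j
  rw [← Matrix.mulVec_mulVec, ← Matrix.mulVec_mulVec, Matrix.permMatrix_mulVec, Matrix.permMatrix_mulVec]
  ext i
  rw [Function.comp_apply, Matrix.mulVec_diagonal, Matrix.mulVec_diagonal, hσ, Function.comp_apply]

theorem conj_coe {n : ℕ} {x B : GL (Fin n) F} {M : Matrix (Fin n) (Fin n) F}
    (hx : (x : Matrix (Fin n) (Fin n) F) * B = B * M) : ((B⁻¹ * x * B : GL (Fin n) F) : Matrix (Fin n) (Fin n) F) = M := by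
  rw [mul_assoc, Units.val_mul, Units.val_mul, hx, ← Matrix.mul_assoc, ← Units.val_mul, inv_mul_cancel, Units.val_one,
    Matrix.one_mul]

/-- two diagonalisable elements with the same eigenvalues are conjugate in `G0 ⊓ SL_n` -/
theorem Amb.conj {n : ℕ} {G0 : Subgroup (GL (Fin n) F)} {U : F → Prop} (hA : Amb G0 U) (i0 : Fin n)
    {x y B C : GL (Fin n) F} {s t : Fin n → F} (hB : B ∈ G0) (hC : C ∈ G0)
    (hx : (x : Matrix (Fin n) (Fin n) F) * B = B * Matrix.diagonal s)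
    (hy : (y : Matrix (Fin n) (Fin n) F) * C = C * Matrix.diagonal t)
    (σ : Equiv.Perm (Fin n)) (hσ : ∀ i, t (σ i) = s i) :
    ∃ g ∈ G0 ⊓ specialLinear (Fin n) F, g⁻¹ * x * g = y := by
  obtain ⟨P, hP, hPm⟩ := hA.perm σ
  obtain ⟨E, hE⟩ : ∃ E : GL (Fin n) F, E = B * P * C⁻¹ := ⟨_, rfl⟩
  have hEG : E ∈ G0 := by rw [hE]; exact G0.mul_mem (G0.mul_mem hB hP) (G0.inv_mem hC)
  have hd := hA.inv _ (hA.det E hEG)
  obtain ⟨D, hD, hDm⟩ := hA.diag (fun i => if i = i0 then ((E : Matrix (Fin n) (Fin n) F).det)⁻¹ else 1) (fun i => by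
    by_cases h : i = i0
    · rw [if_pos h]; exact hd
    · rw [if_neg h]; exact hA.one)
  have hDdet : (D : Matrix (Fin n) (Fin n) F).det = ((E : Matrix (Fin n) (Fin n) F).det)⁻¹ := by
    rw [hDm, Matrix.det_diagonal, Finset.prod_ite_eq' Finset.univ i0, if_pos (Finset.mem_univ i0)]
  have hS := conj_coe hx
  have hT := conj_coe hy
  have hPT : P * (C⁻¹ * y * C) = (B⁻¹ * x * B) * P := by
    apply m_ext
    rw [Units.val_mul, hT, Units.val_mul, hS, hPm, perm_diag σ s t hσ]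
  have hDT : D * (C⁻¹ * y * C) = (C⁻¹ * y * C) * D := by
    apply m_ext
    rw [Units.val_mul D, Units.val_mul _ D, hT, hDm, Matrix.diagonal_mul_diagonal, Matrix.diagonal_mul_diagonal]
    simp only [mul_comm]
  refine conj_fix (B := E) (D := C * D * C⁻¹) hEG ?_ (G0.mul_mem (G0.mul_mem hC hD) (G0.inv_mem hC)) ?_ ?_
  · rw [hE]
    calc x * (B * P * C⁻¹) = B * ((B⁻¹ * x * B) * P) * C⁻¹ := by group
      _ = B * (P * (C⁻¹ * y * C)) * C⁻¹ := by rw [hPT]
      _ = B * P * C⁻¹ * y := by group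
  · calc C * D * C⁻¹ * y = C * (D * (C⁻¹ * y * C)) * C⁻¹ := by group
      _ = C * ((C⁻¹ * y * C) * D) * C⁻¹ := by rw [hDT]
      _ = y * (C * D * C⁻¹) := by group
  · have h1 : (C : Matrix (Fin n) (Fin n) F).det * ((C⁻¹ : GL (Fin n) F) : Matrix (Fin n) (Fin n) F).det = 1 := by
      rw [← Matrix.det_mul, ← Units.val_mul, mul_inv_cancel, Units.val_one, Matrix.det_one]
    have hE0 := hA.ne _ (hA.det E hEG)
    rw [Units.val_mul, Units.val_mul, Matrix.det_mul, Matrix.det_mul, hDdet]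
    calc (E : Matrix (Fin n) (Fin n) F).det * ((C : Matrix (Fin n) (Fin n) F).det *
          ((E : Matrix (Fin n) (Fin n) F).det)⁻¹ * ((C⁻¹ : GL (Fin n) F) : Matrix (Fin n) (Fin n) F).det) =
          ((E : Matrix (Fin n) (Fin n) F).det * ((E : Matrix (Fin n) (Fin n) F).det)⁻¹) *
          ((C : Matrix (Fin n) (Fin n) F).det * ((C⁻¹ : GL (Fin n) F) : Matrix (Fin n) (Fin n) F).det) := by ring
      _ = 1 := by rw [h1, mul_inv_cancel₀ hE0, one_mul]

/-- permuting a sign vector -/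
theorem exists_perm {n : ℕ} {α : Type*} {s t : Fin n → α}
    (h : ∀ c, Nat.card {i // s i = c} = Nat.card {i // t i = c}) : ∃ σ : Equiv.Perm (Fin n), ∀ i, t (σ i) = s i := by
  refine ⟨Equiv.ofFiberEquiv (f := s) (g := t) (fun c => (Finite.card_eq.1 (h c)).some), fun i => ?_⟩
  exact Equiv.ofFiberEquiv_map _ i

end Cfsg.Agent.H960
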