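import Cfsg.Agent.H960.Transv

/-!
The elements of odd prime order (modulo scalars) in the normaliser of a group with `|R| = 16 |Z|` in dimension
four (H960): only `r = 3, 5`, with known values of `tr(y) tr(y⁻¹)`.
-/

set_option autoImplicit false
open Cfsg Cfsg.Geo Matrix
open scoped MatrixGroups

namespace Cfsg.Agent.H960

variable {ι : Type} [Fintype ι] [DecidableEq ι] {F : Type*} [Field F]

theorem mem_scalars_iff' [Nonempty ι] (g : GL ι F) :
    g ∈ scalars ι F ↔ ∃ c : F, (g : Matrix ι ι F) = c • (1 : Matrix ι ι F) := by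
  rw [mem_scalars_iff]
  constructor
  · rintro ⟨c, hc⟩
    exact ⟨c, hc⟩
  · rintro ⟨c, hc⟩
    have hc0 : c ≠ 0 := by
      rintro rfl
      rw [zero_smul] at hc
      exact Units.ne_zero g hc
    exact ⟨Units.mk0 c hc0, by rw [hc]; rfl⟩

/-- the condition of the statements -/
def Lhs (G R : Subgroup (GL ι F)) (r : ℕ) : Prop :=
  ∀ x ∈ G, x ^ r ∈ scalars ι F → x ∉ scalars ι F → ∃ g ∈ G, g⁻¹ * x * g ∈ subgroupNormalizer R

theorem lhs_iff [Nonempty ι] (G R : Subgroup (GL ι F)) (r : ℕ) :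
    (∀ x ∈ G, (∃ z : F, ((x ^ r : GL ι F) : Matrix ι ι F) = z • (1 : Matrix ι ι F)) →
      (∀ z : F, (x : Matrix ι ι F) ≠ z • (1 : Matrix ι ι F)) →
      ∃ g ∈ G, g⁻¹ * x * g ∈ subgroupNormalizer R) ↔ Lhs G R r := by
  constructor
  · intro h x hx h1 h2
    exact h x hx ((mem_scalars_iff' _).1 h1) (fun z hz => h2 ((mem_scalars_iff' _).2 ⟨z, hz⟩))
  · intro h x hx h1 h2
    refine h x hx ((mem_scalars_iff' _).2 h1) (fun h3 => ?_)
    obtain ⟨z, hz⟩ := (mem_scalars_iff' _).1 h3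
    exact h2 z hz

theorem pow_eq_one_of_coprime {G : Type*} [Group G] {x : G} {a b : ℕ} (ha : x ^ a = 1) (hb : x ^ b = 1)
    (hab : Nat.Coprime a b) : x = 1 := by
  have h1 : orderOf x ∣ Nat.gcd a b :=
    Nat.dvd_gcd (orderOf_dvd_of_pow_eq_one ha) (orderOf_dvd_of_pow_eq_one hb)
  rw [hab] at h1
  exact orderOf_eq_one_iff.1 (Nat.dvd_one.1 h1)

theorem coprime_four {r : ℕ} (hr : r.Prime) (hr2 : r ≠ 2) : Nat.Coprime 4 r := by
  have : Nat.Coprime (2 ^ 2) r := Nat.Coprime.pow_left 2 ((Nat.coprime_primes Nat.prime_two hr).2 (Ne.symm hr2))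
  simpa using this

theorem conj_trace (x g : GL ι F) :
    Matrix.trace ((g⁻¹ * x * g : GL ι F) : Matrix ι ι F) = Matrix.trace (x : Matrix ι ι F) := by
  rw [Units.val_mul, Matrix.trace_mul_comm, ← Units.val_mul]
  congr 2
  group

variable {R : Subgroup (GL ι F)}

/-- The cases for `y ∈ N(R)` of odd prime order modulo scalars. -/
theorem trace_cases (E : Ext R) (hn : Fintype.card ι = 4)
    (hm : Nat.card (R ⊓ scalars ι F : Subgroup (GL ι F)) ∣ 4) {r : ℕ} [Fact r.Prime] (hr2 : r ≠ 2) {y : GL ι F}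
    (hy : y ∈ subgroupNormalizer R) (hyr : y ^ r ∈ scalars ι F) (hys : y ∉ scalars ι F) :
    (r = 5 ∧ Nat.card (CR R y) = Nat.card (R ⊓ scalars ι F : Subgroup (GL ι F)) ∧
      Matrix.trace (y : Matrix ι ι F) * Matrix.trace ((y⁻¹ : GL ι F) : Matrix ι ι F) = 1) ∨
    (r = 3 ∧ ((Nat.card (CR R y) = Nat.card (R ⊓ scalars ι F : Subgroup (GL ι F)) ∧
      Matrix.trace (y : Matrix ι ι F) * Matrix.trace ((y⁻¹ : GL ι F) : Matrix ι ι F) = 1) ∨
      (Nat.card (CR R y) = 4 * Nat.card (R ⊓ scalars ι F : Subgroup (GL ι F)) ∧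
      Matrix.trace (y : Matrix ι ι F) * Matrix.trace ((y⁻¹ : GL ι F) : Matrix ι ι F) = 4))) := by
  have hne := E.ne
  have hfin := E.fin
  have hrp : r.Prime := Fact.out
  set m := Nat.card (R ⊓ scalars ι F : Subgroup (GL ι F)) with hmdef
  have hyR : ∀ g ∈ R, y * g * y⁻¹ ∈ R := fun g hg => mem_normalizer hy hg
  have hyrc : ∀ g : GL ι F, y ^ r * g = g * y ^ r := comm_of_scalar hyr
  have hnegs : (-1 : GL ι F) ∈ scalars ι F := by
    rw [mem_scalars_iff']
    exact ⟨-1, by simp⟩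
  have hpow : ∀ z ∈ R ⊓ scalars ι F, z ^ 4 = 1 := by
    intro z hz
    have h1 : (⟨z, hz⟩ : (R ⊓ scalars ι F : Subgroup (GL ι F))) ^ m = 1 := pow_card_eq_one'
    obtain ⟨k, hk⟩ := hm
    have h2 : z ^ m = 1 := congrArg Subtype.val h1
    rw [hk, pow_mul, h2, one_pow]
  have hfc := fixed_cases (R := R) (Z := R ⊓ scalars ι F) (m := m) (r := r) inf_le_left
    (fun z hz g _ => comm_of_scalar hz.2 g) E.card rfl hm
    (fun g hg hgZ => by
      obtain ⟨h, hh, hhg⟩ := E.exists_anti hg (fun h => hgZ ⟨hg, h⟩)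
      exact ⟨h, hh, E.anti_ne hhg⟩) (-1)
    (fun g hg h hh => by
      rcases E.comm h hh g hg with h1 | h1
      · exact Or.inl h1
      · exact Or.inr (by rw [h1, neg_one_mul]))
    (by simp) ⟨E.neg, hnegs⟩ hr2 hyR (fun z hz => comm_of_scalar hz.2 y)
    (fun g _ => hyrc g)
  -- trace formula
  have htr : ∀ g ∈ R, g ∉ scalars ι F → Matrix.trace (g : Matrix ι ι F) = 0 := by
    intro g hg hgs
    obtain ⟨h, hh, hhg⟩ := E.exists_anti hg hgs
    have h1 := conj_trace g h⁻¹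
    rw [inv_inv, hhg, neg_mul, mul_inv_cancel_right, Units.val_neg, Matrix.trace_neg] at h1
    have h2 : (2 : F) * Matrix.trace (g : Matrix ι ι F) = 0 := by linear_combination -h1
    exact (mul_eq_zero.1 h2).resolve_left E.two
  have hfix : ∀ g ∈ R, g * (y * g⁻¹ * y⁻¹) ∈ scalars ι F → g * y = y * g := by
    intro g hg hs
    set c := g * (y * g⁻¹ * y⁻¹) with hc
    have hcR : c ∈ R := R.mul_mem hg (hyR _ (R.inv_mem hg))
    have hcc : ∀ x, c * x = x * c := comm_of_scalar hs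
    have h1 : g * y = c * (y * g) := by rw [hc]; group
    have h2 : ∀ k : ℕ, g * y ^ k = c ^ k * (y ^ k * g) := by
      intro k
      induction k with
      | zero => simp
      | succ k ih =>
        calc g * y ^ (k + 1) = (g * y ^ k) * y := by rw [pow_succ]; group
          _ = c ^ k * y ^ k * (g * y) := by rw [ih]; group
          _ = c ^ k * (y ^ k * c) * (y * g) := by rw [h1]; group
          _ = c ^ k * (c * y ^ k) * (y * g) := by rw [hcc]
          _ = c ^ (k + 1) * (y ^ (k + 1) * g) := by rw [pow_succ, pow_succ]; group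
    have h3 := h2 r
    rw [← hyrc g] at h3
    have h4 : c ^ r = 1 := by
      have : c ^ r * (y ^ r * g) = 1 * (y ^ r * g) := by rw [one_mul]; exact h3.symm
      exact mul_right_cancel this
    have h5 : c = 1 := pow_eq_one_of_coprime (hpow c ⟨hcR, hs⟩) h4 (coprime_four hrp hr2)
    rw [h1, h5, one_mul]
  have htf := trace_formula E.c1 htr hyR hfix
  rw [hn, E.card] at htf
  have h16 : (16 : F) ≠ 0 := by
    have : (16 : F) = 2 * 2 * 2 * 2 := by norm_num
    rw [this]
    exact mul_ne_zero (mul_ne_zero (mul_ne_zero E.two E.two) E.two) E.two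
  have hm0 : (m : F) ≠ 0 := by
    intro h0
    obtain ⟨k, hk⟩ := hm
    have h4 : ((4 : ℕ) : F) = (m : F) * (k : F) := by rw [hk]; push_cast; ring
    rw [h0, zero_mul] at h4
    have : (2 : F) * 2 = 0 := by rw [← h4]; norm_num
    exact E.two (mul_self_eq_zero.1 this)
  have htf2 : ∀ f : ℕ, Nat.card (CR R y) = f * m →
      Matrix.trace (y : Matrix ι ι F) * Matrix.trace ((y⁻¹ : GL ι F) : Matrix ι ι F) = f := by
    intro f hf
    rw [hf] at htf
    simp only [Nat.cast_mul, Nat.cast_ofNat, ← hmdef] at htf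
    have h1 : (16 * (m : F)) * (Matrix.trace (y : Matrix ι ι F) * Matrix.trace ((y⁻¹ : GL ι F) : Matrix ι ι F) - f)
        = 0 := by linear_combination -htf
    have h2 := (mul_eq_zero.1 h1).resolve_left (mul_ne_zero h16 hm0)
    exact sub_eq_zero.1 h2
  rcases hfc with h | ⟨h5, h⟩ | ⟨h3, h | h⟩
  · exact absurd (scalar_of_comm E.c1 (fun s hs => (h s hs).symm)) hys
  · left
    refine ⟨h5, h, ?_⟩
    have := htf2 1 (by rw [h, one_mul])
    simpa using this
  · right
    refine ⟨h3, Or.inl ⟨h, ?_⟩⟩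
    have := htf2 1 (by rw [h, one_mul])
    simpa using this
  · right
    refine ⟨h3, Or.inr ⟨h, ?_⟩⟩
    have := htf2 4 h
    simpa using this

end Cfsg.Agent.H960
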