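import Cfsg.Agent.H960.PauliEx

/-!
Elements normalising a group with standard generators `u, v, s, t` (H960):
the `5`-element permuting five anticommuting involutions, the `3`-elements of quaternion type, and the
controlled-`Z` involution.
-/

set_option autoImplicit false
set_option linter.unusedSimpArgs false
open Cfsg Cfsg.Geo Matrix
open scoped MatrixGroups

namespace Cfsg.Agent.H960

section Ring

variable {A : Type*} [Ring A]

/-- `(a - b) a = - b (a - b)` -/
theorem nn_left {a b : A} (ha : a * a = 1) (hb : b * b = 1) : (a - b) * a = -(b * (a - b)) := by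
  rw [sub_mul, mul_sub, ha, hb]; abel

theorem nn_right {a b : A} (ha : a * a = 1) (hb : b * b = 1) : (a - b) * b = -(a * (a - b)) := by
  rw [sub_mul, mul_sub, ha, hb]; abel

theorem nn_other {a b c : A} (hac : a * c = -(c * a)) (hbc : b * c = -(c * b)) :
    (a - b) * c = -(c * (a - b)) := by
  rw [sub_mul, mul_sub, hac, hbc]; abel

theorem nn_sq {a b : A} (ha : a * a = 1) (hb : b * b = 1) (hab : a * b = -(b * a)) :
    (a - b) * (a - b) = 2 := by
  rw [sub_mul, mul_sub, mul_sub, ha, hb, hab]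
  have : (1 : A) + 1 = 2 := one_add_one_eq_two
  rw [← this]; abel

/-- five pairwise anticommuting involutions -/
structure Five (g : Fin 5 → A) : Prop where
  sq : ∀ i, g i * g i = 1
  anti : ∀ i j, i ≠ j → g i * g j = -(g j * g i)

/-- the product of the four differences -/
def w4 (g : Fin 5 → A) : A := (g 0 - g 1) * (g 1 - g 2) * (g 2 - g 3) * (g 3 - g 4)

/-- the reversed product -/
def w4' (g : Fin 5 → A) : A := (g 3 - g 4) * (g 2 - g 3) * (g 1 - g 2) * (g 0 - g 1)

theorem Five.w4_mul {g : Fin 5 → A} (h : Five g) : w4 g * w4' g = 16 := by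
  have h1 := nn_sq (h.sq 0) (h.sq 1) (h.anti 0 1 (by decide))
  have h2 := nn_sq (h.sq 1) (h.sq 2) (h.anti 1 2 (by decide))
  have h3 := nn_sq (h.sq 2) (h.sq 3) (h.anti 2 3 (by decide))
  have h4 := nn_sq (h.sq 3) (h.sq 4) (h.anti 3 4 (by decide))
  have c2 : ∀ x : A, x * 2 = 2 * x := fun x => (Nat.cast_commute 2 x).symm
  rw [w4, w4']
  calc (g 0 - g 1) * (g 1 - g 2) * (g 2 - g 3) * (g 3 - g 4) *
        ((g 3 - g 4) * (g 2 - g 3) * (g 1 - g 2) * (g 0 - g 1))
      = (g 0 - g 1) * (g 1 - g 2) * (g 2 - g 3) * ((g 3 - g 4) * (g 3 - g 4)) *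
        ((g 2 - g 3) * (g 1 - g 2) * (g 0 - g 1)) := by simp only [mul_assoc]
    _ = 2 * ((g 0 - g 1) * (g 1 - g 2) * ((g 2 - g 3) * (g 2 - g 3)) * ((g 1 - g 2) * (g 0 - g 1))) := by
        rw [h4, c2]; simp only [mul_assoc]
    _ = 4 * ((g 0 - g 1) * ((g 1 - g 2) * (g 1 - g 2)) * (g 0 - g 1)) := by
        rw [h3, c2]
        have : (4 : A) = 2 * 2 := by norm_num
        rw [this]; simp only [mul_assoc]
    _ = 8 * ((g 0 - g 1) * (g 0 - g 1)) := by
        rw [h2, c2]
        have : (8 : A) = 4 * 2 := by norm_num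
        rw [this]; simp only [mul_assoc]
    _ = 16 := by rw [h1]; norm_num

theorem Five.w4'_mul {g : Fin 5 → A} (h : Five g) : w4' g * w4 g = 16 := by
  have h1 := nn_sq (h.sq 0) (h.sq 1) (h.anti 0 1 (by decide))
  have h2 := nn_sq (h.sq 1) (h.sq 2) (h.anti 1 2 (by decide))
  have h3 := nn_sq (h.sq 2) (h.sq 3) (h.anti 2 3 (by decide))
  have h4 := nn_sq (h.sq 3) (h.sq 4) (h.anti 3 4 (by decide))
  have c2 : ∀ x : A, x * 2 = 2 * x := fun x => (Nat.cast_commute 2 x).symm
  rw [w4, w4']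
  calc (g 3 - g 4) * (g 2 - g 3) * (g 1 - g 2) * (g 0 - g 1) *
        ((g 0 - g 1) * (g 1 - g 2) * (g 2 - g 3) * (g 3 - g 4))
      = (g 3 - g 4) * (g 2 - g 3) * (g 1 - g 2) * ((g 0 - g 1) * (g 0 - g 1)) *
        ((g 1 - g 2) * (g 2 - g 3) * (g 3 - g 4)) := by simp only [mul_assoc]
    _ = 2 * ((g 3 - g 4) * (g 2 - g 3) * ((g 1 - g 2) * (g 1 - g 2)) * ((g 2 - g 3) * (g 3 - g 4))) := by
        rw [h1, c2]; simp only [mul_assoc]
    _ = 4 * ((g 3 - g 4) * ((g 2 - g 3) * (g 2 - g 3)) * (g 3 - g 4)) := by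
        rw [h2, c2]
        have : (4 : A) = 2 * 2 := by norm_num
        rw [this]; simp only [mul_assoc]
    _ = 8 * ((g 3 - g 4) * (g 3 - g 4)) := by
        rw [h3, c2]
        have : (8 : A) = 4 * 2 := by norm_num
        rw [this]; simp only [mul_assoc]
    _ = 16 := by rw [h4]; norm_num

theorem mul_neg_comm {x c y : A} (h : x * c = -(y * x)) (z : A) : x * (c * z) = -(y * (x * z)) := by
  rw [← mul_assoc, h, neg_mul, mul_assoc]

/-- `w g_i = g_{i+1} w` -/
theorem Five.w4_conj {g : Fin 5 → A} (h : Five g) (i : Fin 5) : w4 g * g i = g (i + 1) * w4 g := by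
  have n01 : ∀ c, c ≠ 0 → c ≠ 1 → (g 0 - g 1) * g c = -(g c * (g 0 - g 1)) := fun c h0 h1 =>
    nn_other (h.anti 0 c (Ne.symm h0)) (h.anti 1 c (Ne.symm h1))
  have n12 : ∀ c, c ≠ 1 → c ≠ 2 → (g 1 - g 2) * g c = -(g c * (g 1 - g 2)) := fun c h0 h1 =>
    nn_other (h.anti 1 c (Ne.symm h0)) (h.anti 2 c (Ne.symm h1))
  have n23 : ∀ c, c ≠ 2 → c ≠ 3 → (g 2 - g 3) * g c = -(g c * (g 2 - g 3)) := fun c h0 h1 =>
    nn_other (h.anti 2 c (Ne.symm h0)) (h.anti 3 c (Ne.symm h1))
  have n34 : ∀ c, c ≠ 3 → c ≠ 4 → (g 3 - g 4) * g c = -(g c * (g 3 - g 4)) := fun c h0 h1 =>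
    nn_other (h.anti 3 c (Ne.symm h0)) (h.anti 4 c (Ne.symm h1))
  have e01 := nn_left (h.sq 0) (h.sq 1)
  have e12 := nn_left (h.sq 1) (h.sq 2)
  have e23 := nn_left (h.sq 2) (h.sq 3)
  have e34 := nn_left (h.sq 3) (h.sq 4)
  have f01 := nn_right (h.sq 0) (h.sq 1)
  have f12 := nn_right (h.sq 1) (h.sq 2)
  have f23 := nn_right (h.sq 2) (h.sq 3)
  have f34 := nn_right (h.sq 3) (h.sq 4)
  rw [w4]
  fin_cases i
  · change (g 0 - g 1) * (g 1 - g 2) * (g 2 - g 3) * (g 3 - g 4) * g 0 = g 1 * _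
    simp only [mul_assoc]
    rw [n34 0 (by decide) (by decide), mul_neg, mul_neg_comm (n23 0 (by decide) (by decide)), neg_neg,
      mul_neg_comm (n12 0 (by decide) (by decide)), mul_neg, mul_neg_comm e01, neg_neg]
  · change (g 0 - g 1) * (g 1 - g 2) * (g 2 - g 3) * (g 3 - g 4) * g 1 = g 2 * _
    simp only [mul_assoc]
    rw [n34 1 (by decide) (by decide), mul_neg, mul_neg_comm (n23 1 (by decide) (by decide)), neg_neg,
      mul_neg_comm e12, mul_neg, mul_neg_comm (n01 2 (by decide) (by decide)), neg_neg]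
  · change (g 0 - g 1) * (g 1 - g 2) * (g 2 - g 3) * (g 3 - g 4) * g 2 = g 3 * _
    simp only [mul_assoc]
    rw [n34 2 (by decide) (by decide), mul_neg, mul_neg_comm e23, neg_neg,
      mul_neg_comm (n12 3 (by decide) (by decide)), mul_neg, mul_neg_comm (n01 3 (by decide) (by decide)),
      neg_neg]
  · change (g 0 - g 1) * (g 1 - g 2) * (g 2 - g 3) * (g 3 - g 4) * g 3 = g 4 * _
    simp only [mul_assoc]
    rw [e34, mul_neg, mul_neg_comm (n23 4 (by decide) (by decide)), neg_neg,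
      mul_neg_comm (n12 4 (by decide) (by decide)), mul_neg, mul_neg_comm (n01 4 (by decide) (by decide)),
      neg_neg]
  · change (g 0 - g 1) * (g 1 - g 2) * (g 2 - g 3) * (g 3 - g 4) * g 4 = g 0 * _
    simp only [mul_assoc]
    rw [f34, mul_neg, mul_neg_comm f23, neg_neg, mul_neg_comm f12, mul_neg, mul_neg_comm f01, neg_neg]

/-- quaternion elements -/
theorem quat_sq {s t : A} (ss : s * s = -1) (tt : t * t = -1) (ts : t * s = -(s * t)) :
    (1 + s + t + s * t) * (1 + s + t + s * t) = 2 * (1 + s + t + s * t) - 4 := by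
  have ss' : ∀ x, s * (s * x) = -x := fun x => by rw [← mul_assoc, ss, neg_one_mul]
  have tt' : ∀ x, t * (t * x) = -x := fun x => by rw [← mul_assoc, tt, neg_one_mul]
  have ts' : ∀ x, t * (s * x) = -(s * (t * x)) := fun x => by rw [← mul_assoc, ts, neg_mul, mul_assoc]
  have e2 : (2 : A) = 1 + 1 := by norm_num
  have e4 : (4 : A) = 1 + 1 + 1 + 1 := by norm_num
  rw [e2, e4]
  simp only [mul_add, add_mul, mul_one, one_mul, mul_assoc, ss, tt, ts, ss', tt', ts', mul_neg, neg_neg]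
  abel

theorem quat_conj1 {s t : A} (ss : s * s = -1) (tt : t * t = -1) (ts : t * s = -(s * t)) :
    (1 + s + t + s * t) * s = t * (1 + s + t + s * t) := by
  have ss' : ∀ x, s * (s * x) = -x := fun x => by rw [← mul_assoc, ss, neg_one_mul]
  have tt' : ∀ x, t * (t * x) = -x := fun x => by rw [← mul_assoc, tt, neg_one_mul]
  have ts' : ∀ x, t * (s * x) = -(s * (t * x)) := fun x => by rw [← mul_assoc, ts, neg_mul, mul_assoc]
  simp only [mul_add, add_mul, mul_one, one_mul, mul_assoc, ss, tt, ts, ss', tt', ts', mul_neg, neg_neg]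
  abel

theorem quat_conj2 {s t : A} (ss : s * s = -1) (tt : t * t = -1) (ts : t * s = -(s * t)) :
    (1 + s + t + s * t) * t = (s * t) * (1 + s + t + s * t) := by
  have ss' : ∀ x, s * (s * x) = -x := fun x => by rw [← mul_assoc, ss, neg_one_mul]
  have tt' : ∀ x, t * (t * x) = -x := fun x => by rw [← mul_assoc, tt, neg_one_mul]
  have ts' : ∀ x, t * (s * x) = -(s * (t * x)) := fun x => by rw [← mul_assoc, ts, neg_mul, mul_assoc]
  simp only [mul_add, add_mul, mul_one, one_mul, mul_assoc, ss, tt, ts, ss', tt', ts', mul_neg, neg_neg]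
  abel

/-- controlled-`Z` -/
theorem cz_sq {u x : A} (uu : u * u = 1) (xx : x * x = 1) (xu : x * u = u * x) :
    (1 + u + x - u * x) * (1 + u + x - u * x) = 4 := by
  have uu' : ∀ y, u * (u * y) = y := fun y => by rw [← mul_assoc, uu, one_mul]
  have xx' : ∀ y, x * (x * y) = y := fun y => by rw [← mul_assoc, xx, one_mul]
  have xu' : ∀ y, x * (u * y) = u * (x * y) := fun y => by rw [← mul_assoc, xu, mul_assoc]
  have e4 : (4 : A) = 1 + 1 + 1 + 1 := by norm_num
  rw [e4]
  simp only [mul_add, add_mul, mul_sub, sub_mul, mul_one, one_mul, mul_assoc, uu, xx, xu, uu', xx', xu']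
  abel

theorem cz_conj1 {u x v : A} (uu : u * u = 1) (xx : x * x = 1) (xu : x * u = u * x) (vu : v * u = -(u * v))
    (vx : v * x = x * v) : (1 + u + x - u * x) * v = (x * v) * (1 + u + x - u * x) := by
  have uu' : ∀ y, u * (u * y) = y := fun y => by rw [← mul_assoc, uu, one_mul]
  have xx' : ∀ y, x * (x * y) = y := fun y => by rw [← mul_assoc, xx, one_mul]
  have xu' : ∀ y, x * (u * y) = u * (x * y) := fun y => by rw [← mul_assoc, xu, mul_assoc]
  have vu' : ∀ y, v * (u * y) = -(u * (v * y)) := fun y => by rw [← mul_assoc, vu, neg_mul, mul_assoc]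
  have vx' : ∀ y, v * (x * y) = x * (v * y) := fun y => by rw [← mul_assoc, vx, mul_assoc]
  simp only [mul_add, add_mul, mul_sub, sub_mul, mul_one, one_mul, mul_assoc, uu, xx, xu, uu', xx', xu', vu, vx,
    vu', vx', mul_neg]
  abel

theorem cz_conj2 {u x t : A} (uu : u * u = 1) (xx : x * x = 1) (xu : x * u = u * x) (tx : t * x = -(x * t))
    (tu : t * u = u * t) : (1 + u + x - u * x) * t = (u * t) * (1 + u + x - u * x) := by
  have uu' : ∀ y, u * (u * y) = y := fun y => by rw [← mul_assoc, uu, one_mul]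
  have xx' : ∀ y, x * (x * y) = y := fun y => by rw [← mul_assoc, xx, one_mul]
  have xu' : ∀ y, x * (u * y) = u * (x * y) := fun y => by rw [← mul_assoc, xu, mul_assoc]
  have tx' : ∀ y, t * (x * y) = -(x * (t * y)) := fun y => by rw [← mul_assoc, tx, neg_mul, mul_assoc]
  have tu' : ∀ y, t * (u * y) = u * (t * y) := fun y => by rw [← mul_assoc, tu, mul_assoc]
  simp only [mul_add, add_mul, mul_sub, sub_mul, mul_one, one_mul, mul_assoc, uu, xx, xu, uu', xx', xu', tu, tx,
    tu', tx', mul_neg]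
  abel

end Ring

end Cfsg.Agent.H960
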