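import Cfsg.Agent.H960.Cliff

/-!
Elements of `N(R)` as invertible matrices, with their membership in a group defined by an anti-involution (H960).
-/

set_option autoImplicit false
set_option linter.unusedSimpArgs false
open Cfsg Cfsg.Geo Matrix
open scoped MatrixGroups

namespace Cfsg.Agent.H960

variable {ι : Type} [Fintype ι] [DecidableEq ι] {F : Type*} [Field F]

theorem mem_normalizer_of_gens {R : Subgroup (GL ι F)} [Finite R] {T : Set (GL ι F)}
    (hT : ∀ g ∈ R, g ∈ Subgroup.closure T) {y : GL ι F} (hy : ∀ t ∈ T, y * t * y⁻¹ ∈ R) :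
    y ∈ subgroupNormalizer R := by
  have : Finite (R : Set (GL ι F)) := ‹Finite R›
  have h1 : Subgroup.closure T ≤ R.comap (MulAut.conj y).toMonoidHom := by
    rw [Subgroup.closure_le]
    intro t ht
    exact hy t ht
  apply Subgroup.mem_normalizer_fintype
  intro g hg
  exact h1 (hT g hg)

theorem mem_normalizer {R : Subgroup (GL ι F)} {y g : GL ι F} (hy : y ∈ subgroupNormalizer R) (hg : g ∈ R) :
    y * g * y⁻¹ ∈ R := (Subgroup.mem_normalizer_iff.1 hy g).1 hg

theorem Pauli.mem_normalizer {R : Subgroup (GL ι F)} [Finite R] {u v s t : GL ι F} (P : Pauli R u v s t)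
    {y u' v' s' t' : GL ι F} (hu' : u' ∈ R) (hv' : v' ∈ R) (hs' : s' ∈ R) (ht' : t' ∈ R)
    (hu : y * u = u' * y) (hv : y * v = v' * y) (hs : y * s = s' * y) (ht : y * t = t' * y) :
    y ∈ subgroupNormalizer R := by
  apply mem_normalizer_of_gens P.gen
  intro x hx
  rcases hx with hx | hx
  · simp only [Set.mem_insert_iff, Set.mem_singleton_iff] at hx
    rcases hx with rfl | rfl | rfl | rfl
    · rwa [hu, mul_inv_cancel_right]
    · rwa [hv, mul_inv_cancel_right]
    · rwa [hs, mul_inv_cancel_right]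
    · rwa [ht, mul_inv_cancel_right]
  · rw [← comm_of_scalar hx.2, mul_inv_cancel_right]
    exact hx.1

/-- An anti-involution defining `G0`. -/
structure StarG (G0 : Subgroup (GL ι F)) (st : Matrix ι ι F → Matrix ι ι F) : Prop where
  add : ∀ a b, st (a + b) = st a + st b
  mul : ∀ a b, st (a * b) = st b * st a
  one : st 1 = 1
  mem : ∀ g : GL ι F, g ∈ G0 ↔ st g * g = 1

namespace StarG

variable {G0 : Subgroup (GL ι F)} {st : Matrix ι ι F → Matrix ι ι F} (S : StarG G0 st)
include S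

theorem zero : st 0 = 0 := by
  have h := S.add 0 0
  rw [add_zero] at h
  exact (left_eq_add.1 h)

theorem neg (a : Matrix ι ι F) : st (-a) = -st a := by
  have h := S.add a (-a)
  rw [add_neg_cancel, S.zero] at h
  exact (neg_eq_of_add_eq_zero_right h.symm).symm

theorem sub (a b : Matrix ι ι F) : st (a - b) = st a - st b := by
  rw [sub_eq_add_neg, S.add, S.neg, sub_eq_add_neg]

theorem half (h2 : (2 : F) ≠ 0) (a : Matrix ι ι F) : st ((2 : F)⁻¹ • a) = (2 : F)⁻¹ • st a := by
  have h : a = (2 : F)⁻¹ • a + (2 : F)⁻¹ • a := by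
    rw [← add_smul]
    have : (2 : F)⁻¹ + (2 : F)⁻¹ = 1 := by field_simp; norm_num
    rw [this, one_smul]
  have h3 := S.add ((2 : F)⁻¹ • a) ((2 : F)⁻¹ • a)
  rw [← h] at h3
  rw [h3, ← two_smul F, smul_smul, inv_mul_cancel₀ h2, one_smul]

theorem quarter (h2 : (2 : F) ≠ 0) (a : Matrix ι ι F) : st ((4 : F)⁻¹ • a) = (4 : F)⁻¹ • st a := by
  have h4 : (4 : F)⁻¹ = (2 : F)⁻¹ * (2 : F)⁻¹ := by
    rw [← _root_.mul_inv]; norm_num
  rw [h4, mul_smul, S.half h2, S.half h2, mul_smul]

theorem eq_inv {g : GL ι F} (hg : g ∈ G0) : st g = ((g⁻¹ : GL ι F) : Matrix ι ι F) := by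
  have h := (S.mem g).1 hg
  calc st (g : Matrix ι ι F) = st (g : Matrix ι ι F) * ((g : Matrix ι ι F) * ((g⁻¹ : GL ι F) : Matrix ι ι F)) := by
        rw [← Units.val_mul, mul_inv_cancel, Units.val_one, mul_one]
    _ = _ := by rw [← mul_assoc, h, one_mul]

theorem of_sq_one {g : GL ι F} (hg : g ∈ G0) (h : g * g = 1) : st g = g := by
  rw [S.eq_inv hg, inv_eq_of_mul_eq_one_right h]

theorem of_sq_neg {g : GL ι F} (hg : g ∈ G0) (h : g * g = -1) : st g = -(g : Matrix ι ι F) := by
  rw [S.eq_inv hg, inv_eq_of_mul_eq_one_right (b := -g) (by rw [mul_neg, h, neg_neg]), Units.val_neg]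

end StarG

section Elements

variable {R : Subgroup (GL ι F)} {u v s t : GL ι F}

/-- matrix relations -/
theorem m_eq {a b : GL ι F} (h : a = b) : (a : Matrix ι ι F) = (b : Matrix ι ι F) := by rw [h]

/-- the five anticommuting involutions in `R` -/
def fiveGL (u v s t : GL ι F) : Fin 5 → GL ι F := ![u, v, u * v * s, u * v * t, u * v * (s * t)]

theorem Pauli.five_mem (P : Pauli R u v s t) (i : Fin 5) : fiveGL u v s t i ∈ R := by
  have h1 := R.mul_mem P.hu P.hv
  fin_cases i
  · exact P.hu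
  · exact P.hv
  · exact R.mul_mem h1 P.hs
  · exact R.mul_mem h1 P.ht
  · exact R.mul_mem h1 (R.mul_mem P.hs P.ht)

theorem Pauli.five_sq (P : Pauli R u v s t) (i : Fin 5) : fiveGL u v s t i * fiveGL u v s t i = 1 := by
  have uu := P.uu
  have vv := P.vv
  have ss := P.ss
  have tt := P.tt
  have vu := P.vu
  have ts := P.ts
  have su := P.su
  have sv := P.sv
  have tu := P.tu
  have tv := P.tv
  have uu' : ∀ x, u * (u * x) = x := fun x => by rw [← mul_assoc, uu, one_mul]
  have vv' : ∀ x, v * (v * x) = x := fun x => by rw [← mul_assoc, vv, one_mul]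
  have ss' : ∀ x, s * (s * x) = -x := fun x => by rw [← mul_assoc, ss, neg_one_mul]
  have tt' : ∀ x, t * (t * x) = -x := fun x => by rw [← mul_assoc, tt, neg_one_mul]
  have ts' : ∀ x, t * (s * x) = -(s * (t * x)) := fun x => by rw [← mul_assoc, ts, neg_mul, mul_assoc]
  have vu' : ∀ x, v * (u * x) = -(u * (v * x)) := fun x => by rw [← mul_assoc, vu, neg_mul, mul_assoc]
  have su' : ∀ x, s * (u * x) = u * (s * x) := fun x => by rw [← mul_assoc, su, mul_assoc]
  have sv' : ∀ x, s * (v * x) = v * (s * x) := fun x => by rw [← mul_assoc, sv, mul_assoc]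
  have tu' : ∀ x, t * (u * x) = u * (t * x) := fun x => by rw [← mul_assoc, tu, mul_assoc]
  have tv' : ∀ x, t * (v * x) = v * (t * x) := fun x => by rw [← mul_assoc, tv, mul_assoc]
  fin_cases i
  · exact uu
  · exact vv
  · change u * v * s * (u * v * s) = 1
    simp only [mul_assoc, su', sv', vu', uu', vv', ss', ss, vv, mul_neg, neg_neg]
  · change u * v * t * (u * v * t) = 1
    simp only [mul_assoc, tu', tv', vu', uu', vv', tt', tt, vv, mul_neg, neg_neg]
  · change u * v * (s * t) * (u * v * (s * t)) = 1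
    simp only [mul_assoc, su', sv', tu', tv', ts', vu', uu', vv', tt', tt, vv, ss', ss, mul_neg, neg_neg]

theorem Pauli.five_anti (P : Pauli R u v s t) (i j : Fin 5) (hij : i ≠ j) :
    fiveGL u v s t i * fiveGL u v s t j = -(fiveGL u v s t j * fiveGL u v s t i) := by
  have uu := P.uu
  have vv := P.vv
  have ss := P.ss
  have tt := P.tt
  have vu := P.vu
  have ts := P.ts
  have su := P.su
  have sv := P.sv
  have tu := P.tu
  have tv := P.tv
  have uu' : ∀ x, u * (u * x) = x := fun x => by rw [← mul_assoc, uu, one_mul]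
  have vv' : ∀ x, v * (v * x) = x := fun x => by rw [← mul_assoc, vv, one_mul]
  have ss' : ∀ x, s * (s * x) = -x := fun x => by rw [← mul_assoc, ss, neg_one_mul]
  have tt' : ∀ x, t * (t * x) = -x := fun x => by rw [← mul_assoc, tt, neg_one_mul]
  have ts' : ∀ x, t * (s * x) = -(s * (t * x)) := fun x => by rw [← mul_assoc, ts, neg_mul, mul_assoc]
  have vu' : ∀ x, v * (u * x) = -(u * (v * x)) := fun x => by rw [← mul_assoc, vu, neg_mul, mul_assoc]
  have su' : ∀ x, s * (u * x) = u * (s * x) := fun x => by rw [← mul_assoc, su, mul_assoc]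
  have sv' : ∀ x, s * (v * x) = v * (s * x) := fun x => by rw [← mul_assoc, sv, mul_assoc]
  have tu' : ∀ x, t * (u * x) = u * (t * x) := fun x => by rw [← mul_assoc, tu, mul_assoc]
  have tv' : ∀ x, t * (v * x) = v * (t * x) := fun x => by rw [← mul_assoc, tv, mul_assoc]
  fin_cases i <;> fin_cases j <;> first
    | exact absurd rfl hij
    | (simp [fiveGL, mul_assoc, su, sv, tu, tv, ts, vu, uu, tt, vv, ss, su', sv', tu', tv', ts', vu', uu', vv', tt',
        ss', -mul_eq_mul_left_iff, -mul_eq_mul_right_iff])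

theorem Pauli.five (P : Pauli R u v s t) : Five (fun i => ((fiveGL u v s t i : GL ι F) : Matrix ι ι F)) where
  sq i := by rw [← Units.val_mul, P.five_sq i, Units.val_one]
  anti i j h := by rw [← Units.val_mul, P.five_anti i j h, Units.val_neg, Units.val_mul]

/-! ### The element of order five -/

/-- the `5`-element -/
noncomputable def w5 (h2 : (2 : F) ≠ 0) (P : Pauli R u v s t) : GL ι F where
  val := (4 : F)⁻¹ • w4 (fun i => ((fiveGL u v s t i : GL ι F) : Matrix ι ι F))
  inv := (4 : F)⁻¹ • w4' (fun i => ((fiveGL u v s t i : GL ι F) : Matrix ι ι F))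
  val_inv := by
    rw [smul_mul_smul_comm, P.five.w4_mul]
    have h4 : (4 : F) ≠ 0 := by
      have : (4 : F) = 2 * 2 := by norm_num
      rw [this]; exact mul_ne_zero h2 h2
    have h16 : (16 : Matrix ι ι F) = (16 : F) • (1 : Matrix ι ι F) := by
      rw [← algebraMap_smul (R := F) (A := Matrix ι ι F), Algebra.algebraMap_eq_smul_one]
      simp only [smul_eq_mul, mul_one]
      rw [← Algebra.algebraMap_eq_smul_one, map_ofNat]
    rw [h16, smul_smul]
    have : (4 : F)⁻¹ * (4 : F)⁻¹ * 16 = 1 := by field_simp; norm_num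
    rw [this, one_smul]
  inv_val := by
    rw [smul_mul_smul_comm, P.five.w4'_mul]
    have h4 : (4 : F) ≠ 0 := by
      have : (4 : F) = 2 * 2 := by norm_num
      rw [this]; exact mul_ne_zero h2 h2
    have h16 : (16 : Matrix ι ι F) = (16 : F) • (1 : Matrix ι ι F) := by
      rw [← algebraMap_smul (R := F) (A := Matrix ι ι F), Algebra.algebraMap_eq_smul_one]
      simp only [smul_eq_mul, mul_one]
      rw [← Algebra.algebraMap_eq_smul_one, map_ofNat]
    rw [h16, smul_smul]
    have : (4 : F)⁻¹ * (4 : F)⁻¹ * 16 = 1 := by field_simp; norm_num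
    rw [this, one_smul]

theorem w5_conj (h2 : (2 : F) ≠ 0) (P : Pauli R u v s t) (i : Fin 5) :
    w5 h2 P * fiveGL u v s t i = fiveGL u v s t (i + 1) * w5 h2 P := by
  apply Units.ext
  rw [Units.val_mul, Units.val_mul]
  change (4 : F)⁻¹ • w4 _ * _ = _ * (4 : F)⁻¹ • w4 _
  rw [smul_mul_assoc, mul_smul_comm, P.five.w4_conj i]

theorem w5_mem_normalizer [Finite R] (h2 : (2 : F) ≠ 0) (P : Pauli R u v s t) :
    w5 h2 P ∈ subgroupNormalizer R := by
  obtain ⟨w, hw⟩ : ∃ w, w = w5 h2 P := ⟨_, rfl⟩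
  have c0 : w * u = v * w := by rw [hw]; exact w5_conj h2 P 0
  have c1 : w * v = (u * v * s) * w := by rw [hw]; exact w5_conj h2 P 1
  have c2 : w * (u * v * s) = (u * v * t) * w := by rw [hw]; exact w5_conj h2 P 2
  have c3 : w * (u * v * t) = (u * v * (s * t)) * w := by rw [hw]; exact w5_conj h2 P 3
  rw [← hw]
  have h1 := R.mul_mem P.hu P.hv
  have uvuv : (u * v) * (u * v) = -1 := by
    rw [mul_assoc, ← mul_assoc v, P.vu, neg_mul, mul_neg, mul_assoc, P.vv, mul_one, P.uu]
  have hsx : s = -((u * v) * (u * v * s)) := by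
    rw [← mul_assoc, uvuv, neg_one_mul, neg_neg]
  have htx : t = -((u * v) * (u * v * t)) := by
    rw [← mul_assoc, uvuv, neg_one_mul, neg_neg]
  have hneg : ∀ x ∈ R, -x ∈ R := by
    intro x hx
    have := R.mul_mem (R.mul_mem h1 h1) hx
    rwa [uvuv, neg_one_mul] at this
  have m2 := R.mul_mem h1 P.hs
  have m3 := R.mul_mem h1 P.ht
  have m4 := R.mul_mem h1 (R.mul_mem P.hs P.ht)
  refine P.mem_normalizer (u' := v) (v' := u * v * s) (s' := -((v * (u * v * s)) * (u * v * t)))
    (t' := -((v * (u * v * s)) * (u * v * (s * t)))) P.hv m2 ?_ ?_ c0 c1 ?_ ?_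
  · exact hneg _ (R.mul_mem (R.mul_mem P.hv m2) m3)
  · exact hneg _ (R.mul_mem (R.mul_mem P.hv m2) m4)
  · conv_lhs => rw [hsx]
    rw [mul_neg, neg_mul]
    congr 1
    calc w * (u * v * (u * v * s)) = (w * u) * v * (u * v * s) := by simp only [mul_assoc]
      _ = v * (w * v) * (u * v * s) := by rw [c0]; simp only [mul_assoc]
      _ = v * (u * v * s) * (w * (u * v * s)) := by rw [c1]; simp only [mul_assoc]
      _ = v * (u * v * s) * (u * v * t) * w := by rw [c2]; simp only [mul_assoc]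
  · conv_lhs => rw [htx]
    rw [mul_neg, neg_mul]
    congr 1
    calc w * (u * v * (u * v * t)) = (w * u) * v * (u * v * t) := by simp only [mul_assoc]
      _ = v * (w * v) * (u * v * t) := by rw [c0]; simp only [mul_assoc]
      _ = v * (u * v * s) * (w * (u * v * t)) := by rw [c1]; simp only [mul_assoc]
      _ = v * (u * v * s) * (u * v * (s * t)) * w := by rw [c3]; simp only [mul_assoc]

/-- an element commuting with the generators is scalar -/
theorem Pauli.scalar_of_comm [Nonempty ι] (hc1 : Comm1 R) (P : Pauli R u v s t) {y : GL ι F} (hu : y * u = u * y)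
    (hv : y * v = v * y) (hs : y * s = s * y) (ht : y * t = t * y) : y ∈ scalars ι F := by
  apply Cfsg.Agent.H960.scalar_of_comm hc1
  have h1 : Subgroup.closure ({u, v, s, t} ∪ ((R ⊓ scalars ι F : Subgroup (GL ι F)) : Set (GL ι F))) ≤
      Subgroup.centralizer {y} := by
    rw [Subgroup.closure_le]
    rintro x (hx | hx)
    · simp only [Set.mem_insert_iff, Set.mem_singleton_iff] at hx
      rw [SetLike.mem_coe, Subgroup.mem_centralizer_singleton_iff]
      rcases hx with rfl | rfl | rfl | rfl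
      · exact hu.symm
      · exact hv.symm
      · exact hs.symm
      · exact ht.symm
    · rw [SetLike.mem_coe, Subgroup.mem_centralizer_singleton_iff]
      exact comm_of_scalar hx.2 y
  intro g hg
  have := h1 (P.gen g hg)
  rw [Subgroup.mem_centralizer_singleton_iff] at this
  exact this.symm

theorem w5_pow_scalar [Nonempty ι] (hc1 : Comm1 R) (h2 : (2 : F) ≠ 0) (P : Pauli R u v s t) :
    (w5 h2 P) ^ 5 ∈ scalars ι F := by
  set w := w5 h2 P with hw
  set g := fiveGL u v s t with hg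
  have hc : ∀ i, w * g i = g (i + 1) * w := w5_conj h2 P
  have h5 : ∀ i, w ^ 5 * g i = g i * w ^ 5 := by
    intro i
    have h7 : i + 1 + 1 + 1 + 1 + 1 = i := by
      fin_cases i <;> rfl
    calc w ^ 5 * g i = w * (w * (w * (w * (w * g i)))) := by simp only [pow_succ, pow_zero, one_mul, mul_assoc]
      _ = g (i + 1 + 1 + 1 + 1 + 1) * (w * (w * (w * (w * w)))) := by
          have hc' : ∀ i x, w * (g i * x) = g (i + 1) * (w * x) := fun i x => by
            rw [← mul_assoc, hc, mul_assoc]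
          rw [hc, hc', hc', hc', hc']
      _ = g i * w ^ 5 := by rw [h7]; simp only [pow_succ, pow_zero, one_mul, mul_assoc]
  have hu : w ^ 5 * u = u * w ^ 5 := h5 0
  have hv : w ^ 5 * v = v * w ^ 5 := h5 1
  have h2' : w ^ 5 * (u * v * s) = (u * v * s) * w ^ 5 := h5 2
  have h3' : w ^ 5 * (u * v * t) = (u * v * t) * w ^ 5 := h5 3
  have huv : w ^ 5 * (u * v) = (u * v) * w ^ 5 := by rw [← mul_assoc, hu, mul_assoc, hv, mul_assoc]
  apply P.scalar_of_comm hc1 hu hv
  · rw [← mul_assoc, huv, mul_assoc, mul_assoc (u * v) s] at h2'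
    exact mul_left_cancel h2'
  · rw [← mul_assoc, huv, mul_assoc, mul_assoc (u * v) t] at h3'
    exact mul_left_cancel h3'

theorem w5_not_scalar [Nonempty ι] (h2 : (2 : F) ≠ 0) (P : Pauli R u v s t) :
    w5 h2 P ∉ scalars ι F := by
  intro hs
  have huv : u = v := by
    have := w5_conj h2 P 0
    rw [comm_of_scalar hs] at this
    exact mul_right_cancel this
  have h1 := P.vu
  rw [huv] at h1
  exact neg_ne h2 _ h1.symm

theorem w5_mem {G0 : Subgroup (GL ι F)} {st : Matrix ι ι F → Matrix ι ι F} (S : StarG G0 st) (hR : R ≤ G0)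
    (h2 : (2 : F) ≠ 0) (P : Pauli R u v s t) : w5 h2 P ∈ G0 := by
  rw [S.mem]
  have h1 : ∀ i, st (fiveGL u v s t i : GL ι F) = (fiveGL u v s t i : GL ι F) := fun i =>
    S.of_sq_one (hR (P.five_mem i)) (P.five_sq i)
  have h3 : st ((w5 h2 P : GL ι F) : Matrix ι ι F) = (((w5 h2 P)⁻¹ : GL ι F) : Matrix ι ι F) := by
    change st ((4 : F)⁻¹ • w4 _) = (4 : F)⁻¹ • w4' _
    rw [S.quarter h2, w4, w4']
    simp only [S.mul, S.sub, h1, mul_assoc]
  rw [h3, ← Units.val_mul, inv_mul_cancel, Units.val_one]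

/-! ### Elements of order three -/

/-- the invertible matrix attached to a root of `X² + X + 1` -/
def glQuad (M : Matrix ι ι F) (h : M * M + M + 1 = 0) : GL ι F where
  val := M
  inv := M * M
  val_inv := by
    have h1 : M * M = -M - 1 := by
      rw [← sub_eq_zero, ← h]; abel
    rw [h1, mul_sub, mul_neg, h1]; simp
  inv_val := by
    have h1 : M * M = -M - 1 := by
      rw [← sub_eq_zero, ← h]; abel
    rw [h1, sub_mul, neg_mul, h1]; simp

@[simp] theorem coe_glQuad (M : Matrix ι ι F) (h : M * M + M + 1 = 0) :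
    ((glQuad M h : GL ι F) : Matrix ι ι F) = M := rfl

/-- quaternion `3`-matrix -/
def qm (s t : Matrix ι ι F) : Matrix ι ι F := -((2 : F)⁻¹ • (1 + s + t + s * t))

theorem qm_quad (h2 : (2 : F) ≠ 0) {s t : Matrix ι ι F} (ss : s * s = -1) (tt : t * t = -1)
    (ts : t * s = -(s * t)) : qm s t * qm s t + qm s t + 1 = 0 := by
  have h := quat_sq ss tt ts
  have h4 : (4 : F)⁻¹ = (2 : F)⁻¹ * (2 : F)⁻¹ := by
    rw [← _root_.mul_inv]; norm_num
  have e2 : (2 : Matrix ι ι F) = (2 : F) • (1 : Matrix ι ι F) := by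
    rw [two_smul, one_add_one_eq_two]
  have e4 : (4 : Matrix ι ι F) = (4 : F) • (1 : Matrix ι ι F) := by
    have a1 : (4 : Matrix ι ι F) = 2 + 2 := by norm_num
    have a2 : (4 : F) = 2 + 2 := by norm_num
    rw [a1, a2, add_smul, ← e2]
  rw [qm, neg_mul_neg, smul_mul_smul_comm, h, e2, e4, smul_mul_assoc, one_mul, smul_sub, smul_smul, smul_smul]
  have b1 : (2 : F)⁻¹ * (2 : F)⁻¹ * 2 = (2 : F)⁻¹ := by field_simp
  have b2 : (2 : F)⁻¹ * (2 : F)⁻¹ * 4 = 1 := by field_simp; norm_num
  rw [b1, b2, one_smul]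
  abel

theorem qm_conj1 {s t : Matrix ι ι F} (ss : s * s = -1) (tt : t * t = -1) (ts : t * s = -(s * t)) :
    qm s t * s = t * qm s t := by
  rw [qm, neg_mul, mul_neg, smul_mul_assoc, mul_smul_comm, quat_conj1 ss tt ts]

theorem qm_conj2 {s t : Matrix ι ι F} (ss : s * s = -1) (tt : t * t = -1) (ts : t * s = -(s * t)) :
    qm s t * t = (s * t) * qm s t := by
  rw [qm, neg_mul, mul_neg, smul_mul_assoc, mul_smul_comm, quat_conj2 ss tt ts]

theorem qm_comm {s t x : Matrix ι ι F} (sx : s * x = x * s) (tx : t * x = x * t) : qm s t * x = x * qm s t := by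
  have h : s * t * x = x * (s * t) := by rw [mul_assoc, tx, ← mul_assoc, sx, mul_assoc]
  rw [qm, neg_mul, mul_neg, smul_mul_assoc, mul_smul_comm]
  simp only [add_mul, mul_add, one_mul, mul_one, sx, tx, h]

theorem qm_star {G0 : Subgroup (GL ι F)} {st : Matrix ι ι F → Matrix ι ι F} (S : StarG G0 st)
    (h2 : (2 : F) ≠ 0) {s t : Matrix ι ι F} (ss : s * s = -1) (tt : t * t = -1) (ts : t * s = -(s * t))
    (hs : st s = -s) (ht : st t = -t) : st (qm s t) * qm s t = 1 := by
  have e4 : (4 : Matrix ι ι F) = (4 : F) • (1 : Matrix ι ι F) := by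
    have a1 : (4 : Matrix ι ι F) = 1 + 1 + 1 + 1 := by norm_num
    have a2 : (4 : F) = 1 + 1 + 1 + 1 := by norm_num
    rw [a1, a2, add_smul, add_smul, add_smul, one_smul]
  have h : (1 - s - t - s * t) * (1 + s + t + s * t) = 4 := by
    have ss' : ∀ x, s * (s * x) = -x := fun x => by rw [← mul_assoc, ss, neg_one_mul]
    have tt' : ∀ x, t * (t * x) = -x := fun x => by rw [← mul_assoc, tt, neg_one_mul]
    have ts' : ∀ x, t * (s * x) = -(s * (t * x)) := fun x => by rw [← mul_assoc, ts, neg_mul, mul_assoc]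
    have a1 : (4 : Matrix ι ι F) = 1 + 1 + 1 + 1 := by norm_num
    rw [a1]
    simp only [mul_add, add_mul, sub_mul, mul_one, one_mul, mul_assoc, ss, tt, ts, ss', tt', ts', mul_neg, neg_neg]
    abel
  have h3 : st (qm s t) = -((2 : F)⁻¹ • (1 - s - t - s * t)) := by
    rw [qm, S.neg, S.half h2, S.add, S.add, S.add, S.one, S.mul, hs, ht, neg_mul_neg, ts]
    congr 2
    abel
  rw [h3, qm, neg_mul_neg, smul_mul_smul_comm, h, e4, smul_smul]
  have b2 : (2 : F)⁻¹ * (2 : F)⁻¹ * 4 = 1 := by field_simp; norm_num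
  rw [b2, one_smul]

/-- `y₁`, acting on `⟨s, t⟩` -/
def y1 (h2 : (2 : F) ≠ 0) (P : Pauli R u v s t) : GL ι F :=
  glQuad (qm (s : Matrix ι ι F) t) (qm_quad h2
    (by rw [← Units.val_mul, P.ss]; rfl) (by rw [← Units.val_mul, P.tt]; rfl)
    (by rw [← Units.val_mul, P.ts]; rfl))

theorem y1_s (h2 : (2 : F) ≠ 0) (P : Pauli R u v s t) : y1 h2 P * s = t * y1 h2 P := by
  apply Units.ext
  exact qm_conj1 (by rw [← Units.val_mul, P.ss]; rfl) (by rw [← Units.val_mul, P.tt]; rfl)
    (by rw [← Units.val_mul, P.ts]; rfl)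

theorem y1_t (h2 : (2 : F) ≠ 0) (P : Pauli R u v s t) : y1 h2 P * t = (s * t) * y1 h2 P := by
  apply Units.ext
  exact qm_conj2 (by rw [← Units.val_mul, P.ss]; rfl) (by rw [← Units.val_mul, P.tt]; rfl)
    (by rw [← Units.val_mul, P.ts]; rfl)

theorem y1_comm (h2 : (2 : F) ≠ 0) (P : Pauli R u v s t) {x : GL ι F} (sx : s * x = x * s) (tx : t * x = x * t) :
    y1 h2 P * x = x * y1 h2 P := by
  apply Units.ext
  exact qm_comm (by rw [← Units.val_mul, sx]; rfl) (by rw [← Units.val_mul, tx]; rfl)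

theorem y1_mem_normalizer [Finite R] (h2 : (2 : F) ≠ 0) (P : Pauli R u v s t) :
    y1 h2 P ∈ subgroupNormalizer R :=
  P.mem_normalizer P.hu P.hv P.ht (R.mul_mem P.hs P.ht) (y1_comm h2 P P.su P.tu) (y1_comm h2 P P.sv P.tv)
    (y1_s h2 P) (y1_t h2 P)

theorem y1_mem {G0 : Subgroup (GL ι F)} {st : Matrix ι ι F → Matrix ι ι F} (S : StarG G0 st) (hR : R ≤ G0)
    (h2 : (2 : F) ≠ 0) (P : Pauli R u v s t) : y1 h2 P ∈ G0 := by
  rw [S.mem]
  exact qm_star S h2 (by rw [← Units.val_mul, P.ss]; rfl) (by rw [← Units.val_mul, P.tt]; rfl)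
    (by rw [← Units.val_mul, P.ts]; rfl) (S.of_sq_neg (hR P.hs) P.ss) (S.of_sq_neg (hR P.ht) P.tt)

/-- Swapping the roles of the two pairs with the help of a scalar `j`, `j² = -1`. -/
theorem Pauli.swap (P : Pauli R u v s t) {j : GL ι F} (hj : j ∈ R) (hjs : j ∈ scalars ι F) (hjj : j * j = -1) :
    Pauli R (j * s) (j * t) (j * u) (j * v) := by
  have hcj : ∀ x, x * j = j * x := fun x => (comm_of_scalar hjs x).symm
  have key : ∀ x y : GL ι F, (j * x) * (j * y) = -(x * y) := by
    intro x y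
    rw [mul_assoc, ← mul_assoc x, hcj x, mul_assoc, ← mul_assoc j j, hjj, neg_one_mul]
  refine ⟨R.mul_mem hj P.hs, R.mul_mem hj P.ht, R.mul_mem hj P.hu, R.mul_mem hj P.hv, ?_, ?_, ?_, ?_, ?_, ?_,
    ?_, ?_, ?_, ?_, ?_⟩
  · rw [key, P.ss, neg_neg]
  · rw [key, P.tt, neg_neg]
  · rw [key, P.uu]
  · rw [key, P.vv]
  · rw [key, key, P.ts]
  · rw [key, key, P.vu]
  · rw [key, key, P.su]
  · rw [key, key, P.tu]
  · rw [key, key, P.sv]
  · rw [key, key, P.tv]
  · intro g hg
    have h1 := P.gen g hg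
    set T := Subgroup.closure ({j * s, j * t, j * u, j * v} ∪ ((R ⊓ scalars ι F : Subgroup (GL ι F)) : Set (GL ι F)))
      with hT
    have hjT : j ∈ T := Subgroup.subset_closure (Or.inr ⟨hj, hjs⟩)
    have hc : ∀ x : GL ι F, j * x ∈ T → x ∈ T := by
      intro x hx
      have := T.mul_mem (T.inv_mem hjT) hx
      rwa [inv_mul_cancel_left] at this
    have h2 : Subgroup.closure ({u, v, s, t} ∪ ((R ⊓ scalars ι F : Subgroup (GL ι F)) : Set (GL ι F))) ≤ T := by
      rw [Subgroup.closure_le]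
      rintro x (hx | hx)
      · simp only [Set.mem_insert_iff, Set.mem_singleton_iff] at hx
        rcases hx with rfl | rfl | rfl | rfl
        · exact hc _ (Subgroup.subset_closure (Or.inl (by simp)))
        · exact hc _ (Subgroup.subset_closure (Or.inl (by simp)))
        · exact hc _ (Subgroup.subset_closure (Or.inl (by simp)))
        · exact hc _ (Subgroup.subset_closure (Or.inl (by simp)))
      · exact Subgroup.subset_closure (Or.inr hx)
    exact h2 h1

/-! ### The controlled-`Z` involution -/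

/-- the invertible matrix attached to an involutory matrix -/
def glInv (M : Matrix ι ι F) (h : M * M = 1) : GL ι F where
  val := M
  inv := M
  val_inv := h
  inv_val := h

/-- controlled-`Z` matrix -/
def czm (u x : Matrix ι ι F) : Matrix ι ι F := (2 : F)⁻¹ • (1 + u + x - u * x)

theorem czm_sq (h2 : (2 : F) ≠ 0) {u x : Matrix ι ι F} (uu : u * u = 1) (xx : x * x = 1) (xu : x * u = u * x) :
    czm u x * czm u x = 1 := by
  have e4 : (4 : Matrix ι ι F) = (4 : F) • (1 : Matrix ι ι F) := by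
    have a1 : (4 : Matrix ι ι F) = 1 + 1 + 1 + 1 := by norm_num
    have a2 : (4 : F) = 1 + 1 + 1 + 1 := by norm_num
    rw [a1, a2, add_smul, add_smul, add_smul, one_smul]
  rw [czm, smul_mul_smul_comm, cz_sq uu xx xu, e4, smul_smul]
  have b2 : (2 : F)⁻¹ * (2 : F)⁻¹ * 4 = 1 := by field_simp; norm_num
  rw [b2, one_smul]

/-- For a scalar `j` with `j² = -1`: there is an involution in `N(R)` of trace two. -/
theorem exists_cz [Finite R] (h2 : (2 : F) ≠ 0) (P : Pauli R u v s t) {j : GL ι F} (hj : j ∈ R)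
    (hjs : j ∈ scalars ι F) (hjj : j * j = -1) :
    ∃ W : GL ι F, W ∈ subgroupNormalizer R ∧ W * W = 1 ∧ W * u = u * W ∧ W * v = (j * s * v) * W ∧
      (W : Matrix ι ι F) = (2 : F)⁻¹ • (1 + (u : Matrix ι ι F) + ((j * s : GL ι F) : Matrix ι ι F) -
        ((u * (j * s) : GL ι F) : Matrix ι ι F)) ∧
      ∀ (G0 : Subgroup (GL ι F)) (st : Matrix ι ι F → Matrix ι ι F), StarG G0 st → R ≤ G0 → W ∈ G0 := by
  have hcj : ∀ x, x * j = j * x := fun x => (comm_of_scalar hjs x).symm
  have key : ∀ x y : GL ι F, (j * x) * (j * y) = -(x * y) := by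
    intro x y
    rw [mul_assoc, ← mul_assoc x, hcj x, mul_assoc, ← mul_assoc j j, hjj, neg_one_mul]
  have hxR : j * s ∈ R := R.mul_mem hj P.hs
  have xx : j * s * (j * s) = 1 := by rw [key, P.ss, neg_neg]
  have xu : j * s * u = u * (j * s) := by rw [mul_assoc, P.su, ← mul_assoc, ← mul_assoc, hcj u]
  have vx : v * (j * s) = j * s * v := by rw [← mul_assoc, hcj v, mul_assoc, ← P.sv, mul_assoc]
  have tx : t * (j * s) = -(j * s * t) := by
    rw [← mul_assoc, hcj t, mul_assoc, P.ts, mul_neg, mul_assoc]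
  have muu : (u : Matrix ι ι F) * u = 1 := by rw [← Units.val_mul, P.uu]; rfl
  have mxx : ((j * s : GL ι F) : Matrix ι ι F) * ((j * s : GL ι F) : Matrix ι ι F) = 1 := by
    rw [← Units.val_mul, xx]; rfl
  have mxu : ((j * s : GL ι F) : Matrix ι ι F) * u = u * ((j * s : GL ι F) : Matrix ι ι F) := by
    rw [← Units.val_mul, xu]; rfl
  have mvu : (v : Matrix ι ι F) * u = -(u * v) := by rw [← Units.val_mul, P.vu]; rfl
  have mvx : (v : Matrix ι ι F) * ((j * s : GL ι F) : Matrix ι ι F) = ((j * s : GL ι F) : Matrix ι ι F) * v := by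
    rw [← Units.val_mul, vx]; rfl
  have mtx : (t : Matrix ι ι F) * ((j * s : GL ι F) : Matrix ι ι F) =
      -(((j * s : GL ι F) : Matrix ι ι F) * t) := by
    rw [← Units.val_mul, tx]; rfl
  have mtu : (t : Matrix ι ι F) * u = u * t := by rw [← Units.val_mul, P.tu]; rfl
  set W : GL ι F := glInv (czm (u : Matrix ι ι F) ((j * s : GL ι F) : Matrix ι ι F))
    (czm_sq h2 muu mxx mxu) with hW
  have hWm : (W : Matrix ι ι F) = czm (u : Matrix ι ι F) ((j * s : GL ι F) : Matrix ι ι F) := rfl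
  have cu : W * u = u * W := by
    apply Units.ext
    rw [Units.val_mul, Units.val_mul, hWm, czm, smul_mul_assoc, mul_smul_comm]
    congr 1
    simp only [add_mul, sub_mul, mul_add, mul_sub, one_mul, mul_one, mul_assoc, mxu]
  have cx : W * (j * s) = (j * s) * W := by
    apply Units.ext
    change czm (u : Matrix ι ι F) ((j * s : GL ι F) : Matrix ι ι F) * ((j * s : GL ι F) : Matrix ι ι F) =
      ((j * s : GL ι F) : Matrix ι ι F) * czm (u : Matrix ι ι F) ((j * s : GL ι F) : Matrix ι ι F)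
    rw [czm, smul_mul_assoc, mul_smul_comm]
    congr 1
    have e1 : ((j * s : GL ι F) : Matrix ι ι F) * ((u : Matrix ι ι F) * ((j * s : GL ι F) : Matrix ι ι F)) = u := by
      rw [← mul_assoc, mxu, mul_assoc, mxx, mul_one]
    simp only [add_mul, sub_mul, mul_add, mul_sub, one_mul, mul_one, mul_assoc, mxx, e1]
    rw [mxu]
  have cv : W * v = (j * s * v) * W := by
    apply Units.ext
    rw [Units.val_mul, Units.val_mul, hWm, czm, smul_mul_assoc, mul_smul_comm,
      cz_conj1 muu mxx mxu mvu mvx, Units.val_mul (j * s) v]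
  have ct : W * t = (u * t) * W := by
    apply Units.ext
    rw [Units.val_mul, Units.val_mul, hWm, czm, smul_mul_assoc, mul_smul_comm,
      cz_conj2 muu mxx mxu mtx mtu, Units.val_mul u t]
  have cs : W * s = s * W := by
    have h3 : j * (W * s) = j * (s * W) := by
      rw [← mul_assoc, ← hcj W, mul_assoc, cx, mul_assoc]
    exact mul_left_cancel h3
  refine ⟨W, P.mem_normalizer P.hu (R.mul_mem hxR P.hv) P.hs (R.mul_mem P.hu P.ht) cu cv cs ct,
    Units.ext (czm_sq h2 muu mxx mxu), cu, cv, rfl, ?_⟩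
  intro G0 st S hRG
  rw [S.mem, hWm]
  have h3 : st (czm (u : Matrix ι ι F) ((j * s : GL ι F) : Matrix ι ι F)) =
      czm (u : Matrix ι ι F) ((j * s : GL ι F) : Matrix ι ι F) := by
    rw [czm, S.half h2, S.sub, S.add, S.add, S.one, S.mul, S.of_sq_one (hRG P.hu) P.uu,
      S.of_sq_one (hRG hxR) xx, mxu]
  rw [h3, czm_sq h2 muu mxx mxu]

end Elements

end Cfsg.Agent.H960
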