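import Cfsg.Agent.H960.Five
import Cfsg.Agent.ClassicalGeometry.GUBasic
import Cfsg.Agent.GH.Cov.LieU4Diag

/-!
Diagonalisation of elements `x` with `x ^ r = 1` when the field contains the `r`-th roots of unity (H960),
over `GL_n(F)` and over `GU_n(q)`, `r ∣ q + 1`; conjugacy inside `SL_n(F)` and `SU_n(q)`.
-/

set_option autoImplicit false
open Cfsg Cfsg.Geo Matrix
open scoped MatrixGroups

namespace Cfsg.Agent.H960

variable {F : Type*} [Field F]

/-- the unnormalised projection to the `ζ^j`-eigenspace -/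
def proj {ι : Type} [Fintype ι] [DecidableEq ι] (ζ : F) (r : ℕ) (M : Matrix ι ι F) (j : ℕ) : Matrix ι ι F :=
  ∑ i ∈ Finset.range r, ((ζ⁻¹) ^ j • M) ^ i

theorem mul_proj {ι : Type} [Fintype ι] [DecidableEq ι] {ζ : F} {r : ℕ} (hζ : ζ ^ r = 1) (hr : 0 < r)
    {M : Matrix ι ι F} (hM : M ^ r = 1) (j : ℕ) : M * proj ζ r M j = ζ ^ j • proj ζ r M j := by
  have hζ0 : ζ ≠ 0 := by
    rintro rfl
    rw [zero_pow hr.ne'] at hζ
    exact zero_ne_one hζ
  have h1 : ((ζ⁻¹) ^ j • M) ^ r = 1 := by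
    rw [smul_pow, hM, ← pow_mul, mul_comm j r, pow_mul, inv_pow, hζ, inv_one, one_pow, one_smul]
  have h2 := mul_norm_eq h1
  rw [Matrix.smul_mul] at h2
  have h3 : M * proj ζ r M j = ζ ^ j • ((ζ⁻¹) ^ j • (M * proj ζ r M j)) := by
    rw [smul_smul, ← mul_pow, mul_inv_cancel₀ hζ0, one_pow, one_smul]
  rw [h3]
  congr 1

theorem sum_proj {ι : Type} [Fintype ι] [DecidableEq ι] {ζ : F} {r : ℕ} (hζ : IsPrimitiveRoot ζ r) (hr : 0 < r)
    (M : Matrix ι ι F) : ∑ j ∈ Finset.range r, proj ζ r M j = (r : F) • (1 : Matrix ι ι F) := by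
  have h1 : ∀ j i : ℕ, ((ζ⁻¹) ^ j • M) ^ i = ((ζ⁻¹) ^ i) ^ j • M ^ i := by
    intro j i
    rw [smul_pow, ← pow_mul, ← pow_mul, mul_comm]
  simp only [proj, h1]
  rw [Finset.sum_comm, Finset.sum_eq_single 0]
  · simp only [pow_zero, one_pow, one_smul, Finset.sum_const, Finset.card_range]
    rw [← Nat.cast_smul_eq_nsmul F]
  · intro i hi hi0
    rw [← Finset.sum_smul]
    have h2 : (ζ⁻¹) ^ i ≠ 1 := by
      intro h
      rw [inv_pow, inv_eq_one] at h
      have := Nat.le_of_dvd (Nat.pos_of_ne_zero hi0) (hζ.dvd_of_pow_eq_one i h)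
      have := Finset.mem_range.1 hi
      omega
    rw [geom_sum_eq h2, ← pow_mul, mul_comm i r, pow_mul, inv_pow, hζ.pow_eq_one, inv_one, one_pow, sub_self,
      zero_div, zero_smul]
  · intro h
    exact absurd (Finset.mem_range.2 hr) h

/-- Diagonalisation over `GL`. -/
theorem exists_diag_GL {ι : Type} [Fintype ι] [DecidableEq ι] {ζ : F} {r : ℕ} (hζ : IsPrimitiveRoot ζ r)
    (hr : 0 < r) (hrF : (r : F) ≠ 0) {M : Matrix ι ι F} (hM : M ^ r = 1) :
    ∃ B : GL ι F, ∃ s : ι → F, (∀ i, s i ^ r = 1) ∧ M * (B : Matrix ι ι F) = (B : Matrix ι ι F) * Matrix.diagonal s := by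
  classical
  set S : Set (ι → F) := {v | ∃ c : F, c ^ r = 1 ∧ M *ᵥ v = c • v} with hS
  have hspan : ⊤ ≤ Submodule.span F S := by
    intro v _
    have h1 : v = (r : F)⁻¹ • ∑ j ∈ Finset.range r, proj ζ r M j *ᵥ v := by
      rw [← Matrix.sum_mulVec, sum_proj hζ hr, Matrix.smul_mulVec, Matrix.one_mulVec, smul_smul, inv_mul_cancel₀ hrF,
        one_smul]
    rw [h1]
    refine Submodule.smul_mem _ _ (Submodule.sum_mem _ (fun j _ => Submodule.subset_span ?_))
    refine ⟨ζ ^ j, by rw [← pow_mul, mul_comm, pow_mul, hζ.pow_eq_one, one_pow], ?_⟩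
    rw [Matrix.mulVec_mulVec, mul_proj hζ.pow_eq_one hr hM, Matrix.smul_mulVec]
  obtain ⟨κ, b, hb⟩ : ∃ (κ : Type _) (b : Module.Basis κ F (ι → F)), ∀ i, b i ∈ S :=
    ⟨_, Module.Basis.ofSpan hspan, fun i => Module.Basis.ofSpan_subset hspan ⟨i, rfl⟩⟩
  have hfin : Fintype κ := FiniteDimensional.fintypeBasisIndex b
  have hcard : Fintype.card κ = Fintype.card ι := by
    rw [← Module.finrank_eq_card_basis b, Module.finrank_fintype_fun_eq_card]
  let e := Fintype.equivOfCardEq hcard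
  let b' := b.reindex e
  have hb' : ∀ i, b' i ∈ S := fun i => by
    rw [Module.Basis.reindex_apply]
    exact hb _
  choose s hs hsM using hb'
  let B : Matrix ι ι F := (Pi.basisFun F ι).toMatrix b'
  have hBu : IsUnit B := by
    have := Module.Basis.invertibleToMatrix (Pi.basisFun F ι) b'
    exact isUnit_of_invertible B
  obtain ⟨B', hB'⟩ := hBu
  have hcol : ∀ j, B *ᵥ (Pi.single j 1) = b' j := by
    intro j
    ext i
    simp [B, Module.Basis.toMatrix_apply]
  refine ⟨B', s, hs, ?_⟩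
  have hB'' : (B' : Matrix ι ι F) = B := hB'
  rw [hB'']
  apply Matrix.ext_of_mulVec_single
  intro j
  have hd : (Matrix.diagonal s : Matrix ι ι F) *ᵥ (Pi.single j 1) = s j • (Pi.single j 1 : ι → F) := by
    ext i
    rw [Matrix.mulVec_diagonal, Pi.smul_apply, smul_eq_mul]
    by_cases hij : i = j
    · rw [hij]
    · rw [Pi.single_eq_of_ne hij, mul_zero, mul_zero]
  rw [← Matrix.mulVec_mulVec, hcol, hsM, ← Matrix.mulVec_mulVec, hd, Matrix.mulVec_smul, hcol]

section Unitary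

open Cfsg.Agent.GH.Cov.LieU4 Cfsg.Agent.LieClassical.HermBasic Cfsg.Agent.LieClassical

variable {q : ℕ}

theorem Iso_pow {n : ℕ} {M : Matrix (Fin n) (Fin n) F} (hM : Iso q M) (k : ℕ) : Iso q (M ^ k) := by
  induction k with
  | zero => rw [pow_zero]; exact Iso.one
  | succ k ih => rw [pow_succ]; exact ih.mul hM

variable [Fintype F]

/-- an isometry of order `r ∣ q + 1` has a non-isotropic eigenvector -/
theorem exists_eigen_U (hF : Fintype.card F = q ^ 2) {ζ : F} {r : ℕ} (hζ : IsPrimitiveRoot ζ r) (hr : 0 < r)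
    (hrq : r ∣ q + 1) (hrF : (r : F) ≠ 0) {n : ℕ} {M : Matrix (Fin (n + 1)) (Fin (n + 1)) F} (hM : Iso q M)
    (hMr : M ^ r = 1) : ∃ (v : Fin (n + 1) → F) (ε : F), ε ^ r = 1 ∧ M *ᵥ v = ε • v ∧
      hermForm (n + 1) F q v v = 1 := by
  set e : Fin (n + 1) → F := Pi.single 0 1 with hedef
  have he : hermForm (n + 1) F q e e = 1 := by
    rw [hedef, herm_single_left, Pi.single_eq_same, one_pow, mul_one]
  have hζ0 : ζ ≠ 0 := hζ.ne_zero hr.ne'
  have hpow : ∀ c : F, c ^ r = 1 → c * c ^ q = 1 := by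
    intro c hc
    obtain ⟨k, hk⟩ := hrq
    rw [← pow_succ', hk, pow_mul, hc, one_pow]
  have hζj : ∀ j : ℕ, (ζ ^ j) ^ r = 1 := fun j => by rw [← pow_mul, mul_comm, pow_mul, hζ.pow_eq_one, one_pow]
  set v : ℕ → (Fin (n + 1) → F) := fun j => proj ζ r M j *ᵥ e with hv
  have hMv : ∀ j, M *ᵥ v j = ζ ^ j • v j := by
    intro j
    rw [hv, Matrix.mulVec_mulVec, mul_proj hζ.pow_eq_one hr hMr, Matrix.smul_mulVec]
  have horth : ∀ j ∈ Finset.range r, ∀ k ∈ Finset.range r, j ≠ k → hermForm (n + 1) F q (v j) (v k) = 0 := by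
    intro j hj k hk hjk
    have h1 := hM (v j) (v k)
    rw [hMv, hMv, herm_smul_left, herm_smul_right] at h1
    have h2 : (ζ ^ j * (ζ ^ k) ^ q - 1) * hermForm (n + 1) F q (v j) (v k) = 0 := by linear_combination h1
    refine (mul_eq_zero.1 h2).resolve_left (fun h3 => hjk ?_)
    have h4 : ζ ^ j = ζ ^ k := by
      have h5 : ζ ^ k * (ζ ^ k) ^ q = 1 := hpow _ (hζj k)
      have h6 : (ζ ^ j - ζ ^ k) * (ζ ^ k) ^ q = 0 := by linear_combination h3 - h5
      exact sub_eq_zero.1 ((mul_eq_zero.1 h6).resolve_right (pow_ne_zero _ (pow_ne_zero _ hζ0)))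
    exact hζ.pow_inj (Finset.mem_range.1 hj) (Finset.mem_range.1 hk) h4
  have key : ∃ j ∈ Finset.range r, hermForm (n + 1) F q (v j) (v j) ≠ 0 := by
    by_contra hcon
    push Not at hcon
    have hsum : ∑ j ∈ Finset.range r, v j = (r : F) • e := by
      rw [hv, ← Matrix.sum_mulVec, sum_proj hζ hr, Matrix.smul_mulVec, Matrix.one_mulVec]
    have h1 : hermForm (n + 1) F q ((r : F) • e) ((r : F) • e) = 0 := by
      rw [← hsum, herm_sum_left]
      refine Finset.sum_eq_zero (fun j hj => ?_)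
      rw [herm_sum_right hF]
      refine Finset.sum_eq_zero (fun k hk => ?_)
      by_cases hjk : j = k
      · rw [← hjk]; exact hcon j hj
      · exact horth j hj k hk hjk
    rw [herm_smul_left, herm_smul_right, he, mul_one] at h1
    rcases mul_eq_zero.1 h1 with h | h
    · exact hrF h
    · exact hrF (pow_eq_zero_iff (q_pos hF).ne' |>.1 h)
  obtain ⟨j, hj, hne⟩ := key
  obtain ⟨μ, hμ0, hμ⟩ := exists_norm_eq_ne hF (herm_self_pow hF (v j)) hne
  refine ⟨μ⁻¹ • v j, ζ ^ j, hζj j, ?_, ?_⟩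
  · rw [Matrix.mulVec_smul, hMv, smul_comm]
  · rw [herm_smul_left, herm_smul_right, ← hμ, inv_pow]
    have : μ ^ q ≠ 0 := pow_ne_zero _ hμ0
    field_simp

/-- isometries of order `r ∣ q + 1` are diagonalisable over an orthonormal basis -/
theorem exists_diag_U (hF : Fintype.card F = q ^ 2) {ζ : F} {r : ℕ} (hζ : IsPrimitiveRoot ζ r) (hr : 0 < r)
    (hrq : r ∣ q + 1) (hrF : (r : F) ≠ 0) :
    ∀ (n : ℕ) (M : Matrix (Fin n) (Fin n) F), Iso q M → M ^ r = 1 →
      ∃ U : Matrix (Fin n) (Fin n) F, Iso q U ∧ ∃ s : Fin n → F, (∀ i, s i ^ r = 1) ∧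
        M * U = U * Matrix.diagonal s := by
  have hpow : ∀ c : F, c ^ r = 1 → c * c ^ q = 1 := by
    intro c hc
    obtain ⟨k, hk⟩ := hrq
    rw [← pow_succ', hk, pow_mul, hc, one_pow]
  intro n
  induction n with
  | zero =>
    intro M hM hMM
    exact ⟨1, Iso.one, 1, fun i => i.elim0, Subsingleton.elim _ _⟩
  | succ n ih =>
    intro M hM hMM
    obtain ⟨v, ε, hε, hv, hv1⟩ := exists_eigen_U hF hζ hr hrq hrF hM hMM
    have hε0 : ε ≠ 0 := by
      rintro rfl
      rw [zero_pow hr.ne'] at hε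
      exact zero_ne_one hε
    have hεr : ε⁻¹ ^ r = 1 := by rw [inv_pow, hε, inv_one]
    have hεq : ε⁻¹ * ε⁻¹ ^ q = 1 := hpow _ hεr
    have hεε : ε⁻¹ * ε = 1 := inv_mul_cancel₀ hε0
    obtain ⟨G, hG, hGe⟩ := exists_iso_single hF hv1
    obtain ⟨G', hG', hGG, hGG'⟩ := hG.exists_inv hF
    set N : Matrix (Fin (n + 1)) (Fin (n + 1)) F := ε⁻¹ • (G' * M * G) with hN
    have hNiso : Iso q N := ((hG'.mul hM).mul hG).smul hεq
    have hNfix : N *ᵥ (Pi.single 0 1) = Pi.single 0 1 := by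
      rw [hN, Matrix.smul_mulVec, ← Matrix.mulVec_mulVec, ← Matrix.mulVec_mulVec, hGe, hv,
        Matrix.mulVec_smul, ← hGe, Matrix.mulVec_mulVec, hGG', Matrix.one_mulVec, smul_smul, hεε,
        one_smul]
    have hNr : ∀ k : ℕ, (G' * M * G) ^ k = G' * M ^ k * G := by
      intro k
      induction k with
      | zero => rw [pow_zero, pow_zero, Matrix.mul_one, hGG']
      | succ k ihk =>
        rw [pow_succ, ihk, pow_succ]
        calc G' * M ^ k * G * (G' * M * G) = G' * M ^ k * (G * G') * M * G := by simp only [Matrix.mul_assoc]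
          _ = G' * (M ^ k * M) * G := by rw [hGG, Matrix.mul_one, Matrix.mul_assoc G' (M ^ k) M]
    have hNN : N ^ r = 1 := by
      rw [hN, smul_pow, hεr, one_smul, hNr, hMM, Matrix.mul_one, hGG']
    have hNext := Cfsg.Agent.LieClassical.GUOrder.eq_ext1_of_fix hF N hNiso hNfix
    set A := N.submatrix Fin.succ Fin.succ with hA
    have hAiso : Iso q A := by
      apply Cfsg.Agent.LieClassical.GUOrder.submatrix_isom hF
      rw [← hNext]
      exact hNiso
    have hApow : ∀ k : ℕ, GUOrder.ext1 (1 : F) A ^ k = GUOrder.ext1 1 (A ^ k) := by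
      intro k
      induction k with
      | zero => rw [pow_zero, pow_zero, ext1_one]
      | succ k ihk => rw [pow_succ, ihk, ext1_mul, one_mul, pow_succ]
    have hAA : A ^ r = 1 := by
      have h3 : GUOrder.ext1 (1 : F) (A ^ r) = GUOrder.ext1 1 1 := by
        rw [← hApow, ← hNext, hNN, ext1_one]
      exact ext1_inj h3
    obtain ⟨U', hU', s, hs, hMU⟩ := ih A hAiso hAA
    have hU1 : Iso q (GUOrder.ext1 (1 : F) U') :=
      Cfsg.Agent.LieClassical.GUOrder.ext1_isom 1 (one_pow _) _ hU'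
    refine ⟨G * GUOrder.ext1 1 U', hG.mul hU1, Fin.cons ε (ε • s), ?_, ?_⟩
    · intro i
      refine Fin.cases ?_ (fun i => ?_) i
      · rw [Fin.cons_zero]; exact hε
      · rw [Fin.cons_succ, Pi.smul_apply, smul_eq_mul, mul_pow, hε, hs, one_mul]
    · have hMG : M * G = ε • (G * N) := by
        rw [hN, Matrix.mul_smul, smul_smul, mul_inv_cancel₀ hε0, one_smul, ← Matrix.mul_assoc, ← Matrix.mul_assoc,
          hGG, Matrix.one_mul]
      rw [← smul_ext1_diagonal, ← Matrix.mul_assoc, hMG, Matrix.smul_mul, Matrix.mul_assoc, hNext,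
        ext1_mul, hMU, Matrix.mul_smul, Matrix.mul_assoc, ext1_mul]

end Unitary

end Cfsg.Agent.H960
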