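import Cfsg.Agent.H960.Cases
import Cfsg.Agent.H960.Syl

/-!
Conjugacy of elements of order `r` into `N(R)` by Sylow's theorem (H960).
-/

set_option autoImplicit false
open Cfsg Cfsg.Geo Matrix
open scoped MatrixGroups

namespace Cfsg.Agent.H960

variable {ι : Type} [Fintype ι] [DecidableEq ι] {F : Type*} [Field F]

theorem orderOf_two5 : orderOf ((2 : ℕ) : ZMod 5) = 4 := by
  have : Fact (Nat.Prime 2) := ⟨Nat.prime_two⟩
  have h1 : ¬ ((2 : ℕ) : ZMod 5) ^ 2 ^ 1 = 1 := by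
    intro h
    have h2 : (((2 : ℕ) ^ 2 ^ 1 : ℕ) : ZMod 5) = ((1 : ℕ) : ZMod 5) := by push_cast at h ⊢; exact h
    rw [ZMod.natCast_eq_natCast_iff] at h2
    exact absurd h2 (by decide)
  have h3 : ((2 : ℕ) : ZMod 5) ^ 2 ^ (1 + 1) = 1 := by
    have h2 : (((2 : ℕ) ^ 2 ^ (1 + 1) : ℕ) : ZMod 5) = ((1 : ℕ) : ZMod 5) := by
      rw [ZMod.natCast_eq_natCast_iff]; decide
    push_cast at h2 ⊢; exact h2
  have := orderOf_eq_prime_pow (p := 2) (n := 1) h1 h3
  simpa using this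

theorem orderOf_three5 : orderOf ((3 : ℕ) : ZMod 5) = 4 := by
  have : Fact (Nat.Prime 2) := ⟨Nat.prime_two⟩
  have h1 : ¬ ((3 : ℕ) : ZMod 5) ^ 2 ^ 1 = 1 := by
    intro h
    have h2 : (((3 : ℕ) ^ 2 ^ 1 : ℕ) : ZMod 5) = ((1 : ℕ) : ZMod 5) := by push_cast at h ⊢; exact h
    rw [ZMod.natCast_eq_natCast_iff] at h2
    exact absurd h2 (by decide)
  have h3 : ((3 : ℕ) : ZMod 5) ^ 2 ^ (1 + 1) = 1 := by
    have h2 : (((3 : ℕ) ^ 2 ^ (1 + 1) : ℕ) : ZMod 5) = ((1 : ℕ) : ZMod 5) := by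
      rw [ZMod.natCast_eq_natCast_iff]; decide
    push_cast at h2 ⊢; exact h2
  have := orderOf_eq_prime_pow (p := 2) (n := 1) h1 h3
  simpa using this

theorem mod5_of_order {p : ℕ} (hp5 : ¬ 5 ∣ p) (hord : orderOf (p : ZMod 5) ≠ 4) : p % 5 = 1 ∨ p % 5 = 4 := by
  have hlt : p % 5 < 5 := Nat.mod_lt _ (by norm_num)
  have hpc : (p : ZMod 5) = ((p % 5 : ℕ) : ZMod 5) := by
    rw [ZMod.natCast_mod]
  have h0 : p % 5 ≠ 0 := fun h => hp5 (Nat.dvd_of_mod_eq_zero h)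
  have hne2 : p % 5 ≠ 2 := by
    intro h
    apply hord
    rw [hpc, h]
    exact orderOf_two5
  have hne3 : p % 5 ≠ 3 := by
    intro h
    apply hord
    rw [hpc, h]
    exact orderOf_three5
  omega

theorem ne_five_of_order {p : ℕ} (hord : orderOf (p : ZMod 5) = 4) : ¬ 5 ∣ p := by
  intro hd
  have h2 : (p : ZMod 5) = 0 := (ZMod.natCast_eq_zero_iff _ _).2 hd
  rw [h2] at hord
  have h3 : (0 : ZMod 5) ^ orderOf (0 : ZMod 5) = 1 := pow_orderOf_eq_one _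
  rw [hord, zero_pow (by norm_num)] at h3
  have h5 : Fact (Nat.Prime 5) := ⟨Nat.prime_five⟩
  exact zero_ne_one h3

theorem norms_of_order4 [Fintype F] {p : ℕ} (hF : Fintype.card F = p) (hord : orderOf (p : ZMod 5) = 4)
    (hn : Fintype.card ι = 4) {x : GL ι F} (hx : x ^ 5 = 1) (hx1 : x ≠ 1) :
    ∑ k ∈ Finset.range 5, (x : Matrix ι ι F) ^ k = 0 := by
  have h5 : Fact (Nat.Prime 5) := ⟨Nat.prime_five⟩
  have h1 : ∀ d : ℕ, 0 < d → d < 4 → ¬ p ^ d ≡ 1 [MOD 5] := by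
    intro d hd0 hd4 h
    have h2 : (p : ZMod 5) ^ d = 1 := by
      have := (ZMod.natCast_eq_natCast_iff _ _ _).2 h
      simpa using this
    have h3 := orderOf_dvd_of_pow_eq_one h2
    rw [hord] at h3
    have := Nat.le_of_dvd hd0 h3
    omega
  apply norm_eq_zero_of_order hx hx1
  · rw [hF]
    rw [Nat.coprime_comm, Nat.Prime.coprime_iff_not_dvd Nat.prime_five]
    intro hd
    have h2 : (p : ZMod 5) = 0 := (ZMod.natCast_eq_zero_iff _ _).2 hd
    rw [h2] at hord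
    have h3 : (0 : ZMod 5) ^ orderOf (0 : ZMod 5) = 1 := pow_orderOf_eq_one _
    rw [hord, zero_pow (by norm_num)] at h3
    exact zero_ne_one h3
  · rw [hn, hF]
    exact h1

/-- If `G` has an element `y ∈ N` of order `r` and commuting elements of order `r` of `G` are powers of each other,
then each element of order `r` of `G` is conjugate into `N`. -/
theorem conj_into [Nonempty ι] [Finite F] {G N : Subgroup (GL ι F)} {r : ℕ} [Fact r.Prime] (hrF : (r : F) ≠ 0)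
    (hN : ∀ x ∈ G, x ^ r = 1 → x ≠ 1 → ∑ k ∈ Finset.range r, (x : Matrix ι ι F) ^ k = 0)
    {y : GL ι F} (hyG : y ∈ G) (hyN : y ∈ N) (hy : y ^ r = 1) (hy1 : y ≠ 1) {x : GL ι F} (hx : x ∈ G)
    (hxr : x ^ r = 1) : ∃ g ∈ G, g⁻¹ * x * g ∈ N := by
  have hfin : Finite (GL ι F) := inferInstance
  obtain ⟨g, k, hg⟩ := conj_of_prime_order (G := G) (r := r)
    (fun a b ha ha1 hb hab => power_of_norms hrF hN a b ha ha1 hb hab)
    (x := ⟨x, hx⟩) (y := ⟨y, hyG⟩) (Subtype.ext hxr) (Subtype.ext hy)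
    (fun h => hy1 (congrArg Subtype.val h))
  have h1 := congrArg Subtype.val hg
  refine ⟨(g : GL ι F)⁻¹, G.inv_mem g.2, ?_⟩
  rw [inv_inv]
  have h2 : (g : GL ι F) * x * (g : GL ι F)⁻¹ = y ^ k := h1
  rw [h2]
  exact N.pow_mem hyN k

theorem scalars_le_normalizer (R : Subgroup (GL ι F)) : scalars ι F ≤ subgroupNormalizer R := by
  intro z hz
  rw [subgroupNormalizer, Subgroup.mem_normalizer_iff]
  intro h
  rw [comm_of_scalar hz, mul_inv_cancel_right]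

theorem le_normalizer (R : Subgroup (GL ι F)) : R ≤ subgroupNormalizer R := Subgroup.le_normalizer

end Cfsg.Agent.H960
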