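import Cfsg.Agent.H960.Fwd

/-!
Elements `x` with `x ^ 5` scalar are conjugate into `N(R)` when elements of order five have no fixed vectors;
roots of unity (H960).
-/

set_option autoImplicit false
set_option linter.unusedSimpArgs false
open Cfsg Cfsg.Geo Matrix
open scoped MatrixGroups

namespace Cfsg.Agent.H960

variable {F : Type*} [Field F]

/-- elements of order five modulo scalars -/
theorem five_case [Finite F] {G0 : Subgroup (GL (Fin 4) F)} {U : F → Prop}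
    {R : Subgroup (GL (Fin 4) F)} (h2 : (2 : F) ≠ 0) (h5 : (5 : F) ≠ 0) (E : Ext R) (hA : Amb G0 U) (S : Adm G0)
    (hR : R ≤ G0) {u v s t : GL (Fin 4) F} (P : Pauli R u v s t)
    (hnorm : ∀ x ∈ G0 ⊓ specialLinear (Fin 4) F, x ^ 5 = 1 → x ≠ 1 →
      ∑ k ∈ Finset.range 5, (x : Matrix (Fin 4) (Fin 4) F) ^ k = 0) :
    Lhs (G0 ⊓ specialLinear (Fin 4) F) R 5 := by
  have hfact : Fact (Nat.Prime 5) := ⟨Nat.prime_five⟩
  have hfin := E.fin
  obtain ⟨w, hw⟩ : ∃ w, w = w5 h2 P := ⟨_, rfl⟩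
  have hwG : w ∈ G0 := by rw [hw]; exact S _ (fun st S => w5_mem S hR h2 P)
  have hwN : w ∈ subgroupNormalizer R := by rw [hw]; exact w5_mem_normalizer h2 P
  have hwns : w ∉ scalars (Fin 4) F := by rw [hw]; exact w5_not_scalar h2 P
  have hws : w ^ 5 ∈ scalars (Fin 4) F := by rw [hw]; exact w5_pow_scalar E.c1 h2 P
  have hdetsc : ∀ (z : GL (Fin 4) F) (a : F), (z : Matrix (Fin 4) (Fin 4) F) = a • (1 : Matrix (Fin 4) (Fin 4) F) →
      (z : Matrix (Fin 4) (Fin 4) F).det = a ^ 4 := by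
    intro z a h
    rw [h, Matrix.det_smul, Matrix.det_one, Fintype.card_fin, mul_one]
  have hdetpow : ∀ (z : GL (Fin 4) F) (k : ℕ), ((z ^ k : GL (Fin 4) F) : Matrix (Fin 4) (Fin 4) F).det =
      (z : Matrix (Fin 4) (Fin 4) F).det ^ k := by
    intro z k
    rw [Units.val_pow_eq_pow_val, Matrix.det_pow]
  have hdetinv : ∀ z : GL (Fin 4) F, ((z⁻¹ : GL (Fin 4) F) : Matrix (Fin 4) (Fin 4) F).det *
      (z : Matrix (Fin 4) (Fin 4) F).det = 1 := by
    intro z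
    rw [← Matrix.det_mul, ← Units.val_mul, inv_mul_cancel, Units.val_one, Matrix.det_one]
  -- normalise `w`
  obtain ⟨w', hw'G, hw'N, hw'5, hw'1⟩ : ∃ w' ∈ G0 ⊓ specialLinear (Fin 4) F, w' ∈ subgroupNormalizer R ∧ w' ^ 5 = 1 ∧
      w' ≠ 1 := by
    obtain ⟨δ, hδ⟩ : ∃ δ, δ = (w : Matrix (Fin 4) (Fin 4) F).det := ⟨_, rfl⟩
    have hδ0 : δ ≠ 0 := by rw [hδ]; exact det_ne w
    have hUδ := hA.det w hwG
    rw [← hδ] at hUδ
    obtain ⟨d, hd, hdm⟩ := hA.diag (fun _ => δ) (fun _ => hUδ)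
    have hdm' : (d : Matrix (Fin 4) (Fin 4) F) = δ • (1 : Matrix (Fin 4) (Fin 4) F) := by
      rw [hdm, Matrix.smul_one_eq_diagonal]
    have hds : d ∈ scalars (Fin 4) F := (mem_scalars_iff' _).2 ⟨δ, hdm'⟩
    obtain ⟨lam, hlam⟩ := (mem_scalars_iff' _).1 hws
    have hlam4 : lam ^ 4 = δ ^ 5 := by
      rw [← hdetsc _ _ hlam, hdetpow, hδ]
    have hlam0 : lam ≠ 0 := by
      rintro rfl
      rw [zero_pow (by norm_num)] at hlam4
      exact pow_ne_zero 5 hδ0 hlam4.symm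
    have hwinvs : (w ^ 5)⁻¹ ∈ scalars (Fin 4) F := (scalars (Fin 4) F).inv_mem hws
    have hscal : d * (w ^ 5)⁻¹ ∈ scalars (Fin 4) F := (scalars (Fin 4) F).mul_mem hds hwinvs
    refine ⟨d * (w ^ 5)⁻¹ * w, ⟨G0.mul_mem (G0.mul_mem hd (G0.inv_mem (G0.pow_mem hwG 5))) hwG, ?_⟩,
      (subgroupNormalizer R).mul_mem (scalars_le_normalizer R hscal) hwN, ?_, ?_⟩
    · show d * (w ^ 5)⁻¹ * w ∈ specialLinear (Fin 4) F
      rw [mem_sl, Units.val_mul, Units.val_mul, Matrix.det_mul, Matrix.det_mul, hdetsc _ _ hdm', ← hδ]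
      have h1 := hdetinv (w ^ 5)
      rw [hdetpow, ← hδ] at h1
      linear_combination h1
    · have hc : Commute (d * (w ^ 5)⁻¹) w := comm_of_scalar hscal w
      have hc2 : Commute d (w ^ 5)⁻¹ := comm_of_scalar hds _
      rw [hc.mul_pow, hc2.mul_pow]
      have h1 : d ^ 5 = (w ^ 5) ^ 4 := by
        apply m_ext
        rw [Units.val_pow_eq_pow_val, Units.val_pow_eq_pow_val (w ^ 5), hdm', hlam, smul_pow, smul_pow, hlam4]
        simp only [one_pow]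
      rw [h1]
      group
    · intro h
      apply hwns
      have h1 : w = (d * (w ^ 5)⁻¹)⁻¹ := (inv_eq_of_mul_eq_one_right h).symm
      rw [h1]
      exact (scalars (Fin 4) F).inv_mem hscal
  intro x hx hxr hxs
  have hxdet : (x : Matrix (Fin 4) (Fin 4) F).det = 1 := (mem_sl x).1 hx.2
  obtain ⟨lam, hlam⟩ := (mem_scalars_iff' _).1 hxr
  have hlam4 : lam ^ 4 = 1 := by
    rw [← hdetsc _ _ hlam, hdetpow, hxdet, one_pow]
  obtain ⟨z, hz⟩ : ∃ z, z = x ^ 5 := ⟨_, rfl⟩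
  rw [← hz] at hxr hlam
  have hz4 : z ^ 4 = 1 := by
    apply m_ext
    rw [Units.val_pow_eq_pow_val, hlam, smul_pow, hlam4, one_smul, one_pow, Units.val_one]
  have hzdet : (z : Matrix (Fin 4) (Fin 4) F).det = 1 := by rw [hdetsc _ _ hlam, hlam4]
  have hzi : z⁻¹ ∈ scalars (Fin 4) F := (scalars (Fin 4) F).inv_mem hxr
  have hzG : z ∈ G0 := by rw [hz]; exact G0.pow_mem hx.1 5
  have hx'G : z⁻¹ * x ∈ G0 ⊓ specialLinear (Fin 4) F := by
    refine ⟨G0.mul_mem (G0.inv_mem hzG) hx.1, ?_⟩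
    show z⁻¹ * x ∈ specialLinear (Fin 4) F
    have h1 := hdetinv z
    rw [hzdet, mul_one] at h1
    rw [mem_sl, Units.val_mul, Matrix.det_mul, h1, hxdet, one_mul]
  have hx'5 : (z⁻¹ * x) ^ 5 = 1 := by
    have hc : Commute z⁻¹ x := comm_of_scalar hzi x
    rw [hc.mul_pow, ← hz]
    have h1 : z⁻¹ ^ 5 * z = (z ^ 4)⁻¹ := by group
    rw [h1, hz4, inv_one]
  obtain ⟨g, hg, hgN⟩ := conj_into (G := G0 ⊓ specialLinear (Fin 4) F) (N := subgroupNormalizer R) (r := 5)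
    (by exact_mod_cast h5) hnorm (y := w') hw'G hw'N hw'5 hw'1 (x := z⁻¹ * x) hx'G hx'5
  refine ⟨g, hg, ?_⟩
  have h1 : g⁻¹ * x * g = z * (g⁻¹ * (z⁻¹ * x) * g) := by
    have h3 : z * g⁻¹ = g⁻¹ * z := comm_of_scalar hxr _
    calc g⁻¹ * x * g = g⁻¹ * z * (z⁻¹ * x) * g := by group
      _ = z * g⁻¹ * (z⁻¹ * x) * g := by rw [h3]
      _ = _ := by group
  rw [h1]
  exact (subgroupNormalizer R).mul_mem (scalars_le_normalizer R hxr) hgN

/-! ### Roots of unity -/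

theorem exists_omega [Fintype F] (h : 3 ∣ Fintype.card F - 1) : ∃ ω : F, ω * ω + ω + 1 = 0 := by
  classical
  have hfact : Fact (Nat.Prime 3) := ⟨Nat.prime_three⟩
  have h1 : 3 ∣ Nat.card Fˣ := by rwa [Nat.card_eq_fintype_card, Fintype.card_units]
  obtain ⟨w, hw⟩ := exists_prime_orderOf_dvd_card' (G := Fˣ) 3 h1
  have hw3 : (w : F) ^ 3 = 1 := by
    rw [← Units.val_pow_eq_pow_val, orderOf_dvd_iff_pow_eq_one.1 (by rw [hw]), Units.val_one]
  have hw1 : (w : F) ≠ 1 := by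
    intro h
    have h2 : w = 1 := Units.ext h
    rw [h2, orderOf_one] at hw
    norm_num at hw
  refine ⟨w, ?_⟩
  have h2 : ((w : F) - 1) * ((w : F) * w + w + 1) = 0 := by linear_combination hw3
  exact (mul_eq_zero.1 h2).resolve_left (sub_ne_zero.2 hw1)

theorem no_omega [Fintype F] (h3 : (3 : F) ≠ 0) (h : Fintype.card F % 3 = 2) (t : F) : t * t + 1 * t + 1 ≠ 0 := by
  intro ht
  have ht3 : t ^ 3 = 1 := by linear_combination (t - 1) * ht
  have ht1 : t ≠ 1 := by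
    rintro rfl
    apply h3
    linear_combination ht
  have ht0 : t ≠ 0 := by
    rintro rfl
    rw [zero_pow (by norm_num)] at ht3
    exact zero_ne_one ht3
  have hpow : t ^ (Fintype.card F - 1) = 1 := FiniteField.pow_card_sub_one_eq_one t ht0
  have hco : Nat.Coprime 3 (Fintype.card F - 1) := by
    rw [Nat.Prime.coprime_iff_not_dvd Nat.prime_three]
    omega
  apply ht1
  have h5 : orderOf t ∣ Nat.gcd 3 (Fintype.card F - 1) :=
    Nat.dvd_gcd (orderOf_dvd_of_pow_eq_one ht3) (orderOf_dvd_of_pow_eq_one hpow)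
  rw [hco] at h5
  exact orderOf_eq_one_iff.1 (Nat.dvd_one.1 h5)

end Cfsg.Agent.H960
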