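import Cfsg.Agent.H960.Cases

/-!
Traces of elements of order five in `SL₂` (H960).
-/

set_option autoImplicit false
open Cfsg Cfsg.Geo Matrix
open scoped MatrixGroups

namespace Cfsg.Agent.H960

variable {F : Type*} [Field F]

theorem ch2 (C : Matrix (Fin 2) (Fin 2) F) : C * C = C.trace • C - C.det • (1 : Matrix (Fin 2) (Fin 2) F) := by
  ext i j
  fin_cases i <;> fin_cases j <;>
    simp [Matrix.mul_apply, Fin.sum_univ_two, Matrix.trace, Matrix.det_fin_two] <;> ring

theorem trace5 {C : Matrix (Fin 2) (Fin 2) F} (hdet : C.det = 1) (h5 : C ^ 5 = 1) (hC : C ≠ 1) :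
    C.trace ^ 2 + C.trace - 1 = 0 := by
  set c := C.trace with hc
  have h2 : C * C = c • C - 1 := by rw [ch2, hdet, one_smul]
  have h3 : C ^ 3 = (c ^ 2 - 1) • C - c • (1 : Matrix (Fin 2) (Fin 2) F) := by
    rw [pow_succ, pow_two, h2, sub_mul, smul_mul_assoc, h2, one_mul, smul_sub, smul_smul]
    module
  have h5' : C ^ 5 = (c ^ 4 - 3 * c ^ 2 + 1) • C - (c ^ 3 - 2 * c) • (1 : Matrix (Fin 2) (Fin 2) F) := by
    have : C ^ 5 = C ^ 3 * (C * C) := by rw [← pow_two, ← pow_add]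
    rw [this, h3, h2, sub_mul, smul_mul_assoc, smul_mul_assoc, one_mul, mul_sub, mul_one, mul_smul_comm, h2]
    module
  rw [h5] at h5'
  have hα : (c ^ 4 - 3 * c ^ 2 + 1) • C = (c ^ 3 - 2 * c + 1) • (1 : Matrix (Fin 2) (Fin 2) F) := by
    have : (c ^ 4 - 3 * c ^ 2 + 1) • C = 1 + (c ^ 3 - 2 * c) • (1 : Matrix (Fin 2) (Fin 2) F) :=
      (eq_sub_iff_add_eq.1 h5').symm
    rw [this, add_smul, one_smul, add_comm]
  by_cases ha : c ^ 4 - 3 * c ^ 2 + 1 = 0
  · rw [ha, zero_smul] at hα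
    have hb : c ^ 3 - 2 * c + 1 = 0 := by
      have := congrFun (congrFun hα 0) 0
      simpa using this.symm
    by_contra hne
    have h6 : c - 1 = 0 := by
      have : (c - 1) * (c ^ 2 + c - 1) = 0 := by linear_combination hb
      exact (mul_eq_zero.1 this).resolve_right hne
    have h7 : c = 1 := sub_eq_zero.1 h6
    rw [h7] at ha
    norm_num at ha
  · exfalso
    have hCs : C = ((c ^ 4 - 3 * c ^ 2 + 1)⁻¹ * (c ^ 3 - 2 * c + 1)) • (1 : Matrix (Fin 2) (Fin 2) F) := by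
      rw [mul_smul, ← hα, smul_smul, inv_mul_cancel₀ ha, one_smul]
    set b := (c ^ 4 - 3 * c ^ 2 + 1)⁻¹ * (c ^ 3 - 2 * c + 1) with hb
    have h6 : b ^ 2 = 1 := by
      rw [hCs, Matrix.det_smul, Matrix.det_one] at hdet
      simpa using hdet
    have h7 : b ^ 5 = 1 := by
      rw [hCs, smul_pow, one_pow] at h5
      have := congrFun (congrFun h5 0) 0
      simpa using this
    apply hC
    have h8 : b = 1 := by
      have : b ^ 5 = b * (b ^ 2) ^ 2 := by ring
      rw [this, h6] at h7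
      simpa using h7
    rw [hCs, h8, one_smul]

theorem trace5_ne {c : F} (h5 : (5 : F) ≠ 0) (hc : c ^ 2 + c - 1 = 0) : (c + 2) * (c + 2) ≠ 1 := by
  intro h
  apply h5
  linear_combination (3 * c - 1) * (h - hc) - 9 * hc

end Cfsg.Agent.H960
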