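import Cfsg.Agent.H960.ThreeGL
import Cfsg.Agent.H960.Trace5

/-!
Consequences of `Lhs (G0 ⊓ SL_4) R r` (H960).
-/

set_option autoImplicit false
set_option linter.unusedSimpArgs false
open Cfsg Cfsg.Geo Matrix
open scoped MatrixGroups

namespace Cfsg.Agent.H960

variable {F : Type*} [Field F]

theorem exists_j {R : Subgroup (GL (Fin 4) F)} (E : Ext R)
    (hZ : Nat.card (R ⊓ scalars (Fin 4) F : Subgroup (GL (Fin 4) F)) = 4) :
    ∃ j ∈ R, j ∈ scalars (Fin 4) F ∧ j * j = -1 := by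
  have hfin := E.fin
  have hfin' : Finite (R ⊓ scalars (Fin 4) F : Subgroup (GL (Fin 4) F)) :=
    Nat.finite_of_card_ne_zero (by rw [hZ]; norm_num)
  by_contra hcon
  push Not at hcon
  have h1 : ((R ⊓ scalars (Fin 4) F : Subgroup (GL (Fin 4) F)) : Set (GL (Fin 4) F)) ⊆ {1, -1} := by
    intro z hz
    obtain ⟨hzR, hzs⟩ := hz
    have h2 : z * z = 1 := (E.sq z hzR).resolve_right (hcon z hzR hzs)
    obtain ⟨c, hc⟩ := (mem_scalars_iff' _).1 hzs
    have h3 : c * c = 1 := by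
      have h4 := congrArg (fun g : GL (Fin 4) F => (g : Matrix (Fin 4) (Fin 4) F) 0 0) h2
      simp only [Units.val_mul, hc, Units.val_one, Matrix.smul_mul, Matrix.one_mul,
        Matrix.smul_apply, Matrix.one_apply_eq, smul_eq_mul, mul_one] at h4
      exact h4
    rcases mul_self_eq_one_iff.1 h3 with h | h
    · left
      exact m_ext (by rw [hc, h, one_smul, Units.val_one])
    · right
      exact m_ext (by rw [hc, h, neg_smul, one_smul, Units.val_neg, Units.val_one])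
  have h2 : Nat.card (R ⊓ scalars (Fin 4) F : Subgroup (GL (Fin 4) F)) ≤ 2 := by
    have h3 := Set.ncard_le_ncard h1 (Set.toFinite _)
    have h4 : ({1, -1} : Set (GL (Fin 4) F)).ncard ≤ 2 := (Set.ncard_insert_le _ _).trans (by rw [Set.ncard_singleton])
    rw [← Nat.card_coe_set_eq] at h3
    exact h3.trans h4
  omega

theorem nonscalar_of_sl {r : ℕ} (hr : r.Prime) (hr2 : r ≠ 2) {x : GL (Fin 4) F} (hx : x ∈ specialLinear (Fin 4) F)
    (hxr : x ^ r = 1) (hx1 : x ≠ 1) : x ∉ scalars (Fin 4) F := by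
  intro hs
  obtain ⟨c, hc⟩ := (mem_scalars_iff' _).1 hs
  have h1 := (mem_sl x).1 hx
  rw [hc, Matrix.det_smul, Matrix.det_one, Fintype.card_fin, mul_one] at h1
  have h4 : x ^ 4 = 1 := by
    apply m_ext
    rw [Units.val_pow_eq_pow_val, hc, smul_pow, h1, one_smul, one_pow, Units.val_one]
  exact hx1 (pow_eq_one_of_coprime h4 hxr (coprime_four hr hr2))

section

variable {G0 R : Subgroup (GL (Fin 4) F)} {r : ℕ} [Fact r.Prime]

theorem Lhs.use (L : Lhs (G0 ⊓ specialLinear (Fin 4) F) R r) (hr2 : r ≠ 2) {x : GL (Fin 4) F}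
    (hx : x ∈ G0 ⊓ specialLinear (Fin 4) F) (hxr : x ^ r = 1) (hx1 : x ≠ 1) :
    ∃ g : GL (Fin 4) F, g⁻¹ * x * g ∈ subgroupNormalizer R ∧ (g⁻¹ * x * g) ^ r = 1 ∧
      g⁻¹ * x * g ∉ scalars (Fin 4) F := by
  have hr : r.Prime := Fact.out
  have hxs := nonscalar_of_sl hr hr2 hx.2 hxr hx1
  obtain ⟨g, hg, hgN⟩ := L x hx (by rw [hxr]; exact (scalars (Fin 4) F).one_mem) hxs
  refine ⟨g, hgN, ?_, ?_⟩
  · have := conj_pow (i := r) (a := g⁻¹) (b := x)
    rw [inv_inv] at this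
    rw [this, hxr]; simp
  · intro h
    apply hxs
    have h1 : x = g * (g⁻¹ * x * g) * g⁻¹ := by group
    rw [h1, ← comm_of_scalar h, mul_inv_cancel_right]
    exact h

theorem Lhs.traces (E : Ext R) (hZ : Nat.card (R ⊓ scalars (Fin 4) F : Subgroup (GL (Fin 4) F)) = 4)
    (L : Lhs (G0 ⊓ specialLinear (Fin 4) F) R r) (hr2 : r ≠ 2) {x : GL (Fin 4) F}
    (hx : x ∈ G0 ⊓ specialLinear (Fin 4) F) (hxr : x ^ r = 1) (hx1 : x ≠ 1) :
    (r = 5 ∧ Matrix.trace (x : Matrix (Fin 4) (Fin 4) F) * Matrix.trace ((x⁻¹ : GL (Fin 4) F) : Matrix (Fin 4) (Fin 4) F) = 1) ∨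
    (r = 3 ∧ (Matrix.trace (x : Matrix (Fin 4) (Fin 4) F) * Matrix.trace ((x⁻¹ : GL (Fin 4) F) : Matrix (Fin 4) (Fin 4) F) = 1 ∨
      Matrix.trace (x : Matrix (Fin 4) (Fin 4) F) * Matrix.trace ((x⁻¹ : GL (Fin 4) F) : Matrix (Fin 4) (Fin 4) F) = 4)) := by
  obtain ⟨g, hgN, hgr, hgs⟩ := L.use hr2 hx hxr hx1
  have hcases := trace_cases E (by simp) (by rw [hZ]) hr2 hgN
    (by rw [hgr]; exact (scalars (Fin 4) F).one_mem) hgs
  have e1 : (g⁻¹ * x * g)⁻¹ = g⁻¹ * x⁻¹ * g := by group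
  rw [e1, conj_trace, conj_trace] at hcases
  rcases hcases with ⟨h, -, h'⟩ | ⟨h, ⟨-, h'⟩ | ⟨-, h'⟩⟩
  · exact Or.inl ⟨h, h'⟩
  · exact Or.inr ⟨h, Or.inl h'⟩
  · exact Or.inr ⟨h, Or.inr h'⟩

theorem Lhs.transv (E : Ext R) (L : Lhs (G0 ⊓ specialLinear (Fin 4) F) R r) (hr2 : r ≠ 2) {x : GL (Fin 4) F}
    (hx : x ∈ G0 ⊓ specialLinear (Fin 4) F) (hxr : x ^ r = 1) (hx1 : x ≠ 1) {a b : Fin 4 → F}
    (hxm : (x : Matrix (Fin 4) (Fin 4) F) = 1 + Matrix.vecMulVec a b)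
    (hNN : Matrix.vecMulVec a b * Matrix.vecMulVec a b = 0) : False := by
  obtain ⟨g, hgN, hgr, hgs⟩ := L.use hr2 hx hxr hx1
  have hconj : ((g⁻¹ : GL (Fin 4) F) : Matrix (Fin 4) (Fin 4) F) * Matrix.vecMulVec a b * (g : Matrix (Fin 4) (Fin 4) F) =
      Matrix.vecMulVec (((g⁻¹ : GL (Fin 4) F) : Matrix (Fin 4) (Fin 4) F) *ᵥ a) (b ᵥ* (g : Matrix (Fin 4) (Fin 4) F)) := by
    rw [Matrix.mul_vecMulVec, Matrix.vecMulVec_mul]
  have hgg : (g : Matrix (Fin 4) (Fin 4) F) * ((g⁻¹ : GL (Fin 4) F) : Matrix (Fin 4) (Fin 4) F) = 1 := by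
    rw [← Units.val_mul, mul_inv_cancel, Units.val_one]
  have hgg' : ((g⁻¹ : GL (Fin 4) F) : Matrix (Fin 4) (Fin 4) F) * (g : Matrix (Fin 4) (Fin 4) F) = 1 := by
    rw [← Units.val_mul, inv_mul_cancel, Units.val_one]
  have hm : ((g⁻¹ * x * g : GL (Fin 4) F) : Matrix (Fin 4) (Fin 4) F) = 1 +
      Matrix.vecMulVec (((g⁻¹ : GL (Fin 4) F) : Matrix (Fin 4) (Fin 4) F) *ᵥ a) (b ᵥ* (g : Matrix (Fin 4) (Fin 4) F)) := by
    rw [Units.val_mul, Units.val_mul, hxm, ← hconj, Matrix.mul_add, Matrix.add_mul, Matrix.mul_one, hgg']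
  have h0 := no_transvection E (by simp) hgN hm (by
    rw [← hconj]
    calc ((g⁻¹ : GL (Fin 4) F) : Matrix (Fin 4) (Fin 4) F) * Matrix.vecMulVec a b * (g : Matrix (Fin 4) (Fin 4) F) *
          (((g⁻¹ : GL (Fin 4) F) : Matrix (Fin 4) (Fin 4) F) * Matrix.vecMulVec a b * (g : Matrix (Fin 4) (Fin 4) F)) =
          ((g⁻¹ : GL (Fin 4) F) : Matrix (Fin 4) (Fin 4) F) * (Matrix.vecMulVec a b *
          ((g : Matrix (Fin 4) (Fin 4) F) * ((g⁻¹ : GL (Fin 4) F) : Matrix (Fin 4) (Fin 4) F)) * Matrix.vecMulVec a b) *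
          (g : Matrix (Fin 4) (Fin 4) F) := by simp only [Matrix.mul_assoc]
      _ = 0 := by rw [hgg, Matrix.mul_one, hNN, Matrix.mul_zero, Matrix.zero_mul])
  apply hgs
  have h1 : g⁻¹ * x * g = 1 := by
    apply m_ext
    rw [hm, h0, add_zero, Units.val_one]
  rw [h1]
  exact (scalars (Fin 4) F).one_mem

/-- the prime is `3` or `5` when it divides the order -/
theorem Lhs.three_or_five (E : Ext R) (hZ : Nat.card (R ⊓ scalars (Fin 4) F : Subgroup (GL (Fin 4) F)) = 4)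
    [Finite F] (L : Lhs (G0 ⊓ specialLinear (Fin 4) F) R r) (hr2 : r ≠ 2)
    (hΩ : r ∣ (subgroupNormalizer R).relIndex (G0 ⊓ specialLinear (Fin 4) F)) : r = 5 ∨ r = 3 := by
  have hr : r.Prime := Fact.out
  have hfinG : Finite (GL (Fin 4) F) := inferInstance
  have hrG : r ∣ Nat.card (G0 ⊓ specialLinear (Fin 4) F : Subgroup (GL (Fin 4) F)) :=
    hΩ.trans (Subgroup.relIndex_dvd_card _ _)
  obtain ⟨x0, hx0⟩ := exists_prime_orderOf_dvd_card' (G := (G0 ⊓ specialLinear (Fin 4) F : Subgroup (GL (Fin 4) F))) r hrG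
  have hx0r : (x0 : GL (Fin 4) F) ^ r = 1 := by
    have : x0 ^ r = 1 := orderOf_dvd_iff_pow_eq_one.1 (by rw [hx0])
    exact congrArg Subtype.val this
  have hx01 : (x0 : GL (Fin 4) F) ≠ 1 := by
    intro h
    have h1 : x0 = 1 := Subtype.ext h
    rw [h1, orderOf_one] at hx0
    exact hr.one_lt.ne hx0
  rcases L.traces E hZ hr2 x0.2 hx0r hx01 with h | h
  · exact Or.inl h.1
  · exact Or.inr h.1

end

/-! ### Two explicit elements -/

open Cfsg.Agent.LieClassical Cfsg.Agent.GH.Cov.LieU4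

theorem trace_ext1 {n : ℕ} (c : F) (A : Matrix (Fin n) (Fin n) F) : (GUOrder.ext1 c A).trace = c + A.trace := by
  rw [Matrix.trace, Fin.sum_univ_succ]
  simp [GUOrder.ext1, Matrix.trace]

/-- the embedding of `2 × 2` matrices -/
def emb4 (C : Matrix (Fin 2) (Fin 2) F) : Matrix (Fin 4) (Fin 4) F := GUOrder.ext1 (1 : F) (GUOrder.ext1 (1 : F) C)

theorem emb4_mul (C D : Matrix (Fin 2) (Fin 2) F) : emb4 C * emb4 D = emb4 (C * D) := by
  rw [emb4, emb4, emb4, ext1_mul, ext1_mul, one_mul]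

theorem emb4_one : emb4 (1 : Matrix (Fin 2) (Fin 2) F) = 1 := by
  rw [emb4, ext1_one, ext1_one]

theorem emb4_inj {C D : Matrix (Fin 2) (Fin 2) F} (h : emb4 C = emb4 D) : C = D := ext1_inj (ext1_inj h)

theorem emb4_det (C : Matrix (Fin 2) (Fin 2) F) : (emb4 C).det = C.det := by
  rw [emb4, GUOrder.det_ext1, GUOrder.det_ext1, one_mul, one_mul]

theorem emb4_trace (C : Matrix (Fin 2) (Fin 2) F) : (emb4 C).trace = C.trace + 2 := by
  rw [emb4, trace_ext1, trace_ext1]; ring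

/-- as a homomorphism -/
def emb4Hom : Matrix.SpecialLinearGroup (Fin 2) F →* GL (Fin 4) F where
  toFun C := ⟨emb4 C, emb4 (C⁻¹ : Matrix.SpecialLinearGroup (Fin 2) F), by
      rw [emb4_mul, ← Matrix.SpecialLinearGroup.coe_mul, mul_inv_cancel, Matrix.SpecialLinearGroup.coe_one, emb4_one],
    by rw [emb4_mul, ← Matrix.SpecialLinearGroup.coe_mul, inv_mul_cancel, Matrix.SpecialLinearGroup.coe_one, emb4_one]⟩
  map_one' := Units.ext (by
    change emb4 _ = 1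
    rw [Matrix.SpecialLinearGroup.coe_one, emb4_one])
  map_mul' C D := Units.ext (by
    change emb4 _ = emb4 _ * emb4 _
    rw [Matrix.SpecialLinearGroup.coe_mul, emb4_mul])

theorem emb4Hom_coe (C : Matrix.SpecialLinearGroup (Fin 2) F) :
    ((emb4Hom C : GL (Fin 4) F) : Matrix (Fin 4) (Fin 4) F) = emb4 C := rfl

theorem emb4Hom_mem (C : Matrix.SpecialLinearGroup (Fin 2) F) : emb4Hom C ∈ specialLinear (Fin 4) F := by
  rw [mem_sl, emb4Hom_coe, emb4_det, C.2]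

/-- an element of order five in `SL₂` gives an element without conjugates in `N(R)` -/
theorem Lhs.no_five {G0 R : Subgroup (GL (Fin 4) F)} (E : Ext R)
    (hZ : Nat.card (R ⊓ scalars (Fin 4) F : Subgroup (GL (Fin 4) F)) = 4) [Fact (Nat.Prime 5)]
    (L : Lhs (G0 ⊓ specialLinear (Fin 4) F) R 5) (h5F : (5 : F) ≠ 0)
    (C : Matrix.SpecialLinearGroup (Fin 2) F) (hCG : emb4Hom C ∈ G0) (hC5 : C ^ 5 = 1) (hC1 : C ≠ 1) : False := by
  have hCm : (C : Matrix (Fin 2) (Fin 2) F) ≠ 1 := fun h => hC1 (Subtype.ext h)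
  have hC5m : (C : Matrix (Fin 2) (Fin 2) F) ^ 5 = 1 := by
    rw [← Matrix.SpecialLinearGroup.coe_pow, hC5, Matrix.SpecialLinearGroup.coe_one]
  have htr := trace5 C.2 hC5m hCm
  have hx5 : (emb4Hom C) ^ 5 = 1 := by rw [← map_pow, hC5, map_one]
  have hx1 : emb4Hom C ≠ 1 := by
    intro h
    have h1 := congrArg (fun g : GL (Fin 4) F => (g : Matrix (Fin 4) (Fin 4) F)) h
    change emb4 (C : Matrix (Fin 2) (Fin 2) F) = 1 at h1
    rw [← emb4_one] at h1
    exact hCm (emb4_inj h1)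
  have hcases := L.traces E hZ (by norm_num) ⟨hCG, emb4Hom_mem C⟩ hx5 hx1
  rcases hcases with ⟨-, h⟩ | ⟨h, -⟩
  · rw [← map_inv, emb4Hom_coe, emb4Hom_coe, emb4_trace, emb4_trace] at h
    have e2 : ((C⁻¹ : Matrix.SpecialLinearGroup (Fin 2) F) : Matrix (Fin 2) (Fin 2) F).trace =
        (C : Matrix (Fin 2) (Fin 2) F).trace := by
      rw [Matrix.SpecialLinearGroup.coe_inv, Matrix.adjugate_fin_two]
      simp [Matrix.trace, Fin.sum_univ_two, add_comm]
    rw [e2] at h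
    exact trace5_ne h5F htr h
  · norm_num at h

/-- a cube root of unity gives an element without conjugates in `N(R)` -/
theorem Lhs.no_three {G0 R : Subgroup (GL (Fin 4) F)} {U : F → Prop} (hA : Amb G0 U) (E : Ext R)
    (hZ : Nat.card (R ⊓ scalars (Fin 4) F : Subgroup (GL (Fin 4) F)) = 4) [Fact (Nat.Prime 3)]
    (L : Lhs (G0 ⊓ specialLinear (Fin 4) F) R 3) (h2 : (2 : F) ≠ 0) (h3 : (3 : F) ≠ 0) {ω : F} (hω : ω * ω + ω + 1 = 0)
    (hU : U ω) : False := by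
  have hω3 : ω * ω * ω = 1 := by linear_combination (ω - 1) * hω
  have hω1 : ω ≠ 1 := by
    rintro rfl
    apply h3
    linear_combination hω
  have hω0 : ω ≠ 0 := by
    rintro rfl
    apply one_ne_zero (α := F)
    linear_combination hω
  obtain ⟨x, hx, hxm⟩ := hA.diag ![1, ω, ω, ω] (fun i => by fin_cases i; exacts [hA.one, hU, hU, hU])
  have hxdet : (x : Matrix (Fin 4) (Fin 4) F).det = 1 := by
    rw [hxm, Matrix.det_diagonal, Fin.prod_univ_four]
    simp only [Matrix.cons_val_zero, Matrix.cons_val_one, Matrix.cons_val_two, Matrix.cons_val_three, Matrix.head_cons,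
      Matrix.tail_cons, Matrix.cons_val]
    linear_combination hω3
  have hxx : (x : Matrix (Fin 4) (Fin 4) F) * Matrix.diagonal ![1, ω⁻¹, ω⁻¹, ω⁻¹] = 1 := by
    rw [hxm, Matrix.diagonal_mul_diagonal, ← Matrix.diagonal_one]
    congr 1
    ext i
    fin_cases i <;> simp [hω0]
  have hxinv : ((x⁻¹ : GL (Fin 4) F) : Matrix (Fin 4) (Fin 4) F) = Matrix.diagonal ![1, ω⁻¹, ω⁻¹, ω⁻¹] := by
    have h1 : ((x⁻¹ : GL (Fin 4) F) : Matrix (Fin 4) (Fin 4) F) * (x : Matrix (Fin 4) (Fin 4) F) = 1 := by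
      rw [← Units.val_mul, inv_mul_cancel, Units.val_one]
    calc ((x⁻¹ : GL (Fin 4) F) : Matrix (Fin 4) (Fin 4) F) = ((x⁻¹ : GL (Fin 4) F) : Matrix (Fin 4) (Fin 4) F) *
          ((x : Matrix (Fin 4) (Fin 4) F) * Matrix.diagonal ![1, ω⁻¹, ω⁻¹, ω⁻¹]) := by rw [hxx, Matrix.mul_one]
      _ = _ := by rw [← Matrix.mul_assoc, h1, Matrix.one_mul]
  have hx3 : x ^ 3 = 1 := by
    apply m_ext
    rw [Units.val_pow_eq_pow_val, hxm, Matrix.diagonal_pow, Units.val_one, ← Matrix.diagonal_one]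
    congr 1
    ext i
    fin_cases i
    · simp
    · simp only [Pi.pow_apply]
      change ω ^ 3 = 1
      linear_combination hω3
    · change ω ^ 3 = 1
      linear_combination hω3
    · change ω ^ 3 = 1
      linear_combination hω3
  have hx1 : x ≠ 1 := by
    intro h
    have h1 := congrArg (fun g : GL (Fin 4) F => (g : Matrix (Fin 4) (Fin 4) F) 1 1) h
    simp only [hxm, Matrix.diagonal_apply_eq, Units.val_one, Matrix.one_apply_eq] at h1
    exact hω1 h1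
  have hcases := L.traces E hZ (by norm_num) ⟨hx, (mem_sl x).2 hxdet⟩ hx3 hx1
  have hinv : ω⁻¹ = ω * ω := by
    rw [inv_eq_iff_eq_inv, eq_comm, inv_eq_of_mul_eq_one_right]
    exact hω3
  have htr : Matrix.trace (x : Matrix (Fin 4) (Fin 4) F) * Matrix.trace ((x⁻¹ : GL (Fin 4) F) : Matrix (Fin 4) (Fin 4) F) = 7 := by
    rw [hxinv, hxm, Matrix.trace_diagonal, Matrix.trace_diagonal, Fin.sum_univ_four, Fin.sum_univ_four]
    simp only [Matrix.cons_val_zero, Matrix.cons_val_one, Matrix.cons_val_two, Matrix.cons_val_three, Matrix.head_cons,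
      Matrix.tail_cons, Matrix.cons_val, hinv]
    linear_combination 9 * hω3 + 3 * hω
  rw [htr] at hcases
  rcases hcases with ⟨h, -⟩ | ⟨-, h | h⟩
  · norm_num at h
  · have h6 : (2 : F) * 3 = 0 := by linear_combination h
    exact (mul_ne_zero h2 h3) h6
  · apply h3
    linear_combination h

end Cfsg.Agent.H960
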