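import Cfsg.Agent.H960.ThreeGU
import Cfsg.Agent.S0277

/-!
Elements of `SU_n(q)`: a transvection, elements of order five, fixed vectors (H960).
-/

set_option autoImplicit false
set_option linter.unusedSimpArgs false
open Cfsg Cfsg.Geo Matrix
open scoped MatrixGroups

namespace Cfsg.Agent.H960

open Cfsg.Agent.LieClassical.HermBasic Cfsg.Agent.LieClassical Cfsg.Agent.GH.Cov.LieU4

variable {F : Type*} [Field F] [Fintype F] {q : ℕ}

theorem card_SU2 (hF : Fintype.card F = q ^ 2) : Nat.card (SU 2 F q) = q * (q ^ 2 - 1) := by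
  have h1 := GUOrder.card_GU_eq hF (n := 2) (by norm_num)
  rw [Cfsg.Agent.S0277.result hF 2] at h1
  rw [Finset.prod_range_succ, Finset.prod_range_one, if_pos (by decide), if_neg (by decide)] at h1
  have h2 : (q + 1) * (q * (q ^ 2 - 1)) = (q + 1) * Nat.card (SU 2 F q) := by
    rw [← h1]; ring_nf
  exact (Nat.eq_of_mul_eq_mul_left (Nat.succ_pos q) h2).symm

omit [Fintype F] in
theorem emb4_mem {C : Matrix.SpecialLinearGroup (Fin 2) F} (hC : C ∈ SU 2 F q) : emb4Hom C ∈ GU 4 F q := by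
  rw [mem_GU_iff]
  exact GUOrder.ext1_isom 1 (one_pow _) _ (GUOrder.ext1_isom 1 (one_pow _) _ ((mem_SU_iff C).1 hC))

/-- an isometry of order `r` with a fixed vector fixes a vector of norm one -/
theorem exists_fixed_unit (hF : Fintype.card F = q ^ 2) {n r : ℕ} (hrF : (r : F) ≠ 0)
    {M : Matrix (Fin n) (Fin n) F} (hM : Iso q M) (hMr : M ^ r = 1) (hN : ∑ k ∈ Finset.range r, M ^ k ≠ 0) :
    ∃ v : Fin n → F, M *ᵥ v = v ∧ hermForm n F q v v = 1 := by
  obtain ⟨N, hNdef⟩ : ∃ N, N = ∑ k ∈ Finset.range r, M ^ k := ⟨_, rfl⟩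
  rw [← hNdef] at hN
  have hMN : M * N = N := by rw [hNdef]; exact mul_norm_eq hMr
  obtain ⟨K, hK⟩ : ∃ K, K = LinearMap.ker (Matrix.toLin' (M - 1)) := ⟨_, rfl⟩
  have hmemK : ∀ v, v ∈ K ↔ M *ᵥ v = v := by
    intro v
    rw [hK, LinearMap.mem_ker, Matrix.toLin'_apply, Matrix.sub_mulVec, Matrix.one_mulVec, sub_eq_zero]
  have hNK : ∀ w, N *ᵥ w ∈ K := by
    intro w
    rw [hmemK, Matrix.mulVec_mulVec, hMN]
  have hpow : ∀ (k : ℕ) (v : Fin n → F), v ∈ K → M ^ k *ᵥ v = v := by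
    intro k v hv
    induction k with
    | zero => rw [pow_zero, Matrix.one_mulVec]
    | succ k ih => rw [pow_succ, ← Matrix.mulVec_mulVec, (hmemK v).1 hv, ih]
  have hnd : ∀ u ∈ K, (∀ v ∈ K, hermForm n F q u v = 0) → u = 0 := by
    intro u hu h
    apply herm_nondeg hF
    intro w
    have h1 : hermForm n F q u (N *ᵥ w) = (r : F) * hermForm n F q u w := by
      rw [hNdef, Matrix.sum_mulVec, herm_sum_right hF]
      have h2 : ∀ k ∈ Finset.range r, hermForm n F q u (M ^ k *ᵥ w) = hermForm n F q u w := by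
        intro k _
        have h3 := Iso_pow hM k u w
        rwa [hpow k u hu] at h3
      rw [Finset.sum_congr rfl h2, Finset.sum_const, Finset.card_range, nsmul_eq_mul]
    rw [h _ (hNK w)] at h1
    exact (mul_eq_zero.1 h1.symm).resolve_left hrF
  have hne : K ≠ ⊥ := by
    intro h
    apply hN
    apply Matrix.ext_of_mulVec_single
    intro j
    have h1 := hNK (Pi.single j 1)
    rw [h, Submodule.mem_bot] at h1
    rw [h1, Matrix.zero_mulVec]
  obtain ⟨v, hv, hv1⟩ := Cfsg.Agent.ClassicalGeometry.HermFrame.exists_norm_one hF hnd hne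
  exact ⟨v, (hmemK v).1 hv, hv1⟩

/-- an element of order `r ∤ |GU_n|` of `GU_{n+1}` has no fixed vectors -/
theorem norms_of_not_dvd (hF : Fintype.card F = q ^ 2) {n r : ℕ} [Fact r.Prime] (hrF : (r : F) ≠ 0)
    (hnd : ¬ r ∣ Nat.card (GU n F q)) {x : GL (Fin (n + 1)) F} (hx : x ∈ GU (n + 1) F q) (hxr : x ^ r = 1)
    (hx1 : x ≠ 1) : ∑ k ∈ Finset.range r, (x : Matrix (Fin (n + 1)) (Fin (n + 1)) F) ^ k = 0 := by
  have hfin : Finite (GL (Fin n) F) := inferInstance
  by_contra hN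
  have hMr : (x : Matrix (Fin (n + 1)) (Fin (n + 1)) F) ^ r = 1 := by
    rw [← Units.val_pow_eq_pow_val, hxr, Units.val_one]
  obtain ⟨v, hv, hv1⟩ := exists_fixed_unit hF hrF (iso_of_mem hx) hMr hN
  obtain ⟨G, hG, hGe⟩ := exists_iso_single hF hv1
  obtain ⟨G', hG', hGG, hGG'⟩ := hG.exists_inv hF
  obtain ⟨N, hNd⟩ : ∃ N, N = G' * (x : Matrix (Fin (n + 1)) (Fin (n + 1)) F) * G := ⟨_, rfl⟩
  have hNiso : Iso q N := by rw [hNd]; exact (hG'.mul (iso_of_mem hx)).mul hG
  have hNfix : N *ᵥ (Pi.single 0 1) = Pi.single 0 1 := by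
    rw [hNd, ← Matrix.mulVec_mulVec, ← Matrix.mulVec_mulVec, hGe, hv, ← hGe, Matrix.mulVec_mulVec, hGG',
      Matrix.one_mulVec]
  have hNpow : ∀ k : ℕ, N ^ k = G' * (x : Matrix (Fin (n + 1)) (Fin (n + 1)) F) ^ k * G := by
    intro k
    induction k with
    | zero => rw [pow_zero, pow_zero, Matrix.mul_one, hGG']
    | succ k ihk =>
      rw [pow_succ, ihk, pow_succ, hNd]
      calc G' * (x : Matrix (Fin (n + 1)) (Fin (n + 1)) F) ^ k * G * (G' * x * G) =
            G' * (x : Matrix (Fin (n + 1)) (Fin (n + 1)) F) ^ k * (G * G') * x * G := by simp only [Matrix.mul_assoc]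
        _ = _ := by rw [hGG, Matrix.mul_one]; simp only [Matrix.mul_assoc]
  have hNext := GUOrder.eq_ext1_of_fix hF N hNiso hNfix
  obtain ⟨A, hA⟩ : ∃ A, A = N.submatrix Fin.succ Fin.succ := ⟨_, rfl⟩
  rw [← hA] at hNext
  have hAiso : Iso q A := by
    apply GUOrder.submatrix_isom hF
    rw [← hNext]
    exact hNiso
  have hApow : ∀ k : ℕ, GUOrder.ext1 (1 : F) A ^ k = GUOrder.ext1 1 (A ^ k) := by
    intro k
    induction k with
    | zero => rw [pow_zero, pow_zero, ext1_one]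
    | succ k ihk => rw [pow_succ, ihk, ext1_mul, one_mul, pow_succ]
  have hAr : A ^ r = 1 := by
    have h3 : GUOrder.ext1 (1 : F) (A ^ r) = GUOrder.ext1 1 1 := by
      rw [← hApow, ← hNext, hNpow, hMr, Matrix.mul_one, hGG', ext1_one]
    exact ext1_inj h3
  obtain ⟨A', hA', hAA, hAA'⟩ := hAiso.exists_inv hF
  obtain ⟨a, ha⟩ : ∃ a : GL (Fin n) F, (a : Matrix (Fin n) (Fin n) F) = A := ⟨⟨A, A', hAA, hAA'⟩, rfl⟩
  have haG : a ∈ GU n F q := by
    rw [mem_GU_iff, ha]
    exact hAiso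
  have har : a ^ r = 1 := by
    apply m_ext
    rw [Units.val_pow_eq_pow_val, ha, hAr, Units.val_one]
  have ha1 : a = 1 := by
    by_contra hne
    apply hnd
    have h1 : orderOf (⟨a, haG⟩ : GU n F q) = r := by
      apply orderOf_eq_prime
      · exact Subtype.ext har
      · intro h
        exact hne (congrArg Subtype.val h)
    rw [← h1]
    exact orderOf_dvd_natCard _
  have hA1 : A = 1 := by rw [← ha, ha1, Units.val_one]
  apply hx1
  apply m_ext
  rw [hA1, ext1_one] at hNext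
  calc (x : Matrix (Fin (n + 1)) (Fin (n + 1)) F) = (G * G') * x * (G * G') := by
        rw [hGG, Matrix.one_mul, Matrix.mul_one]
    _ = G * N * G' := by rw [hNd]; simp only [Matrix.mul_assoc]
    _ = 1 := by rw [hNext, Matrix.mul_one, hGG]

/-- A unitary transvection. -/
theorem exists_transv (hF : Fintype.card F = q ^ 2) : ∃ (x : GL (Fin 4) F) (a b : Fin 4 → F),
    x ∈ GU 4 F q ⊓ specialLinear (Fin 4) F ∧ (x : Matrix (Fin 4) (Fin 4) F) = 1 + Matrix.vecMulVec a b ∧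
    Matrix.vecMulVec a b * Matrix.vecMulVec a b = 0 ∧ Matrix.vecMulVec a b ≠ 0 := by
  obtain ⟨μ, hμ⟩ := exists_norm_eq hF (c := -1) (by rw [neg_pow_q hF, one_pow])
  obtain ⟨τ, hτ0, hτ⟩ := exists_trace_zero_ne hF
  obtain ⟨a, ha⟩ : ∃ a : Fin 4 → F, a = ![1, μ, 0, 0] := ⟨_, rfl⟩
  obtain ⟨b, hb⟩ : ∃ b : Fin 4 → F, b = fun i => τ * a i ^ q := ⟨_, rfl⟩
  have hba : b ⬝ᵥ a = 0 := by
    rw [hb, ha, dotProduct, Fin.sum_univ_four]
    simp only [Matrix.cons_val_zero, Matrix.cons_val_one, Matrix.cons_val_two, Matrix.cons_val_three, Matrix.head_cons,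
      Matrix.tail_cons, Matrix.cons_val, one_pow, mul_zero, add_zero, mul_one]
    linear_combination τ * hμ
  have hNN : Matrix.vecMulVec a b * Matrix.vecMulVec a b = 0 := by
    rw [Matrix.vecMulVec_mul_vecMulVec, hba, zero_smul, Matrix.vecMulVec_zero]
  have hst : stU hF (Matrix.vecMulVec a b) = -Matrix.vecMulVec a b := by
    ext i j
    rw [stU_apply, Matrix.neg_apply, Matrix.vecMulVec_apply, Matrix.vecMulVec_apply, hb, mul_pow, mul_pow,
      pow_q_pow_q hF]
    have h1 : τ ^ q = -τ := by linear_combination hτ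
    rw [h1]; ring
  have hdet : (1 + Matrix.vecMulVec a b).det = 1 := by
    rw [Matrix.vecMulVec_eq Unit, Matrix.det_one_add_replicateCol_mul_replicateRow, hba, add_zero]
  have hmem : stU hF (1 + Matrix.vecMulVec a b) * (1 + Matrix.vecMulVec a b) = 1 := by
    rw [(stU_star hF).add, stU_one, hst]
    have h1 : (1 + -Matrix.vecMulVec a b) * (1 + Matrix.vecMulVec a b) =
        1 - Matrix.vecMulVec a b * Matrix.vecMulVec a b := by noncomm_ring
    rw [h1, hNN, sub_zero]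
  obtain ⟨x, hx⟩ : ∃ x : GL (Fin 4) F, (x : Matrix (Fin 4) (Fin 4) F) = 1 + Matrix.vecMulVec a b :=
    ⟨Matrix.GeneralLinearGroup.mkOfDetNeZero _ (by rw [hdet]; exact one_ne_zero), rfl⟩
  refine ⟨x, a, b, ⟨?_, ?_⟩, hx, hNN, ?_⟩
  · show x ∈ GU 4 F q
    rw [(stU_star hF).mem, hx]
    exact hmem
  · show x ∈ specialLinear (Fin 4) F
    rw [mem_sl, hx, hdet]
  · intro h
    have h1 := congrFun (congrFun h 0) 0
    rw [Matrix.vecMulVec_apply, hb, ha] at h1
    simp only [Matrix.cons_val_zero, one_pow, mul_one, one_mul, Matrix.zero_apply] at h1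
    exact hτ0 h1

end Cfsg.Agent.H960
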