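import Cfsg.Agent.H960.FiveCase
import Cfsg.Agent.ClassicalGeometry.HermParabolic

/-!
The anti-involution of `GU_n(q)`, Gram matrices and conjugacy in `SU_n(q)` (H960).
-/

set_option autoImplicit false
set_option linter.unusedSimpArgs false
open Cfsg Cfsg.Geo Matrix
open scoped MatrixGroups

namespace Cfsg.Agent.H960

open Cfsg.Agent.LieClassical.HermBasic

variable {F : Type*} [Field F] [Fintype F] {q : ℕ} {n : ℕ}

/-- conjugate transpose -/
def stU (hF : Fintype.card F = q ^ 2) (A : Matrix (Fin n) (Fin n) F) : Matrix (Fin n) (Fin n) F :=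
  (A.map (conj hF))ᵀ

theorem stU_apply (hF : Fintype.card F = q ^ 2) (A : Matrix (Fin n) (Fin n) F) (i j : Fin n) :
    stU hF A i j = (A j i) ^ q := by
  rw [stU, Matrix.transpose_apply, Matrix.map_apply, conj_apply]

theorem stU_mul (hF : Fintype.card F = q ^ 2) (A B : Matrix (Fin n) (Fin n) F) :
    stU hF (A * B) = stU hF B * stU hF A := by
  rw [stU, Matrix.map_mul, Matrix.transpose_mul, stU, stU]

theorem stU_one (hF : Fintype.card F = q ^ 2) : stU hF (1 : Matrix (Fin n) (Fin n) F) = 1 := by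
  rw [stU, Matrix.map_one _ (map_zero _) (map_one _), Matrix.transpose_one]

theorem stU_stU (hF : Fintype.card F = q ^ 2) (A : Matrix (Fin n) (Fin n) F) : stU hF (stU hF A) = A := by
  ext i j
  rw [stU_apply, stU_apply, pow_q_pow_q hF]

theorem stU_diag (hF : Fintype.card F = q ^ 2) (s : Fin n → F) :
    stU hF (Matrix.diagonal s) = Matrix.diagonal (fun i => s i ^ q) := by
  ext i j
  rw [stU_apply]
  by_cases h : i = j
  · rw [h, Matrix.diagonal_apply_eq, Matrix.diagonal_apply_eq]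
  · rw [Matrix.diagonal_apply_ne _ (Ne.symm h), Matrix.diagonal_apply_ne _ h, zero_pow_q hF]

theorem stU_star (hF : Fintype.card F = q ^ 2) : StarG (GU n F q) (stU (n := n) hF) where
  add := fun a b => by rw [stU, Matrix.map_add _ (map_add _), Matrix.transpose_add, stU, stU]
  mul := stU_mul hF
  one := stU_one hF
  mem := fun g => by
    rw [Cfsg.Agent.ClassicalGeometry.HermParabolic.mem_GU_iff_matrix hF, stU]
    constructor
    · intro h
      have h1 := congrArg Matrix.transpose h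
      rwa [Matrix.transpose_mul, Matrix.transpose_transpose, Matrix.transpose_one] at h1
    · intro h
      have h1 := congrArg Matrix.transpose h
      rwa [Matrix.transpose_mul, Matrix.transpose_transpose, Matrix.transpose_one] at h1

/-- entries of `B* A` -/
theorem herm_cols (hF : Fintype.card F = q ^ 2) (A B : Matrix (Fin n) (Fin n) F) (i j : Fin n) :
    hermForm n F q (A *ᵥ Pi.single i 1) (B *ᵥ Pi.single j 1) = (stU hF B * A) j i := by
  rw [herm_def, Matrix.mul_apply]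
  refine Finset.sum_congr rfl fun k _ => ?_
  rw [stU_apply, Matrix.mulVec_single_one, Matrix.mulVec_single_one, mul_comm]
  rfl

theorem gram_eq (hF : Fintype.card F = q ^ 2) {B J : Matrix (Fin n) (Fin n) F} {w : Fin n → (Fin n → F)}
    (hB : ∀ j, B *ᵥ Pi.single j 1 = w j) (hw : ∀ i j, hermForm n F q (w j) (w i) = J i j) : stU hF B * B = J := by
  ext i j
  rw [← herm_cols, hB, hB, hw]

omit [Fintype F] in
/-- eigenvectors are orthogonal -/
theorem herm_eig {M : Matrix (Fin n) (Fin n) F} (hM : Cfsg.Agent.GH.Cov.LieU4.Iso q M)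
    {v w : Fin n → F} {a b : F} (hv : M *ᵥ v = a • v) (hw : M *ᵥ w = b • w) (hab : a * b ^ q ≠ 1) :
    hermForm n F q v w = 0 := by
  have h1 := hM v w
  rw [hv, hw, herm_smul_left, herm_smul_right] at h1
  have h2 : (a * b ^ q - 1) * hermForm n F q v w = 0 := by linear_combination h1
  exact (mul_eq_zero.1 h2).resolve_left (sub_ne_zero.2 hab)

omit [Fintype F] in
theorem iso_of_mem {g : GL (Fin n) F} (hg : g ∈ GU n F q) :
    Cfsg.Agent.GH.Cov.LieU4.Iso q (g : Matrix (Fin n) (Fin n) F) := (mem_GU_iff g).1 hg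

theorem exists_GL_of_gram (hF : Fintype.card F = q ^ 2) {J : Matrix (Fin n) (Fin n) F} (hJ : J.det ≠ 0)
    {w : Fin n → (Fin n → F)} (hw : ∀ i j, hermForm n F q (w j) (w i) = J i j) :
    ∃ B : GL (Fin n) F, (∀ j, (B : Matrix (Fin n) (Fin n) F) *ᵥ Pi.single j 1 = w j) ∧
      stU hF (B : Matrix (Fin n) (Fin n) F) * B = J := by
  have hB : ∀ j, ((Matrix.of w)ᵀ : Matrix (Fin n) (Fin n) F) *ᵥ Pi.single j 1 = w j := by
    intro j
    ext i
    rw [Matrix.mulVec_single_one]
    rfl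
  have hg := gram_eq hF hB hw
  have hdet : ((Matrix.of w)ᵀ : Matrix (Fin n) (Fin n) F).det ≠ 0 := by
    intro h
    apply hJ
    rw [← hg, Matrix.det_mul, h, mul_zero]
  exact ⟨Matrix.GeneralLinearGroup.mkOfDetNeZero _ hdet, hB, hg⟩

/-- elements with eigenvector frames with the same Gram matrix are conjugate in `SU_n(q)` -/
theorem conj_of_gram (hF : Fintype.card F = q ^ 2) {J : Matrix (Fin n) (Fin n) F} (hJ : J.det ≠ 0)
    {x y : GL (Fin n) F} {w w' : Fin n → (Fin n → F)} {t : Fin n → F}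
    (hw : ∀ i j, hermForm n F q (w j) (w i) = J i j) (hw' : ∀ i j, hermForm n F q (w' j) (w' i) = J i j)
    (hx : ∀ i, (x : Matrix (Fin n) (Fin n) F) *ᵥ w i = t i • w i)
    (hy : ∀ i, (y : Matrix (Fin n) (Fin n) F) *ᵥ w' i = t i • w' i)
    (hD : ∀ δ : F, δ ^ (q + 1) = 1 → ∃ a : Fin n → F, (∀ i j, a i ^ q * J i j * a j = J i j) ∧ ∏ i, a i = δ) :
    ∃ g ∈ GU n F q ⊓ specialLinear (Fin n) F, g⁻¹ * x * g = y := by
  obtain ⟨B, hB, hBJ⟩ := exists_GL_of_gram hF hJ hw
  obtain ⟨C, hC, hCJ⟩ := exists_GL_of_gram hF hJ hw'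
  have hS := stU_star (n := n) hF
  have hCC : (C : Matrix (Fin n) (Fin n) F) * ((C⁻¹ : GL (Fin n) F) : Matrix (Fin n) (Fin n) F) = 1 := by
    rw [← Units.val_mul, mul_inv_cancel, Units.val_one]
  have hmem : ∀ X : GL (Fin n) F, stU hF (X : Matrix (Fin n) (Fin n) F) * X = J → X * C⁻¹ ∈ GU n F q := by
    intro X hX
    rw [hS.mem, Units.val_mul, stU_mul]
    calc stU hF ((C⁻¹ : GL (Fin n) F) : Matrix (Fin n) (Fin n) F) * stU hF (X : Matrix (Fin n) (Fin n) F) *
          ((X : Matrix (Fin n) (Fin n) F) * ((C⁻¹ : GL (Fin n) F) : Matrix (Fin n) (Fin n) F)) =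
          stU hF ((C⁻¹ : GL (Fin n) F) : Matrix (Fin n) (Fin n) F) * (stU hF (X : Matrix (Fin n) (Fin n) F) * X) *
          ((C⁻¹ : GL (Fin n) F) : Matrix (Fin n) (Fin n) F) := by simp only [Matrix.mul_assoc]
      _ = stU hF ((C⁻¹ : GL (Fin n) F) : Matrix (Fin n) (Fin n) F) * (stU hF (C : Matrix (Fin n) (Fin n) F) * C) *
          ((C⁻¹ : GL (Fin n) F) : Matrix (Fin n) (Fin n) F) := by rw [hX, hCJ]
      _ = (stU hF ((C⁻¹ : GL (Fin n) F) : Matrix (Fin n) (Fin n) F) * stU hF (C : Matrix (Fin n) (Fin n) F)) *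
          ((C : Matrix (Fin n) (Fin n) F) * ((C⁻¹ : GL (Fin n) F) : Matrix (Fin n) (Fin n) F)) := by
          simp only [Matrix.mul_assoc]
      _ = 1 := by rw [← stU_mul, hCC, stU_one, Matrix.mul_one]
  have hBC := hmem B hBJ
  have hdd := (Amb.gu hF n).inv _ ((Amb.gu hF n).det _ hBC)
  obtain ⟨a, haJ, hprod⟩ := hD _ hdd
  have hdet0 : (Matrix.diagonal a).det ≠ 0 := by
    rw [Matrix.det_diagonal, hprod]
    exact inv_ne_zero (det_ne _)
  have hform : ∀ (z X : GL (Fin n) F) (v : Fin n → (Fin n → F)),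
      (∀ j, (X : Matrix (Fin n) (Fin n) F) *ᵥ Pi.single j 1 = v j) →
      (∀ i, (z : Matrix (Fin n) (Fin n) F) *ᵥ v i = t i • v i) →
      (z : Matrix (Fin n) (Fin n) F) * (X : Matrix (Fin n) (Fin n) F) = X * Matrix.diagonal t := by
    intro z X v hX hz
    apply mul_of_cols
    intro j
    have hd : (Matrix.diagonal t : Matrix (Fin n) (Fin n) F) *ᵥ (Pi.single j 1) = t j • (Pi.single j 1 : Fin n → F) := by
      ext i
      rw [Matrix.mulVec_diagonal, Pi.smul_apply, smul_eq_mul]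
      by_cases hij : i = j
      · rw [hij]
      · rw [Pi.single_eq_of_ne hij, mul_zero, mul_zero]
    rw [hX, hz, hd, Matrix.mulVec_smul, hX]
  refine conj_of_form (D := Matrix.GeneralLinearGroup.mkOfDetNeZero _ hdet0) (hform x B w hB hx) (hform y C w' hC hy)
    hBC ?_ ?_ ?_
  · change Matrix.diagonal a * Matrix.diagonal t = Matrix.diagonal t * Matrix.diagonal a
    rw [Matrix.diagonal_mul_diagonal, Matrix.diagonal_mul_diagonal]
    simp only [mul_comm]
  · apply hmem
    rw [Units.val_mul]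
    change stU hF ((C : Matrix (Fin n) (Fin n) F) * Matrix.diagonal a) * ((C : Matrix (Fin n) (Fin n) F) * Matrix.diagonal a) = J
    rw [stU_mul]
    calc stU hF (Matrix.diagonal a) * stU hF (C : Matrix (Fin n) (Fin n) F) * ((C : Matrix (Fin n) (Fin n) F) * Matrix.diagonal a)
        = stU hF (Matrix.diagonal a) * (stU hF (C : Matrix (Fin n) (Fin n) F) * C) * Matrix.diagonal a := by
          simp only [Matrix.mul_assoc]
      _ = J := by
          rw [hCJ, stU_diag]
          ext i j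
          rw [Matrix.mul_diagonal, Matrix.diagonal_mul]
          exact haJ i j
  · change _ * (Matrix.diagonal a).det = 1
    rw [Matrix.det_diagonal, hprod, mul_inv_cancel₀ (det_ne _)]

/-- dual frame -/
theorem exists_dual (hF : Fintype.card F = q ^ 2) (B : GL (Fin n) F) :
    ∃ D : GL (Fin n) F, stU hF (D : Matrix (Fin n) (Fin n) F) * B = 1 ∧ stU hF (B : Matrix (Fin n) (Fin n) F) * D = 1 := by
  have h1 : stU hF ((B⁻¹ : GL (Fin n) F) : Matrix (Fin n) (Fin n) F) * stU hF (B : Matrix (Fin n) (Fin n) F) = 1 := by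
    rw [← stU_mul, ← Units.val_mul, mul_inv_cancel, Units.val_one, stU_one]
  have h2 : stU hF (B : Matrix (Fin n) (Fin n) F) * stU hF ((B⁻¹ : GL (Fin n) F) : Matrix (Fin n) (Fin n) F) = 1 := by
    rw [← stU_mul, ← Units.val_mul, inv_mul_cancel, Units.val_one, stU_one]
  refine ⟨⟨_, _, h1, h2⟩, ?_, h2⟩
  change stU hF (stU hF ((B⁻¹ : GL (Fin n) F) : Matrix (Fin n) (Fin n) F)) * (B : Matrix (Fin n) (Fin n) F) = 1
  rw [stU_stU, ← Units.val_mul, inv_mul_cancel, Units.val_one]

/-- eigenvalues on the dual frame -/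
theorem dual_eig (hF : Fintype.card F = q ^ 2) {x B D : GL (Fin n) F} (hx : x ∈ GU n F q) {s s' : Fin n → F}
    (hxB : (x : Matrix (Fin n) (Fin n) F) * (B : Matrix (Fin n) (Fin n) F) = B * Matrix.diagonal s)
    (hD : stU hF (D : Matrix (Fin n) (Fin n) F) * B = 1) (hss : ∀ i, s i * s' i ^ q = 1) :
    (x : Matrix (Fin n) (Fin n) F) * (D : Matrix (Fin n) (Fin n) F) = D * Matrix.diagonal s' := by
  have hS := stU_star (n := n) hF
  have hxs : stU hF (x : Matrix (Fin n) (Fin n) F) = ((x⁻¹ : GL (Fin n) F) : Matrix (Fin n) (Fin n) F) := hS.eq_inv hx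
  have hDB : stU hF (D : Matrix (Fin n) (Fin n) F) = ((B⁻¹ : GL (Fin n) F) : Matrix (Fin n) (Fin n) F) := by
    have hBB : (B : Matrix (Fin n) (Fin n) F) * ((B⁻¹ : GL (Fin n) F) : Matrix (Fin n) (Fin n) F) = 1 := by
      rw [← Units.val_mul, mul_inv_cancel, Units.val_one]
    calc stU hF (D : Matrix (Fin n) (Fin n) F) = stU hF (D : Matrix (Fin n) (Fin n) F) *
          ((B : Matrix (Fin n) (Fin n) F) * ((B⁻¹ : GL (Fin n) F) : Matrix (Fin n) (Fin n) F)) := by rw [hBB, Matrix.mul_one]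
      _ = _ := by rw [← Matrix.mul_assoc, hD, Matrix.one_mul]
  have h1 : stU hF ((x : Matrix (Fin n) (Fin n) F) * (D : Matrix (Fin n) (Fin n) F)) = stU hF ((D : Matrix (Fin n) (Fin n) F) * Matrix.diagonal s') := by
    rw [stU_mul, stU_mul, hxs, hDB, stU_diag]
    have h3 := conj_coe hxB
    have h4 : (Matrix.diagonal fun i => s' i ^ q) * (Matrix.diagonal s : Matrix (Fin n) (Fin n) F) = 1 := by
      rw [Matrix.diagonal_mul_diagonal, ← Matrix.diagonal_one]
      congr 1
      ext i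
      rw [mul_comm, hss]
    have h5 : B⁻¹ * x⁻¹ = (B⁻¹ * x * B)⁻¹ * B⁻¹ := by group
    have h6 : (((B⁻¹ * x * B)⁻¹ : GL (Fin n) F) : Matrix (Fin n) (Fin n) F) = Matrix.diagonal fun i => s' i ^ q := by
      have h7 : (Matrix.diagonal fun i => s' i ^ q) * ((B⁻¹ * x * B : GL (Fin n) F) : Matrix (Fin n) (Fin n) F) = 1 := by
        rw [h3, h4]
      calc (((B⁻¹ * x * B)⁻¹ : GL (Fin n) F) : Matrix (Fin n) (Fin n) F) =
            ((Matrix.diagonal fun i => s' i ^ q) * ((B⁻¹ * x * B : GL (Fin n) F) : Matrix (Fin n) (Fin n) F)) *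
            (((B⁻¹ * x * B)⁻¹ : GL (Fin n) F) : Matrix (Fin n) (Fin n) F) := by rw [h7, Matrix.one_mul]
        _ = _ := by rw [Matrix.mul_assoc, ← Units.val_mul, mul_inv_cancel, Units.val_one, Matrix.mul_one]
    rw [← Units.val_mul, h5, Units.val_mul, h6]
  have h2 := congrArg (stU hF) h1
  rwa [stU_stU, stU_stU] at h2

end Cfsg.Agent.H960
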