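import Mathlib

/-!
Nonabelian groups of order 27 (H960): commutators are central, non-commuting elements generate.
-/

set_option autoImplicit false

namespace Cfsg.Agent.H960

theorem comm_of_card {G : Type*} [Group G] (h : Nat.card G = 1 ∨ Nat.card G = 3 ∨ Nat.card G = 9) (a b : G) :
    a * b = b * a := by
  have h3 : Fact (Nat.Prime 3) := ⟨Nat.prime_three⟩
  rcases h with h | h | h
  · have := (Nat.card_eq_one_iff_unique.1 h).1
    exact Subsingleton.elim _ _
  · have hc : IsCyclic G := isCyclic_of_prime_card h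
    exact (IsCyclic.commGroup (α := G)).mul_comm a b
  · have := IsPGroup.isMulCommutative_of_card_eq_prime_sq (p := 3) (G := G) (by rw [h]; norm_num)
    exact mul_comm' a b

theorem dvd27 {n : ℕ} (h : n ∣ 27) : n = 1 ∨ n = 3 ∨ n = 9 ∨ n = 27 := by
  have h1 : n ∣ 3 ^ 3 := by norm_num; exact h
  obtain ⟨k, hk, rfl⟩ := (Nat.dvd_prime_pow Nat.prime_three).1 h1
  interval_cases k <;> norm_num

/-- non-commuting elements generate -/
theorem closure_of_noncomm {G : Type*} [Group G] {R : Subgroup G} (hR : Nat.card R = 27) {a b : G} (ha : a ∈ R)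
    (hb : b ∈ R) (hab : a * b ≠ b * a) : ∀ g ∈ R, g ∈ Subgroup.closure {a, b} := by
  have hfin : Finite R := Nat.finite_of_card_ne_zero (by rw [hR]; norm_num)
  have hle : Subgroup.closure {a, b} ≤ R := by
    rw [Subgroup.closure_le]
    rintro x (rfl | hx)
    · exact ha
    · rw [Set.mem_singleton_iff] at hx; rw [hx]; exact hb
  have hdvd : Nat.card (Subgroup.closure {a, b}) ∣ 27 := by
    rw [← hR]
    exact Subgroup.card_dvd_of_le hle
  have haT : a ∈ Subgroup.closure {a, b} := Subgroup.subset_closure (Or.inl rfl)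
  have hbT : b ∈ Subgroup.closure {a, b} := Subgroup.subset_closure (Or.inr rfl)
  have h27 : Nat.card (Subgroup.closure {a, b}) = 27 := by
    rcases dvd27 hdvd with h | h | h | h
    · exact absurd (congrArg Subtype.val (comm_of_card (Or.inl h) (⟨a, haT⟩ : Subgroup.closure {a, b}) ⟨b, hbT⟩)) hab
    · exact absurd (congrArg Subtype.val (comm_of_card (Or.inr (Or.inl h)) (⟨a, haT⟩ : Subgroup.closure {a, b}) ⟨b, hbT⟩)) hab
    · exact absurd (congrArg Subtype.val (comm_of_card (Or.inr (Or.inr h)) (⟨a, haT⟩ : Subgroup.closure {a, b}) ⟨b, hbT⟩)) hab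
    · exact h
  have heq : Subgroup.closure {a, b} = R := by
    apply Subgroup.eq_of_le_of_card_ge hle
    rw [hR, h27]
  intro g hg
  rw [heq]
  exact hg

/-- commutators are central -/
theorem comm_central {G : Type*} [Group G] (hG : Nat.card G = 27) (hna : ∃ a b : G, a * b ≠ b * a) (a b : G) :
    a * b * a⁻¹ * b⁻¹ ∈ Subgroup.center G := by
  have h3 : Fact (Nat.Prime 3) := ⟨Nat.prime_three⟩
  have hfin : Finite G := Nat.finite_of_card_ne_zero (by rw [hG]; norm_num)
  have hnt : Nontrivial G := by
    rw [← Finite.one_lt_card_iff_nontrivial, hG]; norm_num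
  have hp : IsPGroup 3 G := IsPGroup.of_card (n := 3) (by rw [hG]; norm_num)
  have hdvd : Nat.card (Subgroup.center G) ∣ 27 := by
    rw [← hG]
    exact Subgroup.card_subgroup_dvd_card _
  have hmul := Subgroup.card_eq_card_quotient_mul_card_subgroup (Subgroup.center G)
  rw [hG] at hmul
  have hnc : ¬ ∀ x y : G, x * y = y * x := by
    obtain ⟨x, y, hxy⟩ := hna
    exact fun h => hxy (h x y)
  have hc3 : Nat.card (Subgroup.center G) = 3 := by
    rcases dvd27 hdvd with h | h | h | h
    · exfalso
      have := IsPGroup.center_nontrivial hp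
      rw [← Finite.one_lt_card_iff_nontrivial, h] at this
      norm_num at this
    · exact h
    · exfalso
      rw [h] at hmul
      have hq : Nat.card (G ⧸ Subgroup.center G) = 3 := by omega
      have hcyc : IsCyclic (G ⧸ Subgroup.center G) := isCyclic_of_prime_card hq
      apply hnc
      intro x y
      have := MonoidHom.isMulCommutative_of_isCyclic_of_ker_le_center (QuotientGroup.mk' (Subgroup.center G)) (by rw [QuotientGroup.ker_mk'])
      exact mul_comm' x y
    · exfalso
      have htop : Subgroup.center G = ⊤ := Subgroup.eq_top_of_card_eq _ (by rw [h, hG])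
      apply hnc
      intro x y
      have : y ∈ Subgroup.center G := by rw [htop]; trivial
      exact (Subgroup.mem_center_iff.1 this x)
  rw [hc3] at hmul
  have hq : Nat.card (G ⧸ Subgroup.center G) = 9 := by omega
  rw [← QuotientGroup.eq_one_iff]
  have h1 := comm_of_card (Or.inr (Or.inr hq)) (a : G ⧸ Subgroup.center G) b
  rw [QuotientGroup.mk_mul, QuotientGroup.mk_mul, QuotientGroup.mk_mul, QuotientGroup.mk_inv, QuotientGroup.mk_inv, h1]
  group

end Cfsg.Agent.H960
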