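import Cfsg.Agent.H960.Grp27
import Cfsg.Agent.H960.GUMisc

/-!
Subgroups of order 27 of `GL_3(F)` in monomial form (H960).
-/

set_option autoImplicit false
set_option linter.unusedSimpArgs false
open Cfsg Cfsg.Geo Matrix
open scoped MatrixGroups

namespace Cfsg.Agent.H960

variable {F : Type*} [Field F]

/-- the diagonal generator -/
def A0 (ω : F) : Matrix (Fin 3) (Fin 3) F := Matrix.diagonal ![1, ω, ω * ω]

/-- the cyclic permutation matrix -/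
def C0 : Matrix (Fin 3) (Fin 3) F := !![0, 0, 1; 1, 0, 0; 0, 1, 0]

theorem C0_mulVec (v : Fin 3 → F) : C0 *ᵥ v = ![v 2, v 0, v 1] := by
  ext i
  fin_cases i <;> simp [C0, Matrix.mulVec, dotProduct, Fin.sum_univ_three]

/-- `R` in monomial form with respect to the frame `Q` -/
structure Heis (R : Subgroup (GL (Fin 3) F)) (Q a b : GL (Fin 3) F) (ω : F) : Prop where
  hω : ω * ω + ω + 1 = 0
  ha : a ∈ R
  hb : b ∈ R
  aQ : (a : Matrix (Fin 3) (Fin 3) F) * (Q : Matrix (Fin 3) (Fin 3) F) = Q * A0 ω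
  bQ : (b : Matrix (Fin 3) (Fin 3) F) * (Q : Matrix (Fin 3) (Fin 3) F) = Q * (C0 : Matrix (Fin 3) (Fin 3) F)
  gen : ∀ g ∈ R, g ∈ Subgroup.closure {a, b}

theorem eig3_li (h3 : (3 : F) ≠ 0) {ω : F} (hω : ω * ω + ω + 1 = 0) {A : Matrix (Fin 3) (Fin 3) F} {α : F}
    (hα : α ≠ 0) {e0 e1 e2 : Fin 3 → F} (h0 : e0 ≠ 0) (h1 : e1 ≠ 0) (h2 : e2 ≠ 0) (a0 : A *ᵥ e0 = α • e0)
    (a1 : A *ᵥ e1 = (α * ω) • e1) (a2 : A *ᵥ e2 = (α * (ω * ω)) • e2) : LinearIndependent F ![e0, e1, e2] := by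
  obtain ⟨hω1, hω2, hω12, hω0⟩ := omega_ne h3 hω
  apply Module.End.eigenvectors_linearIndependent' (Matrix.toLin' A) ![α, α * ω, α * (ω * ω)]
  · have b1 : α ≠ α * ω := fun h => hω1 (mul_left_cancel₀ hα ((mul_one α).trans h)).symm
    have b2 : α ≠ α * (ω * ω) := fun h => hω2 (mul_left_cancel₀ hα ((mul_one α).trans h)).symm
    have b3 : α * ω ≠ α * (ω * ω) := fun h => hω12 (mul_left_cancel₀ hα h)
    intro i j hij
    fin_cases i <;> fin_cases j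
    · rfl
    · exact absurd hij b1
    · exact absurd hij b2
    · exact absurd hij b1.symm
    · rfl
    · exact absurd hij b3
    · exact absurd hij b2.symm
    · exact absurd hij b3.symm
    · rfl
  · intro i
    rw [Module.End.hasEigenvector_iff, Module.End.mem_eigenspace_iff, Matrix.toLin'_apply]
    fin_cases i
    · exact ⟨a0, h0⟩
    · exact ⟨a1, h1⟩
    · exact ⟨a2, h2⟩

/-- a noncommutative group of order 27 and exponent 3 is in monomial form in a suitable frame -/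
theorem exists_heis (h3 : (3 : F) ≠ 0) {ω₀ : F} (hω₀ : ω₀ * ω₀ + ω₀ + 1 = 0) {R : Subgroup (GL (Fin 3) F)}
    (hR : Nat.card R = 27) (hRe : ∀ g ∈ R, g ^ 3 = 1) (hna : ∃ a ∈ R, ∃ b ∈ R, a * b ≠ b * a) :
    ∃ (Q a b : GL (Fin 3) F) (ω : F), Heis R Q a b ω := by
  obtain ⟨a, ha, b, hb, hab⟩ := hna
  have hcen : ∀ x ∈ R, ∀ y ∈ R, ∀ g ∈ R, g * (x * y * x⁻¹ * y⁻¹) = (x * y * x⁻¹ * y⁻¹) * g := by
    intro x hx y hy g hg
    have h1 := comm_central hR ⟨⟨a, ha⟩, ⟨b, hb⟩, fun h => hab (congrArg Subtype.val h)⟩ (⟨x, hx⟩ : R) ⟨y, hy⟩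
    exact congrArg Subtype.val (Subgroup.mem_center_iff.1 h1 ⟨g, hg⟩)
  have hprim := prim_omega h3 hω₀
  obtain ⟨z, hz⟩ : ∃ z, z = a * b * a⁻¹ * b⁻¹ := ⟨_, rfl⟩
  have hzR : z ∈ R := by rw [hz]; exact R.mul_mem (R.mul_mem (R.mul_mem ha hb) (R.inv_mem ha)) (R.inv_mem hb)
  have hz1 : z ≠ 1 := by
    intro h
    apply hab
    rw [hz, mul_inv_eq_one, mul_inv_eq_iff_eq_mul] at h
    exact h
  have hza : a * z = z * a := by rw [hz]; exact hcen a ha b hb a ha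
  have hzb : b * z = z * b := by rw [hz]; exact hcen a ha b hb b hb
  have habz : a * b = z * (b * a) := by rw [hz]; group
  have e3 : ∀ g ∈ R, (g : Matrix (Fin 3) (Fin 3) F) ^ 3 = 1 := by
    intro g hg
    rw [← Units.val_pow_eq_pow_val, hRe g hg, Units.val_one]
  -- an eigenvector of `z`
  obtain ⟨D, s, hs, hD⟩ := exists_diag_GL hprim (by norm_num) (by exact_mod_cast h3) (e3 z hzR)
  obtain ⟨i, hi⟩ : ∃ i, s i ≠ 1 := by
    by_contra hcon
    push Not at hcon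
    apply hz1
    apply m_ext
    rw [eq_of_diag hD hcon, one_smul, Units.val_one]
  obtain ⟨lam, hlam⟩ : ∃ lam, lam = s i := ⟨_, rfl⟩
  rw [← hlam] at hi
  have hlam3 : lam ^ 3 = 1 := by rw [hlam]; exact hs i
  have hlq : lam * lam + lam + 1 = 0 := by
    have h1 : (lam - 1) * (lam * lam + lam + 1) = 0 := by linear_combination hlam3
    exact (mul_eq_zero.1 h1).resolve_left (sub_ne_zero.2 hi)
  obtain ⟨v, hv⟩ : ∃ v, v = (D : Matrix (Fin 3) (Fin 3) F) *ᵥ Pi.single i 1 := ⟨_, rfl⟩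
  have hinj : ∀ (g : GL (Fin 3) F) (x : Fin 3 → F), (g : Matrix (Fin 3) (Fin 3) F) *ᵥ x = 0 → x = 0 := by
    intro g x h
    calc x = ((g⁻¹ : GL (Fin 3) F) : Matrix (Fin 3) (Fin 3) F) *ᵥ ((g : Matrix (Fin 3) (Fin 3) F) *ᵥ x) := by
          rw [Matrix.mulVec_mulVec, ← Units.val_mul, inv_mul_cancel, Units.val_one, Matrix.one_mulVec]
      _ = 0 := by rw [h, Matrix.mulVec_zero]
  have hv0 : v ≠ 0 := by
    intro h
    have h1 := congrFun (hinj D _ (hv.symm.trans h)) i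
    rw [Pi.single_eq_same, Pi.zero_apply] at h1
    exact one_ne_zero h1
  have hzv : (z : Matrix (Fin 3) (Fin 3) F) *ᵥ v = lam • v := by
    have hd : (Matrix.diagonal s : Matrix (Fin 3) (Fin 3) F) *ᵥ (Pi.single i 1) = s i • (Pi.single i 1 : Fin 3 → F) := by
      ext k
      rw [Matrix.mulVec_diagonal, Pi.smul_apply, smul_eq_mul]
      by_cases hik : k = i
      · rw [hik]
      · rw [Pi.single_eq_of_ne hik, mul_zero, mul_zero]
    rw [hv, Matrix.mulVec_mulVec, hD, ← Matrix.mulVec_mulVec, hd, Matrix.mulVec_smul, hlam]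
  -- an eigenvector of `a` among them
  obtain ⟨j, hj⟩ : ∃ j, proj ω₀ 3 (a : Matrix (Fin 3) (Fin 3) F) j *ᵥ v ≠ 0 := by
    by_contra hcon
    push Not at hcon
    have h1 := congrArg (fun M : Matrix (Fin 3) (Fin 3) F => M *ᵥ v)
      (sum_proj hprim (by norm_num) (a : Matrix (Fin 3) (Fin 3) F))
    simp only [Matrix.sum_mulVec, hcon, Finset.sum_const_zero, Matrix.smul_mulVec, Matrix.one_mulVec] at h1
    have h2 := (smul_eq_zero.1 h1.symm).resolve_left (by exact_mod_cast h3)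
    exact hv0 h2
  obtain ⟨w, hw⟩ : ∃ w, w = proj ω₀ 3 (a : Matrix (Fin 3) (Fin 3) F) j *ᵥ v := ⟨_, rfl⟩
  rw [← hw] at hj
  obtain ⟨α, hα⟩ : ∃ α, α = ω₀ ^ j := ⟨_, rfl⟩
  have hα3 : α ^ 3 = 1 := by rw [hα, ← pow_mul, mul_comm, pow_mul, hprim.pow_eq_one, one_pow]
  have hα0 : α ≠ 0 := by
    rintro rfl
    rw [zero_pow (by norm_num)] at hα3
    exact zero_ne_one hα3
  have haw : (a : Matrix (Fin 3) (Fin 3) F) *ᵥ w = α • w := by
    rw [hw, Matrix.mulVec_mulVec, mul_proj hprim.pow_eq_one (by norm_num) (e3 a ha), Matrix.smul_mulVec, hα]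
  have hzw : (z : Matrix (Fin 3) (Fin 3) F) *ᵥ w = lam • w := by
    have hc : Commute (z : Matrix (Fin 3) (Fin 3) F) (a : Matrix (Fin 3) (Fin 3) F) := by
      rw [Commute, SemiconjBy, ← Units.val_mul, ← hza, Units.val_mul]
    have hc2 : Commute (z : Matrix (Fin 3) (Fin 3) F) (proj ω₀ 3 (a : Matrix (Fin 3) (Fin 3) F) j) :=
      Commute.sum_right _ _ _ (fun k _ => (hc.smul_right _).pow_right k)
    rw [hw, Matrix.mulVec_mulVec, hc2.eq, ← Matrix.mulVec_mulVec, hzv, Matrix.mulVec_smul]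
  have mab : ∀ x : Fin 3 → F, (a : Matrix (Fin 3) (Fin 3) F) *ᵥ ((b : Matrix (Fin 3) (Fin 3) F) *ᵥ x) =
      (z : Matrix (Fin 3) (Fin 3) F) *ᵥ ((b : Matrix (Fin 3) (Fin 3) F) *ᵥ ((a : Matrix (Fin 3) (Fin 3) F) *ᵥ x)) := by
    intro x
    rw [Matrix.mulVec_mulVec, Matrix.mulVec_mulVec, Matrix.mulVec_mulVec, ← Units.val_mul, ← Units.val_mul,
      ← Units.val_mul, habz, mul_assoc]
  have mzb : ∀ x : Fin 3 → F, (z : Matrix (Fin 3) (Fin 3) F) *ᵥ ((b : Matrix (Fin 3) (Fin 3) F) *ᵥ x) =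
      (b : Matrix (Fin 3) (Fin 3) F) *ᵥ ((z : Matrix (Fin 3) (Fin 3) F) *ᵥ x) := by
    intro x
    rw [Matrix.mulVec_mulVec, Matrix.mulVec_mulVec, ← Units.val_mul, ← Units.val_mul, hzb]
  obtain ⟨e1, he1⟩ : ∃ e1, e1 = (b : Matrix (Fin 3) (Fin 3) F) *ᵥ w := ⟨_, rfl⟩
  obtain ⟨e2, he2⟩ : ∃ e2, e2 = (b : Matrix (Fin 3) (Fin 3) F) *ᵥ e1 := ⟨_, rfl⟩
  have he10 : e1 ≠ 0 := fun h => hj (hinj b w (he1.symm.trans h))
  have he20 : e2 ≠ 0 := fun h => he10 (hinj b e1 (he2.symm.trans h))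
  have hz1' : (z : Matrix (Fin 3) (Fin 3) F) *ᵥ e1 = lam • e1 := by rw [he1, mzb, hzw, Matrix.mulVec_smul]
  have hz2' : (z : Matrix (Fin 3) (Fin 3) F) *ᵥ e2 = lam • e2 := by rw [he2, mzb, hz1', Matrix.mulVec_smul]
  have ha1 : (a : Matrix (Fin 3) (Fin 3) F) *ᵥ e1 = (α * lam) • e1 := by
    rw [he1, mab, haw, Matrix.mulVec_smul, ← he1, Matrix.mulVec_smul, hz1', smul_smul]
  have ha2 : (a : Matrix (Fin 3) (Fin 3) F) *ᵥ e2 = (α * (lam * lam)) • e2 := by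
    rw [he2, mab, ha1, Matrix.mulVec_smul, ← he2, Matrix.mulVec_smul, hz2', smul_smul, mul_assoc]
  have hb2 : (b : Matrix (Fin 3) (Fin 3) F) *ᵥ e2 = w := by
    rw [he2, he1, Matrix.mulVec_mulVec, Matrix.mulVec_mulVec, ← pow_two, ← pow_succ, e3 b hb,
      Matrix.one_mulVec]
  obtain ⟨Q, hQ⟩ := exists_GL_of_li (eig3_li h3 hlq hα0 hj he10 he20 haw ha1 ha2)
  have hQ0 : (Q : Matrix (Fin 3) (Fin 3) F) *ᵥ Pi.single 0 1 = w := hQ 0
  have hQ1 : (Q : Matrix (Fin 3) (Fin 3) F) *ᵥ Pi.single 1 1 = e1 := hQ 1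
  have hQ2 : (Q : Matrix (Fin 3) (Fin 3) F) *ᵥ Pi.single 2 1 = e2 := hQ 2
  have hdiag : ∀ (g : Matrix (Fin 3) (Fin 3) F) (t : Fin 3 → F), g *ᵥ w = t 0 • w → g *ᵥ e1 = t 1 • e1 →
      g *ᵥ e2 = t 2 • e2 → g * (Q : Matrix (Fin 3) (Fin 3) F) = Q * Matrix.diagonal t := by
    intro g t h0 h1 h2
    apply mul_of_cols
    intro k
    have hd : (Matrix.diagonal t : Matrix (Fin 3) (Fin 3) F) *ᵥ (Pi.single k 1) = t k • (Pi.single k 1 : Fin 3 → F) := by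
      ext l
      rw [Matrix.mulVec_diagonal, Pi.smul_apply, smul_eq_mul]
      by_cases hik : l = k
      · rw [hik]
      · rw [Pi.single_eq_of_ne hik, mul_zero, mul_zero]
    rw [hd, Matrix.mulVec_smul, hQ]
    fin_cases k
    · exact h0
    · exact h1
    · exact h2
  have hbQ : (b : Matrix (Fin 3) (Fin 3) F) * (Q : Matrix (Fin 3) (Fin 3) F) = Q * (C0 : Matrix (Fin 3) (Fin 3) F) := by
    apply mul_of_cols
    intro k
    have c0 : (C0 : Matrix (Fin 3) (Fin 3) F) *ᵥ Pi.single 0 1 = Pi.single 1 1 := by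
      rw [C0_mulVec]; ext l; fin_cases l <;> simp
    have c1 : (C0 : Matrix (Fin 3) (Fin 3) F) *ᵥ Pi.single 1 1 = Pi.single 2 1 := by
      rw [C0_mulVec]; ext l; fin_cases l <;> simp
    have c2 : (C0 : Matrix (Fin 3) (Fin 3) F) *ᵥ Pi.single 2 1 = Pi.single 0 1 := by
      rw [C0_mulVec]; ext l; fin_cases l <;> simp
    fin_cases k
    · change (b : Matrix (Fin 3) (Fin 3) F) *ᵥ ((Q : Matrix (Fin 3) (Fin 3) F) *ᵥ Pi.single 0 1) =
        (Q : Matrix (Fin 3) (Fin 3) F) *ᵥ ((C0 : Matrix (Fin 3) (Fin 3) F) *ᵥ Pi.single 0 1)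
      rw [c0, hQ0, hQ1, he1]
    · change (b : Matrix (Fin 3) (Fin 3) F) *ᵥ ((Q : Matrix (Fin 3) (Fin 3) F) *ᵥ Pi.single 1 1) =
        (Q : Matrix (Fin 3) (Fin 3) F) *ᵥ ((C0 : Matrix (Fin 3) (Fin 3) F) *ᵥ Pi.single 1 1)
      rw [c1, hQ1, hQ2, he2]
    · change (b : Matrix (Fin 3) (Fin 3) F) *ᵥ ((Q : Matrix (Fin 3) (Fin 3) F) *ᵥ Pi.single 2 1) =
        (Q : Matrix (Fin 3) (Fin 3) F) *ᵥ ((C0 : Matrix (Fin 3) (Fin 3) F) *ᵥ Pi.single 2 1)
      rw [c2, hQ2, hQ0, hb2]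
  have hzs : (z : Matrix (Fin 3) (Fin 3) F) = lam • (1 : Matrix (Fin 3) (Fin 3) F) := by
    have h1 := hdiag (z : Matrix (Fin 3) (Fin 3) F) (fun _ => lam) hzw hz1' hz2'
    exact eq_of_diag h1 (fun _ => rfl)
  have haQ : (a : Matrix (Fin 3) (Fin 3) F) * (Q : Matrix (Fin 3) (Fin 3) F) = α • (Q * A0 lam) := by
    have h1 := hdiag (a : Matrix (Fin 3) (Fin 3) F) ![α, α * lam, α * (lam * lam)] haw ha1 ha2
    rw [h1, ← Matrix.mul_smul, A0, ← Matrix.diagonal_smul]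
    congr 2
    ext k
    fin_cases k <;> simp
  obtain ⟨k, hk⟩ : ∃ k : ℕ, lam ^ k * α = 1 := by
    rcases cube_cases hlq hα3 with h | h | h
    · exact ⟨0, by rw [h]; ring⟩
    · exact ⟨2, by rw [h]; linear_combination hlam3⟩
    · exact ⟨1, by rw [h]; linear_combination hlam3⟩
  have hzk : ((z ^ k * a : GL (Fin 3) F) : Matrix (Fin 3) (Fin 3) F) * (Q : Matrix (Fin 3) (Fin 3) F) = Q * A0 lam := by
    rw [Units.val_mul, Units.val_pow_eq_pow_val, hzs, smul_pow, one_pow, Matrix.smul_mul, Matrix.one_mul,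
      Matrix.smul_mul, haQ, smul_smul, hk, one_smul]
  have hzkR : z ^ k * a ∈ R := R.mul_mem (R.pow_mem hzR k) ha
  refine ⟨Q, z ^ k * a, b, lam, hlq, hzkR, hb, hzk, hbQ, ?_⟩
  apply closure_of_noncomm hR hzkR hb
  intro h
  apply hab
  have hc : b * z ^ k = z ^ k * b := ((show Commute b z from hzb).pow_right k).eq
  rw [mul_assoc, ← mul_assoc b, hc, mul_assoc] at h
  exact mul_left_cancel h

end Cfsg.Agent.H960
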