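import Cfsg.Agent.H960.Heis

/-!
The normaliser of a subgroup of order 27 of `GL_3(F)` in monomial form (H960).
-/

set_option autoImplicit false
set_option linter.unusedSimpArgs false
open Cfsg Cfsg.Geo Matrix
open scoped MatrixGroups

namespace Cfsg.Agent.H960

open Cfsg.Agent.LieClassical.HermBasic

variable {F : Type*} [Field F]

/-- the frame can be chosen unitary -/
theorem Heis.exists_GU [Fintype F] {q : ℕ} (hF : Fintype.card F = q ^ 2) (hq : 3 ∣ q + 1) (h3 : (3 : F) ≠ 0)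
    {R : Subgroup (GL (Fin 3) F)} (hRU : R ≤ GU 3 F q) {Q a b : GL (Fin 3) F} {ω : F} (H : Heis R Q a b ω) :
    ∃ Q' ∈ GU 3 F q, Heis R Q' a b ω := by
  have hω := H.hω
  obtain ⟨hω1, hω2, hω12, hω0⟩ := omega_ne h3 hω
  have hω3 : ω * ω * ω = 1 := by linear_combination (ω - 1) * hω
  have hωq : ω ^ q = ω * ω := by
    obtain ⟨k, hk⟩ := hq
    have h1 : ω ^ q * ω = 1 := by
      rw [← pow_succ, hk, pow_mul]
      have : ω ^ 3 = 1 := by linear_combination hω3
      rw [this, one_pow]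
    calc ω ^ q = ω ^ q * (ω * ω * ω) := by rw [hω3, mul_one]
      _ = (ω ^ q * ω) * (ω * ω) := by ring
      _ = ω * ω := by rw [h1, one_mul]
  obtain ⟨e, he⟩ : ∃ e : Fin 3 → (Fin 3 → F), e = fun i => (Q : Matrix (Fin 3) (Fin 3) F) *ᵥ Pi.single i 1 := ⟨_, rfl⟩
  have hei : ∀ i, (Q : Matrix (Fin 3) (Fin 3) F) *ᵥ Pi.single i 1 = e i := fun i => by rw [he]
  have haI := iso_of_mem (hRU H.ha)
  have hbI := iso_of_mem (hRU H.hb)
  have ha : ∀ i, (a : Matrix (Fin 3) (Fin 3) F) *ᵥ e i = (![1, ω, ω * ω] : Fin 3 → F) i • e i := by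
    intro i
    rw [← hei, Matrix.mulVec_mulVec, H.aQ, ← Matrix.mulVec_mulVec, ← Matrix.mulVec_smul, A0]
    congr 1
    ext k
    rw [Matrix.mulVec_diagonal, Pi.smul_apply, smul_eq_mul]
    by_cases hik : k = i
    · rw [hik]
    · rw [Pi.single_eq_of_ne hik, mul_zero, mul_zero]
  have hb0 : (b : Matrix (Fin 3) (Fin 3) F) *ᵥ e 0 = e 1 := by
    rw [← hei, Matrix.mulVec_mulVec, H.bQ, ← Matrix.mulVec_mulVec, ← hei, C0_mulVec]
    congr 1; ext l; fin_cases l <;> simp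
  have hb1 : (b : Matrix (Fin 3) (Fin 3) F) *ᵥ e 1 = e 2 := by
    rw [← hei, Matrix.mulVec_mulVec, H.bQ, ← Matrix.mulVec_mulVec, ← hei, C0_mulVec]
    congr 1; ext l; fin_cases l <;> simp
  obtain ⟨c, hc⟩ : ∃ c, c = hermForm 3 F q (e 0) (e 0) := ⟨_, rfl⟩
  have h00 : hermForm 3 F q (e 0) (e 0) = c := hc.symm
  have h11 : hermForm 3 F q (e 1) (e 1) = c := by rw [← hb0, hbI, hc]
  have h22 : hermForm 3 F q (e 2) (e 2) = c := by rw [← hb1, hbI, h11]
  have hne : ∀ i j, (![1, ω, ω * ω] : Fin 3 → F) i * (![1, ω, ω * ω] : Fin 3 → F) j ^ q ≠ 1 →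
      hermForm 3 F q (e i) (e j) = 0 := fun i j h => herm_eig haI (ha i) (ha j) h
  have hgram : stU hF (Q : Matrix (Fin 3) (Fin 3) F) * Q = c • (1 : Matrix (Fin 3) (Fin 3) F) := by
    apply gram_eq hF hei
    intro i j
    fin_cases i <;> fin_cases j
    · exact h00.trans (by simp)
    · exact (hne 1 0 (by simpa using hω1)).trans (by simp)
    · exact (hne 2 0 (by simpa using hω2)).trans (by simp)
    · exact (hne 0 1 (by
        change 1 * ω ^ q ≠ 1
        rw [hωq, one_mul]; exact hω2)).trans (by simp)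
    · exact h11.trans (by simp)
    · exact (hne 2 1 (by
        change (ω * ω) * ω ^ q ≠ 1
        rw [hωq]
        intro h
        exact hω1 (by linear_combination h - ω * hω3))).trans (by simp)
    · exact (hne 0 2 (by
        change 1 * (ω * ω) ^ q ≠ 1
        rw [mul_pow, hωq, one_mul]
        intro h
        exact hω1 (by linear_combination h - ω * hω3))).trans (by simp)
    · exact (hne 1 2 (by
        change ω * (ω * ω) ^ q ≠ 1
        rw [mul_pow, hωq]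
        intro h
        exact hω2 (by linear_combination h - ω * ω * hω3))).trans (by simp)
    · exact h22.trans (by simp)
  have hc0 : c ≠ 0 := by
    rintro rfl
    rw [zero_smul] at hgram
    have h1 := congrArg Matrix.det hgram
    rw [Matrix.det_mul, Matrix.det_zero] at h1
    rcases mul_eq_zero.1 h1 with h | h
    · have h2 : (stU hF (Q : Matrix (Fin 3) (Fin 3) F)).det = ((Q : Matrix (Fin 3) (Fin 3) F).det) ^ q := by
        rw [stU, Matrix.det_transpose, ← conj_apply hF, RingEquiv.map_det]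
        rfl
      rw [h2, pow_q_eq_zero hF] at h
      exact det_ne Q h
    · exact det_ne Q h
  have hcq : c ^ q = c := by rw [hc, herm_self_pow hF]
  obtain ⟨μ, hμ0, hμ⟩ := exists_norm_eq_ne hF hcq hc0
  obtain ⟨m, -, hm⟩ := (Amb.top (F := F) 3).diag (fun _ => μ⁻¹) (fun _ => inv_ne_zero hμ0)
  rw [← Matrix.smul_one_eq_diagonal] at hm
  have hmQ : ((m * Q : GL (Fin 3) F) : Matrix (Fin 3) (Fin 3) F) = μ⁻¹ • (Q : Matrix (Fin 3) (Fin 3) F) := by
    rw [Units.val_mul, hm, Matrix.smul_mul, Matrix.one_mul]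
  refine ⟨m * Q, ?_, ⟨hω, H.ha, H.hb, ?_, ?_, H.gen⟩⟩
  · rw [(stU_star hF).mem, hmQ]
    have h1 : stU hF (μ⁻¹ • (Q : Matrix (Fin 3) (Fin 3) F)) = (μ⁻¹) ^ q • stU hF (Q : Matrix (Fin 3) (Fin 3) F) := by
      ext i k
      rw [stU_apply, Matrix.smul_apply, Matrix.smul_apply, stU_apply, smul_eq_mul, smul_eq_mul, mul_pow]
    rw [h1, smul_mul_smul_comm, hgram, smul_smul, ← hμ, inv_pow]
    have : μ ^ q ≠ 0 := pow_ne_zero _ hμ0
    have h4 : (μ ^ q)⁻¹ * μ⁻¹ * (μ * μ ^ q) = 1 := by field_simp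
    rw [h4, one_smul]
  · rw [hmQ, Matrix.mul_smul, H.aQ, Matrix.smul_mul]
  · rw [hmQ, Matrix.mul_smul, H.bQ, Matrix.smul_mul]

theorem A0_eq (ω : F) : A0 ω = !![1, 0, 0; 0, ω, 0; 0, 0, ω * ω] := by
  ext i j
  fin_cases i <;> fin_cases j <;> simp [A0]

theorem A0_C0 {ω : F} (hω : ω * ω + ω + 1 = 0) : A0 ω * C0 = ω • (C0 * A0 ω) := by
  have hω3 : ω * (ω * ω) = 1 := by linear_combination (ω - 1) * hω
  rw [A0_eq]
  ext i j
  fin_cases i <;> fin_cases j <;> simp [C0, Matrix.mul_apply, Fin.sum_univ_three, hω3]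

section Norm

variable {R : Subgroup (GL (Fin 3) F)} {Q a b : GL (Fin 3) F} {ω : F} (H : Heis R Q a b ω)
include H

theorem Heis.mem_normalizer [Finite R] {y a' b' : GL (Fin 3) F} (ha' : a' ∈ R) (hb' : b' ∈ R)
    (ha : y * a = a' * y) (hb : y * b = b' * y) : y ∈ subgroupNormalizer R := by
  apply mem_normalizer_of_gens H.gen
  rintro t (rfl | ht)
  · rwa [ha, mul_inv_cancel_right]
  · rw [Set.mem_singleton_iff] at ht
    rw [ht, hb, mul_inv_cancel_right]
    exact hb'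

omit H in
/-- equations between words can be checked in the frame -/
theorem Heis.eq_of_frame {x y : GL (Fin 3) F} (h : (x : Matrix (Fin 3) (Fin 3) F) * (Q : Matrix (Fin 3) (Fin 3) F) =
    (y : Matrix (Fin 3) (Fin 3) F) * (Q : Matrix (Fin 3) (Fin 3) F)) : x = y := by
  have h1 : x * Q = y * Q := m_ext h
  exact mul_right_cancel h1

/-- the commutator is the scalar `ω` -/
theorem Heis.comm : ∃ z ∈ R, (z : Matrix (Fin 3) (Fin 3) F) = ω • (1 : Matrix (Fin 3) (Fin 3) F) := by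
  refine ⟨a * b * (b * a)⁻¹, R.mul_mem (R.mul_mem H.ha H.hb) (R.inv_mem (R.mul_mem H.hb H.ha)), ?_⟩
  have h1 : ((a * b : GL (Fin 3) F) : Matrix (Fin 3) (Fin 3) F) = ω • ((b * a : GL (Fin 3) F) : Matrix (Fin 3) (Fin 3) F) := by
    have h2 : ((a * b : GL (Fin 3) F) : Matrix (Fin 3) (Fin 3) F) * (Q : Matrix (Fin 3) (Fin 3) F) =
        (ω • ((b * a : GL (Fin 3) F) : Matrix (Fin 3) (Fin 3) F)) * (Q : Matrix (Fin 3) (Fin 3) F) := by
      rw [Units.val_mul, Units.val_mul, Matrix.mul_assoc, H.bQ, ← Matrix.mul_assoc, H.aQ, Matrix.smul_mul,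
        Matrix.mul_assoc (b : Matrix (Fin 3) (Fin 3) F), H.aQ, ← Matrix.mul_assoc, H.bQ, Matrix.mul_assoc, Matrix.mul_assoc,
        ← Matrix.mul_smul]
      rw [A0_C0 H.hω]
    calc ((a * b : GL (Fin 3) F) : Matrix (Fin 3) (Fin 3) F) = ((a * b : GL (Fin 3) F) : Matrix (Fin 3) (Fin 3) F) *
          (Q : Matrix (Fin 3) (Fin 3) F) * ((Q⁻¹ : GL (Fin 3) F) : Matrix (Fin 3) (Fin 3) F) := by
          rw [Matrix.mul_assoc, ← Units.val_mul Q, mul_inv_cancel, Units.val_one, Matrix.mul_one]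
      _ = _ := by rw [h2, Matrix.mul_assoc, ← Units.val_mul Q, mul_inv_cancel, Units.val_one, Matrix.mul_one]
  rw [Units.val_mul, h1, Matrix.smul_mul, ← Units.val_mul, mul_inv_cancel, Units.val_one]

/-- a matrix commuting with `R` is scalar -/
theorem Heis.scalar_of_comm (h3 : (3 : F) ≠ 0) {y : GL (Fin 3) F} (hya : y * a = a * y) (hyb : y * b = b * y) :
    y ∈ scalars (Fin 3) F := by
  obtain ⟨hω1, hω2, hω12, hω0⟩ := omega_ne h3 H.hω
  -- work in the frame
  obtain ⟨Y, hY⟩ : ∃ Y : Matrix (Fin 3) (Fin 3) F, Y = ((Q⁻¹ * y * Q : GL (Fin 3) F) : Matrix (Fin 3) (Fin 3) F) := ⟨_, rfl⟩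
  have e1 := conj_coe H.aQ
  have e2 := conj_coe H.bQ
  have f1 : Y * A0 ω = A0 ω * Y := by
    rw [hY, ← e1, ← Units.val_mul, ← Units.val_mul]
    congr 1
    calc Q⁻¹ * y * Q * (Q⁻¹ * a * Q) = Q⁻¹ * (y * a) * Q := by group
      _ = Q⁻¹ * a * Q * (Q⁻¹ * y * Q) := by rw [hya]; group
  have f2 : Y * C0 = C0 * Y := by
    rw [hY, ← e2, ← Units.val_mul, ← Units.val_mul]
    congr 1
    calc Q⁻¹ * y * Q * (Q⁻¹ * b * Q) = Q⁻¹ * (y * b) * Q := by group
      _ = Q⁻¹ * b * Q * (Q⁻¹ * y * Q) := by rw [hyb]; group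
  have g : ∀ i j, Y i j * (![1, ω, ω * ω] : Fin 3 → F) j = (![1, ω, ω * ω] : Fin 3 → F) i * Y i j := by
    intro i j
    have h := congrFun (congrFun f1 i) j
    rwa [A0, Matrix.mul_diagonal, Matrix.diagonal_mul] at h
  have g01 : Y 0 1 * ω = 1 * Y 0 1 := g 0 1
  have g02 : Y 0 2 * (ω * ω) = 1 * Y 0 2 := g 0 2
  have g10 : Y 1 0 * 1 = ω * Y 1 0 := g 1 0
  have g12 : Y 1 2 * (ω * ω) = ω * Y 1 2 := g 1 2
  have g20 : Y 2 0 * 1 = (ω * ω) * Y 2 0 := g 2 0
  have g21 : Y 2 1 * ω = (ω * ω) * Y 2 1 := g 2 1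
  have k10 := congrFun (congrFun f2 1) 0
  have k21 := congrFun (congrFun f2 2) 1
  simp [C0, Matrix.mul_apply, Fin.sum_univ_three] at k10 k21
  have z01 : Y 0 1 = 0 := by
    have : (ω - 1) * Y 0 1 = 0 := by linear_combination g01
    exact (mul_eq_zero.1 this).resolve_left (sub_ne_zero.2 hω1)
  have z02 : Y 0 2 = 0 := by
    have : (ω * ω - 1) * Y 0 2 = 0 := by linear_combination g02
    exact (mul_eq_zero.1 this).resolve_left (sub_ne_zero.2 hω2)
  have z10 : Y 1 0 = 0 := by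
    have : (ω - 1) * Y 1 0 = 0 := by linear_combination -g10
    exact (mul_eq_zero.1 this).resolve_left (sub_ne_zero.2 hω1)
  have z12 : Y 1 2 = 0 := by
    have : (ω - ω * ω) * Y 1 2 = 0 := by linear_combination -g12
    exact (mul_eq_zero.1 this).resolve_left (sub_ne_zero.2 hω12)
  have z20 : Y 2 0 = 0 := by
    have : (ω * ω - 1) * Y 2 0 = 0 := by linear_combination -g20
    exact (mul_eq_zero.1 this).resolve_left (sub_ne_zero.2 hω2)
  have z21 : Y 2 1 = 0 := by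
    have : (ω - ω * ω) * Y 2 1 = 0 := by linear_combination g21
    exact (mul_eq_zero.1 this).resolve_left (sub_ne_zero.2 hω12)
  have hYs : Y = Y 0 0 • (1 : Matrix (Fin 3) (Fin 3) F) := by
    ext i j
    fin_cases i <;> fin_cases j <;> simp [z01, z02, z10, z12, z20, z21, k10, k21]
  have hconj : y = Q * (Q⁻¹ * y * Q) * Q⁻¹ := by group
  rw [hconj]
  have hs : Q⁻¹ * y * Q ∈ scalars (Fin 3) F := (mem_scalars_iff' _).2 ⟨Y 0 0, by rw [← hY]; exact hYs⟩
  rw [← comm_of_scalar hs, mul_inv_cancel_right]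
  exact hs

end Norm

end Cfsg.Agent.H960
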