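import Cfsg.Agent.H960.Fix
import Cfsg.Agent.H921.SympDim

/-!
Structure of an absolutely irreducible group of symplectic type of order `16 |Z|` (H960): generators
`u, v, s, t` with `u² = v² = 1`, `s² = t² = -1`, `uv = -vu`, `st = -ts`, all other pairs commuting.
-/

set_option autoImplicit false
open Cfsg Cfsg.Geo Matrix
open scoped MatrixGroups

namespace Cfsg.Agent.H960

variable {ι : Type} [Fintype ι] [DecidableEq ι] {F : Type*} [Field F]

/-- The abstract situation: commutators and squares are `± 1`, `|R| = 16 |Z|`. -/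
structure Ext (R : Subgroup (GL ι F)) : Prop where
  fin : Finite R
  two : (2 : F) ≠ 0
  ne : Nonempty ι
  comm : ∀ x ∈ R, ∀ y ∈ R, x * y = y * x ∨ x * y = -(y * x)
  sq : ∀ x ∈ R, x * x = 1 ∨ x * x = -1
  c1 : Comm1 R
  card : Nat.card R = 16 * Nat.card (R ⊓ scalars ι F : Subgroup (GL ι F))
  neg : (-1 : GL ι F) ∈ R

theorem neg_ne [Nonempty ι] (h2 : (2 : F) ≠ 0) (x : GL ι F) : -x ≠ x := by
  intro h
  have h1 : (-1 : GL ι F) = 1 := by
    have h3 : -x * x⁻¹ = x * x⁻¹ := by rw [h]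
    rwa [neg_mul, mul_inv_cancel] at h3
  have h3 := congrArg (fun g : GL ι F => (g : Matrix ι ι F)) h1
  obtain ⟨i⟩ := (inferInstance : Nonempty ι)
  have h4 := congrFun (congrFun h3 i) i
  simp only [Units.val_neg, Units.val_one, Matrix.neg_apply, Matrix.one_apply_eq] at h4
  apply h2
  linear_combination -h4

theorem comm_of_scalar {z : GL ι F} (hz : z ∈ scalars ι F) (g : GL ι F) : z * g = g * z := by
  rw [mem_scalars_iff] at hz
  obtain ⟨c, hc⟩ := hz
  apply Units.ext
  rw [Units.val_mul, Units.val_mul, hc, Matrix.smul_mul, Matrix.one_mul, Matrix.mul_smul, Matrix.mul_one]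

theorem scalar_of_comm {R : Subgroup (GL ι F)} (h : Comm1 R) [Nonempty ι] {g : GL ι F}
    (hg : ∀ s ∈ R, g * s = s * g) : g ∈ scalars ι F := by
  obtain ⟨c, hc⟩ := h (g : Matrix ι ι F) (fun s hs => by
    rw [← Units.val_mul, ← Units.val_mul, hg s hs])
  rw [mem_scalars_iff]
  have hc0 : c ≠ 0 := by
    rintro rfl
    rw [zero_smul] at hc
    exact Units.ne_zero g hc
  exact ⟨Units.mk0 c hc0, by rw [hc]; rfl⟩

/-- `|K| = 2 |C_K(g)|` -/
theorem card_two_mul {K : Subgroup (GL ι F)} [Finite K] {g : GL ι F}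
    (h : ∀ k ∈ K, k * g = g * k ∨ k * g = -(g * k)) {k0 : GL ι F} (hk0 : k0 ∈ K) (hk0g : k0 * g ≠ g * k0) :
    Nat.card K = 2 * Nat.card (CR K g) := by
  set S : Set (GL ι F) := {k | k ∈ K ∧ k * g ≠ g * k} with hSdef
  have hSfin : S.Finite := (Set.toFinite (K : Set (GL ι F))).subset (fun x hx => hx.1)
  have h2 := (h k0 hk0).resolve_left hk0g
  have h2' : k0⁻¹ * g = -(g * k0⁻¹) := by
    have h3 : k0⁻¹ * (k0 * g) * k0⁻¹ = k0⁻¹ * (-(g * k0)) * k0⁻¹ := by rw [h2]
    have h4 : k0⁻¹ * (k0 * g) * k0⁻¹ = g * k0⁻¹ := by group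
    have h5 : k0⁻¹ * (-(g * k0)) * k0⁻¹ = -(k0⁻¹ * g) := by
      rw [mul_neg, neg_mul]; group
    rw [h4, h5] at h3
    rw [h3, neg_neg]
  have hSD : Nat.card S = Nat.card (CR K g) := by
    apply Nat.card_congr
    refine
      { toFun := fun k => ⟨k0⁻¹ * k.1, mem_CR.2 ⟨K.mul_mem (K.inv_mem hk0) k.2.1, ?_⟩⟩
        invFun := fun k => ⟨k0 * k.1, K.mul_mem hk0 (CR_le k.2), ?_⟩
        left_inv := fun k => by simp
        right_inv := fun k => by simp }
    · have h1 := (h k.1 k.2.1).resolve_left k.2.2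
      calc k0⁻¹ * k.1 * g = k0⁻¹ * (k.1 * g) := by group
        _ = -((k0⁻¹ * g) * k.1) := by rw [h1, mul_neg, mul_assoc]
        _ = g * (k0⁻¹ * k.1) := by rw [h2', neg_mul, neg_neg, mul_assoc]
    · intro hcon
      apply hk0g
      have h1 := (mem_CR.1 k.2).2
      have h2 : k0 * k.1 * g = (k0 * g) * k.1 := by rw [mul_assoc, h1]; group
      rw [h2, ← mul_assoc] at hcon
      exact mul_right_cancel hcon
  have hunion : (K : Set (GL ι F)) = S ∪ (CR K g : Set (GL ι F)) := by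
    ext h
    simp only [SetLike.mem_coe, Set.mem_union, hSdef, Set.mem_ofPred_eq, mem_CR]
    tauto
  have hdis : Disjoint S (CR K g : Set (GL ι F)) := by
    rw [Set.disjoint_left]
    intro h hh hh2
    exact hh.2 (mem_CR.1 hh2).2
  have h1 := Set.ncard_union_eq hdis hSfin ((Set.toFinite (K : Set (GL ι F))).subset CR_le)
  rw [← hunion] at h1
  rw [← Nat.card_coe_set_eq, ← Nat.card_coe_set_eq, ← Nat.card_coe_set_eq] at h1
  change Nat.card K = Nat.card S + Nat.card (CR K g) at h1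
  rw [h1, hSD]; ring

namespace Ext

variable {R : Subgroup (GL ι F)}

/-- non-scalar elements anticommute with something -/
theorem exists_anti (E : Ext R) {g : GL ι F} (hg : g ∈ R) (hgs : g ∉ scalars ι F) :
    ∃ h ∈ R, h * g = -(g * h) := by
  have := E.ne
  by_contra hcon
  push Not at hcon
  apply hgs
  apply scalar_of_comm E.c1
  intro s hs
  rcases E.comm s hs g hg with h | h
  · exact h.symm
  · exact absurd h (hcon s hs)

theorem not_scalar_of_anti (E : Ext R) {g h : GL ι F} (hgh : h * g = -(g * h)) : g ∉ scalars ι F := by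
  have := E.ne
  intro hs
  rw [comm_of_scalar hs h] at hgh
  exact neg_ne E.two _ hgh.symm

theorem anti_symm {g h : GL ι F} (hgh : h * g = -(g * h)) : g * h = -(h * g) := by rw [hgh, neg_neg]

theorem anti_ne (E : Ext R) {g h : GL ι F} (hgh : h * g = -(g * h)) : h * g ≠ g * h := by
  have := E.ne
  rw [hgh]; exact neg_ne E.two _

/-- correcting an element to commute with an anticommuting pair `g, h` -/
theorem exists_correct (E : Ext R) {g h x : GL ι F} (hg : g ∈ R) (hh : h ∈ R) (hx : x ∈ R)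
    (hgh : h * g = -(g * h)) :
    ∃ w ∈ R, (w = 1 ∨ w = g ∨ w = h ∨ w = g * h) ∧ (w * x) * g = g * (w * x) ∧ (w * x) * h = h * (w * x) := by
  have hhg := anti_symm hgh
  rcases E.comm x hx g hg with h1 | h1 <;> rcases E.comm x hx h hh with h2 | h2
  · exact ⟨1, R.one_mem, Or.inl rfl, by simpa using h1, by simpa using h2⟩
  · refine ⟨g, hg, Or.inr (Or.inl rfl), ?_, ?_⟩
    · rw [mul_assoc, h1]
    · rw [mul_assoc, h2, mul_neg, ← mul_assoc, hhg, neg_mul, neg_neg, mul_assoc]
  · refine ⟨h, hh, Or.inr (Or.inr (Or.inl rfl)), ?_, ?_⟩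
    · rw [mul_assoc, h1, mul_neg, ← mul_assoc, hgh, neg_mul, neg_neg, mul_assoc]
    · rw [mul_assoc, h2]
  · refine ⟨g * h, R.mul_mem hg hh, Or.inr (Or.inr (Or.inr rfl)), ?_, ?_⟩
    · calc g * h * x * g = g * h * (x * g) := by group
        _ = -(g * h * (g * x)) := by rw [h1, mul_neg]
        _ = -(g * (h * g) * x) := by group
        _ = g * (g * h * x) := by rw [hgh]; simp only [mul_neg, neg_mul, neg_neg, mul_assoc]
    · calc g * h * x * h = g * h * (x * h) := by group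
        _ = -(g * h * (h * x)) := by rw [h2, mul_neg]
        _ = -((g * h) * (h * x)) := rfl
        _ = -((-(h * g)) * (h * x)) := by rw [← hhg]
        _ = h * (g * h * x) := by simp only [neg_mul, neg_neg, mul_assoc]

theorem card_CR2 (E : Ext R) {g h : GL ι F} (hg : g ∈ R) (hh : h ∈ R) (hgh : h * g = -(g * h)) :
    Nat.card R = 4 * Nat.card (CR (CR R g) h) := by
  have := E.fin
  have : Finite (CR R g) := Finite.of_injective _ (Subgroup.inclusion_injective (CR_le (R := R) (y := g)))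
  have h1 := card_two_mul (K := R) (g := g) (fun k hk => E.comm k hk g hg) hh (E.anti_ne hgh)
  have h2 := card_two_mul (K := CR R g) (g := h) (fun k hk => E.comm k (CR_le hk) h hh)
    (k0 := g) (mem_CR.2 ⟨hg, rfl⟩) (E.anti_ne (anti_symm hgh))
  rw [h1, h2]; ring

/-- the second pair -/
theorem exists_second (E : Ext R) {g h : GL ι F} (hg : g ∈ R) (hh : h ∈ R) (hgh : h * g = -(g * h)) :
    ∃ s ∈ R, ∃ t ∈ R, s * t = -(t * s) ∧ s * g = g * s ∧ s * h = h * s ∧ t * g = g * t ∧ t * h = h * t := by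
  have := E.fin
  have hne := E.ne
  have h4 := E.card_CR2 hg hh hgh
  rw [E.card] at h4
  have hZpos : 0 < Nat.card (R ⊓ scalars ι F : Subgroup (GL ι F)) := by
    have : Finite (R ⊓ scalars ι F : Subgroup (GL ι F)) :=
      Finite.of_injective _ (Subgroup.inclusion_injective (inf_le_left : R ⊓ scalars ι F ≤ R))
    exact Nat.card_pos
  have hex : ∃ c ∈ CR (CR R g) h, c ∉ R ⊓ scalars ι F := by
    by_contra hcon
    push Not at hcon
    have hle : CR (CR R g) h ≤ R ⊓ scalars ι F := hcon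
    have : Finite (R ⊓ scalars ι F : Subgroup (GL ι F)) :=
      Finite.of_injective _ (Subgroup.inclusion_injective (inf_le_left : R ⊓ scalars ι F ≤ R))
    have h5 := Subgroup.card_le_of_le hle
    omega
  obtain ⟨c, hc, hcs⟩ := hex
  have hcR : c ∈ R := CR_le (CR_le hc)
  have hcg : c * g = g * c := (mem_CR.1 (CR_le hc)).2
  have hch : c * h = h * c := (mem_CR.1 hc).2
  obtain ⟨x, hx, hxc⟩ := E.exists_anti hcR (fun h => hcs ⟨hcR, h⟩)
  obtain ⟨w, hw, hw4, hwg, hwh⟩ := E.exists_correct hg hh hx hgh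
  refine ⟨c, hcR, w * x, R.mul_mem hw hx, ?_, hcg, hch, hwg, hwh⟩
  have hcw : c * w = w * c := by
    rcases hw4 with rfl | rfl | rfl | rfl
    · simp
    · exact hcg
    · exact hch
    · rw [← mul_assoc, hcg, mul_assoc, hch, mul_assoc]
  rw [← mul_assoc, hcw, mul_assoc, anti_symm hxc, mul_neg, mul_assoc]

end Ext

/-- The standard generators. -/
structure Pauli (R : Subgroup (GL ι F)) (u v s t : GL ι F) : Prop where
  hu : u ∈ R
  hv : v ∈ R
  hs : s ∈ R
  ht : t ∈ R
  uu : u * u = 1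
  vv : v * v = 1
  ss : s * s = -1
  tt : t * t = -1
  vu : v * u = -(u * v)
  ts : t * s = -(s * t)
  su : s * u = u * s
  sv : s * v = v * s
  tu : t * u = u * t
  tv : t * v = v * t
  gen : ∀ g ∈ R, g ∈ Subgroup.closure ({u, v, s, t} ∪ ((R ⊓ scalars ι F : Subgroup (GL ι F)) : Set (GL ι F)))

/-- The generation statement for two commuting anticommuting pairs. -/
theorem Ext.gen {R : Subgroup (GL ι F)} (E : Ext R) {u v s t : GL ι F} (hu : u ∈ R) (hv : v ∈ R) (hs : s ∈ R)
    (ht : t ∈ R) (vu : v * u = -(u * v)) (ts : t * s = -(s * t)) (su : s * u = u * s)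
    (sv : s * v = v * s) (tu : t * u = u * t) (tv : t * v = v * t) :
    ∀ g ∈ R, g ∈ Subgroup.closure ({u, v, s, t} ∪ ((R ⊓ scalars ι F : Subgroup (GL ι F)) : Set (GL ι F))) := by
  have := E.fin
  have hne := E.ne
  have hfin : ∀ K : Subgroup (GL ι F), K ≤ R → Finite K := fun K hK =>
    Finite.of_injective _ (Subgroup.inclusion_injective hK)
  set C2 := CR (CR R u) v with hC2
  have hC2R : C2 ≤ R := CR_le.trans CR_le
  have := hfin C2 hC2R
  have hsC : s ∈ C2 := mem_CR.2 ⟨mem_CR.2 ⟨hs, su⟩, sv⟩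
  have htC : t ∈ C2 := mem_CR.2 ⟨mem_CR.2 ⟨ht, tu⟩, tv⟩
  have h4 := E.card_CR2 hu hv vu
  have h5 := card_two_mul (K := C2) (g := s) (fun k hk => E.comm k (hC2R hk) s hs) htC (E.anti_ne ts)
  have hC3R : CR C2 s ≤ R := CR_le.trans hC2R
  have := hfin _ hC3R
  have h6 := card_two_mul (K := CR C2 s) (g := t) (fun k hk => E.comm k (hC3R hk) t ht)
    (k0 := s) (mem_CR.2 ⟨hsC, rfl⟩) (E.anti_ne (Ext.anti_symm ts))
  have hC4R : CR (CR C2 s) t ≤ R := CR_le.trans hC3R
  have := hfin _ hC4R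
  have hZC : R ⊓ scalars ι F ≤ CR (CR C2 s) t := by
    intro z hz
    exact mem_CR.2 ⟨mem_CR.2 ⟨mem_CR.2 ⟨mem_CR.2 ⟨hz.1, comm_of_scalar hz.2 _⟩, comm_of_scalar hz.2 _⟩,
      comm_of_scalar hz.2 _⟩, comm_of_scalar hz.2 _⟩
  have hZeq : R ⊓ scalars ι F = CR (CR C2 s) t := by
    apply Subgroup.eq_of_le_of_card_ge hZC
    have := E.card
    rw [← hC2] at h4
    omega
  set T := Subgroup.closure ({u, v, s, t} ∪ ((R ⊓ scalars ι F : Subgroup (GL ι F)) : Set (GL ι F))) with hT
  have huT : u ∈ T := Subgroup.subset_closure (Or.inl (by simp))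
  have hvT : v ∈ T := Subgroup.subset_closure (Or.inl (by simp))
  have hsT : s ∈ T := Subgroup.subset_closure (Or.inl (by simp))
  have htT : t ∈ T := Subgroup.subset_closure (Or.inl (by simp))
  have hZT : ∀ z ∈ R ⊓ scalars ι F, z ∈ T := fun z hz => Subgroup.subset_closure (Or.inr hz)
  intro g hg
  obtain ⟨w, hw, hw4, hwu, hwv⟩ := E.exists_correct hu hv hg vu
  obtain ⟨w', hw', hw4', hwu', hwv'⟩ := E.exists_correct hs ht (R.mul_mem hw hg) ts
  have hwT : w ∈ T := by
    rcases hw4 with rfl | rfl | rfl | rfl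
    · exact T.one_mem
    · exact huT
    · exact hvT
    · exact T.mul_mem huT hvT
  have hwT' : w' ∈ T := by
    rcases hw4' with rfl | rfl | rfl | rfl
    · exact T.one_mem
    · exact hsT
    · exact htT
    · exact T.mul_mem hsT htT
  have hwu2 : w' * u = u * w' := by
    rcases hw4' with rfl | rfl | rfl | rfl
    · simp
    · exact su
    · exact tu
    · rw [mul_assoc, tu, ← mul_assoc, su, mul_assoc]
  have hwv2 : w' * v = v * w' := by
    rcases hw4' with rfl | rfl | rfl | rfl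
    · simp
    · exact sv
    · exact tv
    · rw [mul_assoc, tv, ← mul_assoc, sv, mul_assoc]
  have hmem : w' * (w * g) ∈ CR (CR C2 s) t := by
    refine mem_CR.2 ⟨mem_CR.2 ⟨mem_CR.2 ⟨mem_CR.2 ⟨R.mul_mem hw' (R.mul_mem hw hg), ?_⟩, ?_⟩, hwu'⟩, hwv'⟩
    · rw [mul_assoc, hwu, ← mul_assoc, hwu2, mul_assoc]
    · rw [mul_assoc, hwv, ← mul_assoc, hwv2, mul_assoc]
  rw [← hZeq] at hmem
  have h7 := hZT _ hmem
  have h8 : g = w⁻¹ * (w'⁻¹ * (w' * (w * g))) := by group
  rw [h8]
  exact T.mul_mem (T.inv_mem hwT) (T.mul_mem (T.inv_mem hwT') h7)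

end Cfsg.Agent.H960
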