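import Cfsg.Agent.H960.Pauli

/-!
Existence of the standard generators (H960).
-/

set_option autoImplicit false
open Cfsg Cfsg.Geo Matrix
open scoped MatrixGroups

namespace Cfsg.Agent.H960

variable {ι : Type} [Fintype ι] [DecidableEq ι] {F : Type*} [Field F]

theorem mem_center_iff_scalar [Nonempty ι] {R : Subgroup (GL ι F)} (h : Comm1 R) (z : R) :
    z ∈ Subgroup.center R ↔ (z : GL ι F) ∈ scalars ι F := by
  constructor
  · intro hz
    apply scalar_of_comm h
    intro s hs
    have := (Subgroup.mem_center_iff.1 hz) ⟨s, hs⟩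
    exact (congrArg Subtype.val this).symm
  · intro hz
    rw [Subgroup.mem_center_iff]
    intro g
    exact Subtype.ext (comm_of_scalar hz _).symm

theorem card_center_eq [Nonempty ι] {R : Subgroup (GL ι F)} (h : Comm1 R) :
    Nat.card (Subgroup.center R) = Nat.card (R ⊓ scalars ι F : Subgroup (GL ι F)) := by
  apply Nat.card_congr
  exact
    { toFun := fun z => ⟨z.1.1, z.1.2, (mem_center_iff_scalar h z.1).1 z.2⟩
      invFun := fun z => ⟨⟨z.1, z.2.1⟩, (mem_center_iff_scalar h ⟨z.1, z.2.1⟩).2 z.2.2⟩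
      left_inv := fun z => rfl
      right_inv := fun z => rfl }

/-- The abstract situation from symplectic type. -/
theorem ext_of_symplectic [Nonempty ι] {R : Subgroup (GL ι F)} [Finite R] (h2 : (2 : F) ≠ 0)
    (hRs : IsSymplecticTypeGroup 2 R) (hRi : ActsAbsolutelyIrreducibly (matrixSet R))
    (hcard : Nat.card R = 16 * Nat.card (Subgroup.center R)) (hZ : 2 ∣ Nat.card (Subgroup.center R)) :
    Ext R := by
  have hc1 := comm1_of_absIrr hRi
  have hexp : Monoid.exponent R = 4 := by rw [hRs.exponent_eq]; norm_num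
  have h4 : ∀ q : R, q ^ 4 = 1 := fun q => by rw [← hexp]; exact Monoid.pow_exponent_eq_one q
  have hfact : Fact (Nat.Prime 2) := ⟨Nat.prime_two⟩
  obtain ⟨z, hz⟩ := exists_prime_orderOf_dvd_card' (G := Subgroup.center R) 2 hZ
  have hz2 : orderOf (z : R) = 2 := by rw [Subgroup.orderOf_coe, hz]
  have hst := Cfsg.Agent.ClassificationK.SymplecticExpFour.structure_exp_four
    ⟨hRs.pGroup, hRs.cyclic_of_characteristic⟩ h4 hz2 z.2
  -- `z = -1`
  have hzneg : ((z : R) : GL ι F) = -1 := by
    obtain ⟨c, hc⟩ := (mem_scalars_iff _).1 ((mem_center_iff_scalar hc1 z.1).1 z.2)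
    have h3 : (z : R) ^ 2 = 1 := by rw [← hz2]; exact pow_orderOf_eq_one _
    have h4 : ((z : R) : GL ι F) * ((z : R) : GL ι F) = 1 := by
      rw [← pow_two]; exact congrArg Subtype.val h3
    have h5 := congrArg (fun g : GL ι F => (g : Matrix ι ι F)) h4
    simp only [Units.val_mul, Units.val_one, hc, Matrix.smul_mul, Matrix.one_mul, smul_smul] at h5
    obtain ⟨i⟩ := (inferInstance : Nonempty ι)
    have h6 := congrFun (congrFun h5 i) i
    simp only [Matrix.smul_apply, Matrix.one_apply_eq, smul_eq_mul, mul_one] at h6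
    rcases mul_self_eq_one_iff.1 h6 with h7 | h7
    · exfalso
      have h8 : (z : R) = 1 := by
        apply Subtype.ext; apply Units.ext
        rw [hc, h7, one_smul]; rfl
      rw [h8, orderOf_one] at hz2
      omega
    · apply Units.ext
      rw [hc, h7, neg_smul, one_smul]; rfl
  refine ⟨inferInstance, h2, inferInstance, ?_, ?_, hc1, ?_, ?_⟩
  · intro x hx y hy
    rcases hst.1 ⟨x, hx⟩ ⟨y, hy⟩ with h | h
    · left
      rw [commutatorElement_eq_one_iff_mul_comm] at h
      exact congrArg Subtype.val h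
    · right
      rw [commutatorElement_def, mul_inv_eq_iff_eq_mul, mul_inv_eq_iff_eq_mul] at h
      have h3 := congrArg Subtype.val h
      simp only [Subgroup.coe_mul, hzneg] at h3
      rw [h3]; simp
  · intro x hx
    rcases hst.2.1 ⟨x, hx⟩ with h | h
    · left
      rw [← pow_two]; exact congrArg Subtype.val h
    · right
      rw [← pow_two, ← hzneg]; exact congrArg Subtype.val h
  · rw [hcard, card_center_eq hc1]
  · rw [← hzneg]; exact z.1.2

namespace Ext

variable {R : Subgroup (GL ι F)}

theorem card_pos (E : Ext R) : 0 < Nat.card (R ⊓ scalars ι F : Subgroup (GL ι F)) := by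
  have := E.fin
  have : Finite (R ⊓ scalars ι F : Subgroup (GL ι F)) :=
    Finite.of_injective _ (Subgroup.inclusion_injective (inf_le_left : R ⊓ scalars ι F ≤ R))
  exact Nat.card_pos

theorem exists_nonscalar (E : Ext R) : ∃ g ∈ R, g ∉ scalars ι F := by
  by_contra hcon
  push Not at hcon
  have h1 : R ≤ R ⊓ scalars ι F := fun g hg => ⟨hg, hcon g hg⟩
  have := E.fin
  have : Finite (R ⊓ scalars ι F : Subgroup (GL ι F)) :=
    Finite.of_injective _ (Subgroup.inclusion_injective (inf_le_left : R ⊓ scalars ι F ≤ R))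
  have h2 := Subgroup.card_le_of_le h1
  have h3 := E.card
  have h4 := E.card_pos
  omega

/-- If `R` contains a scalar `j` with `j * j = -1`. -/
theorem exists_pauli_of_four (E : Ext R) {j : GL ι F} (hj : j ∈ R) (hjs : j ∈ scalars ι F) (hjj : j * j = -1) :
    ∃ u v s t, Pauli R u v s t := by
  obtain ⟨g, hg, hgs⟩ := E.exists_nonscalar
  obtain ⟨h, hh, hhg⟩ := E.exists_anti hg hgs
  obtain ⟨s, hs, t, ht, hst, hsg, hsh, htg, hth⟩ := E.exists_second hg hh hhg
  have hcj : ∀ x, j * x = x * j := comm_of_scalar hjs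
  have hj' : ∀ x : GL ι F, x * j = j * x := fun x => (hcj x).symm
  have key1 : ∀ x ∈ R, ∃ x' ∈ R, x' * x' = 1 ∧ (x' = x ∨ x' = j * x) := by
    intro x hx
    rcases E.sq x hx with h | h
    · exact ⟨x, hx, h, Or.inl rfl⟩
    · refine ⟨j * x, R.mul_mem hj hx, ?_, Or.inr rfl⟩
      calc j * x * (j * x) = (j * j) * (x * x) := by rw [mul_assoc, ← mul_assoc x, hj' x]; group
        _ = 1 := by rw [hjj, h]; simp
  have key2 : ∀ x ∈ R, ∃ x' ∈ R, x' * x' = -1 ∧ (x' = x ∨ x' = j * x) := by
    intro x hx
    rcases E.sq x hx with h | h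
    · refine ⟨j * x, R.mul_mem hj hx, ?_, Or.inr rfl⟩
      calc j * x * (j * x) = (j * j) * (x * x) := by rw [mul_assoc, ← mul_assoc x, hj' x]; group
        _ = -1 := by rw [hjj, h]; simp
    · exact ⟨x, hx, h, Or.inl rfl⟩
  obtain ⟨u, hu, huu, hu'⟩ := key1 g hg
  obtain ⟨v, hv, hvv, hv'⟩ := key1 h hh
  obtain ⟨s', hs', hss, hs''⟩ := key2 s hs
  obtain ⟨t', ht', htt, ht''⟩ := key2 t ht
  -- transfer of relations
  have cm : ∀ {x y x' y' : GL ι F}, x * y = y * x → (x' = x ∨ x' = j * x) → (y' = y ∨ y' = j * y) →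
      x' * y' = y' * x' := by
    intro x y x' y' hxy hx hy
    rcases hx with rfl | rfl <;> rcases hy with rfl | rfl
    · exact hxy
    · rw [← mul_assoc, hj' x', mul_assoc, hxy, mul_assoc]
    · rw [mul_assoc, hxy, ← mul_assoc, hcj y', mul_assoc]
    · calc j * x * (j * y) = j * (x * j) * y := by group
        _ = j * j * (x * y) := by rw [hj' x]; group
        _ = j * j * (y * x) := by rw [hxy]
        _ = j * (j * y) * x := by group
        _ = j * (y * j) * x := by rw [hcj y]
        _ = j * y * (j * x) := by group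
  have am : ∀ {x y x' y' : GL ι F}, x * y = -(y * x) → (x' = x ∨ x' = j * x) → (y' = y ∨ y' = j * y) →
      x' * y' = -(y' * x') := by
    intro x y x' y' hxy hx hy
    rcases hx with rfl | rfl <;> rcases hy with rfl | rfl
    · exact hxy
    · rw [← mul_assoc, hj' x', mul_assoc, hxy, mul_neg, mul_assoc]
    · rw [mul_assoc, hxy, mul_neg, ← mul_assoc, hcj y', mul_assoc]
    · calc j * x * (j * y) = j * (x * j) * y := by group
        _ = j * j * (x * y) := by rw [hj' x]; group
        _ = -(j * (j * y) * x) := by rw [hxy, mul_neg]; group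
        _ = -(j * (y * j) * x) := by rw [hcj y]
        _ = -(j * y * (j * x)) := by group
  have vu := am hhg hv' hu'
  have ts := am (anti_symm hst) ht'' hs''
  have su := cm hsg hs'' hu'
  have sv := cm hsh hs'' hv'
  have tu := cm htg ht'' hu'
  have tv := cm hth ht'' hv'
  exact ⟨u, v, s', t', hu, hv, hs', ht', huu, hvv, hss, htt, vu, ts, su, sv, tu, tv,
    E.gen hu hv hs' ht' vu ts su sv tu tv⟩

/-- a non-scalar involution -/
theorem exists_involution (E : Ext R) :
    ∃ u ∈ R, u ∉ scalars ι F ∧ u * u = 1 := by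
  have hne := E.ne
  by_contra hcon
  push Not at hcon
  obtain ⟨g, hg, hgs⟩ := E.exists_nonscalar
  obtain ⟨h, hh, hhg⟩ := E.exists_anti hg hgs
  obtain ⟨s, hs, t, ht, hst, hsg, hsh, htg, hth⟩ := E.exists_second hg hh hhg
  have hss : s ∉ scalars ι F := E.not_scalar_of_anti (anti_symm hst)
  have h1 : g * g = -1 := (E.sq g hg).resolve_left (hcon g hg hgs)
  have h2 : s * s = -1 := (E.sq s hs).resolve_left (hcon s hs hss)
  have h3 : s * g * (s * g) = 1 := by
    calc s * g * (s * g) = s * (g * s) * g := by group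
      _ = s * s * (g * g) := by rw [← hsg]; group
      _ = 1 := by rw [h1, h2]; simp
  by_cases h4 : s * g ∈ scalars ι F
  · -- then `g` commutes with `h`
    have h5 : (s * g) * h = h * (s * g) := comm_of_scalar h4 h
    have h6 : s * (g * h) = s * (h * g) := by
      rw [← mul_assoc, h5, ← mul_assoc, ← mul_assoc, hsh]
    exact E.anti_ne hhg (mul_left_cancel h6).symm
  · exact hcon _ (R.mul_mem hs hg) h4 h3

/-- Minus type. -/
theorem exists_pauli_of_minus (E : Ext R) (hm : IsOfMinusType 2 R) : ∃ u v s t, Pauli R u v s t := by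
  have hne := E.ne
  have hfin := E.fin
  have hneg1 : (-1 : GL ι F) ≠ 1 := by
    have := neg_ne E.two (1 : GL ι F)
    simpa using this
  obtain ⟨u, hu, hus, huu⟩ := E.exists_involution
  obtain ⟨v0, hv0, hv0u⟩ := E.exists_anti hu hus
  -- make `v` an involution
  have hv : ∃ v ∈ R, v * v = 1 ∧ v * u = -(u * v) := by
    rcases E.sq v0 hv0 with h | h
    · exact ⟨v0, hv0, h, hv0u⟩
    · refine ⟨u * v0, R.mul_mem hu hv0, ?_, ?_⟩
      · calc u * v0 * (u * v0) = u * (v0 * u) * v0 := by group
          _ = -((u * u) * (v0 * v0)) := by rw [hv0u]; simp only [mul_neg, neg_mul, mul_assoc]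
          _ = 1 := by rw [huu, h]; simp
      · rw [mul_assoc, hv0u, mul_neg]
  obtain ⟨v, hv, hvv, hvu⟩ := hv
  obtain ⟨s, hs, t, ht, hst, hsu, hsv, htu, htv⟩ := E.exists_second hu hv hvu
  -- no non-central involution commutes with `u` and `v`
  have key : ∀ x ∈ R, x * u = u * x → x * v = v * x → x ∉ scalars ι F → x * x = -1 := by
    intro x hx hxu hxv hxs
    refine (E.sq x hx).resolve_left (fun hxx => ?_)
    -- the elementary abelian group generated by `u`, `x`, `-1`
    have hcomm : ∀ a ∈ ({u, x, -1} : Set (GL ι F)), ∀ b ∈ ({u, x, -1} : Set (GL ι F)), a * b = b * a := by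
      intro a ha b hb
      simp only [Set.mem_insert_iff, Set.mem_singleton_iff] at ha hb
      rcases ha with rfl | rfl | rfl <;> rcases hb with rfl | rfl | rfl <;>
        first | rfl | exact hxu | exact hxu.symm | simp
    set A0 := Subgroup.closure ({u, x, -1} : Set (GL ι F)) with hA0
    have hA0R : A0 ≤ R := by
      rw [hA0, Subgroup.closure_le]
      intro a ha
      simp only [Set.mem_insert_iff, Set.mem_singleton_iff] at ha
      rcases ha with rfl | rfl | rfl
      · exact hu
      · exact hx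
      · exact E.neg
    have hA0c : ∀ a ∈ A0, ∀ b ∈ A0, a * b = b * a := by
      have h1 : IsMulCommutative A0 := Subgroup.isMulCommutative_closure (fun a ha b hb => hcomm a ha b hb)
      intro a ha b hb
      have := h1.is_comm.comm ⟨a, ha⟩ ⟨b, hb⟩
      exact congrArg Subtype.val this
    have hA0sq : ∀ a ∈ A0, a * a = 1 := by
      intro a ha
      induction ha using Subgroup.closure_induction with
      | mem a ha =>
        simp only [Set.mem_insert_iff, Set.mem_singleton_iff] at ha
        rcases ha with rfl | rfl | rfl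
        · exact huu
        · exact hxx
        · simp
      | one => simp
      | mul a b ha hb iha ihb =>
        rw [mul_assoc, ← mul_assoc b, hA0c b hb a ha]
        calc a * (a * b * b) = (a * a) * (b * b) := by group
          _ = 1 := by rw [iha, ihb, one_mul]
      | inv a ha iha =>
        rw [← _root_.mul_inv_rev, iha, inv_one]
    have h8 := hm (A0.subgroupOf R)
      ⟨⟨fun a b => Subtype.ext (Subtype.ext (hA0c _ (Subgroup.mem_subgroupOf.1 a.2) _ (Subgroup.mem_subgroupOf.1 b.2)))⟩⟩
      (fun a ha => Subtype.ext (hA0sq _ (Subgroup.mem_subgroupOf.1 ha)))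
    rw [Nat.card_congr (Subgroup.subgroupOfEquivOfLe hA0R).toEquiv] at h8
    -- but `|A0| ≥ 8`
    have hf : Finite A0 := Finite.of_injective _ (Subgroup.inclusion_injective hA0R)
    have hmem : ∀ w ∈ ({u, x, -1} : Set (GL ι F)), w ∈ A0 := fun w hw => Subgroup.subset_closure hw
    have hu0 : u ∈ A0 := hmem u (by simp)
    have hx0 : x ∈ A0 := hmem x (by simp)
    have hn0 : (-1 : GL ι F) ∈ A0 := hmem _ (by simp)
    have hfv := card_two_mul (K := A0) (g := v) (fun k hk => E.comm k (hA0R hk) v hv) hu0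
      (by
        intro h
        exact E.anti_ne hvu h.symm)
    obtain ⟨y, hy, hyx⟩ := E.exists_anti hx hxs
    obtain ⟨w, hw, hw4, hwu, hwv⟩ := E.exists_correct hu hv hy hvu
    have hxw : x * w = w * x := by
      rcases hw4 with rfl | rfl | rfl | rfl
      · simp
      · exact hxu
      · exact hxv
      · rw [← mul_assoc, hxu, mul_assoc, hxv, mul_assoc]
    have hwyx : (w * y) * x = -(x * (w * y)) := by
      rw [mul_assoc, hyx, mul_neg, ← mul_assoc, ← hxw, mul_assoc]
    have hf' : Finite (CR A0 v) := Finite.of_injective _ (Subgroup.inclusion_injective (CR_le (R := A0) (y := v)))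
    have hfv2 := card_two_mul (K := CR A0 v) (g := w * y)
      (fun k hk => E.comm k (hA0R (CR_le hk)) (w * y) (R.mul_mem hw hy)) (k0 := x)
      (mem_CR.2 ⟨hx0, hxv⟩) (by
        intro h
        exact E.anti_ne hwyx h.symm)
    have hn : (-1 : GL ι F) ∈ CR (CR A0 v) (w * y) := mem_CR.2 ⟨mem_CR.2 ⟨hn0, by simp⟩, by simp⟩
    have hf'' : Finite (CR (CR A0 v) (w * y)) :=
      Finite.of_injective _ (Subgroup.inclusion_injective (CR_le (R := CR A0 v) (y := w * y)))
    have h9 : 1 < Nat.card (CR (CR A0 v) (w * y)) := by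
      rw [Finite.one_lt_card_iff_nontrivial]
      exact ⟨⟨⟨1, Subgroup.one_mem _⟩, ⟨-1, hn⟩, fun h => hneg1 (congrArg Subtype.val h).symm⟩⟩
    omega
  have hss := key s hs hsu hsv (E.not_scalar_of_anti (anti_symm hst))
  have htt := key t ht htu htv (E.not_scalar_of_anti hst)
  exact ⟨u, v, s, t, hu, hv, hs, ht, huu, hvv, hss, htt, hvu, anti_symm hst, hsu, hsv, htu, htv,
    E.gen hu hv hs ht hvu (anti_symm hst) hsu hsv htu htv⟩

end Ext

end Cfsg.Agent.H960
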