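import Cfsg.Agent.H960.Cases
import Cfsg.Agent.ClassicalGeometry.SympBasic
import Cfsg.Agent.ClassicalGeometry.SymmNormalForm

/-!
`Sp₄(F)` (H960): frames; elements `x` with `x² = 1`, `x ≠ ± 1`, are conjugate, and so are those with `x² = -1`.
-/

set_option autoImplicit false
open Cfsg Cfsg.Geo Matrix
open scoped MatrixGroups
open Cfsg.Agent.ClassicalGeometry.SympBasic

namespace Cfsg.Agent.H960

variable {F : Type*} [Field F]

local notation "I4" => (Fin 2 ⊕ Fin 2)

theorem mem_spGL (g : GL I4 F) : g ∈ spGL 2 F ↔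
    ∀ u v, sympForm 2 F ((g : Matrix I4 I4 F) *ᵥ u) ((g : Matrix I4 I4 F) *ᵥ v) = sympForm 2 F u v := Iff.rfl

theorem mem_spGL_iff (g : GL I4 F) : g ∈ spGL 2 F ↔
    (g : Matrix I4 I4 F)ᵀ * Matrix.J (Fin 2) F * (g : Matrix I4 I4 F) = Matrix.J (Fin 2) F := by
  rw [mem_spGL, ← mem_symplecticGroup_iff]
  exact SymplecticGroup.mem_iff'

/-- the adjoint for the symplectic form -/
def spStar (a : Matrix I4 I4 F) : Matrix I4 I4 F := -(Matrix.J (Fin 2) F) * aᵀ * Matrix.J (Fin 2) F

theorem spStarG : StarG (spGL 2 F) (spStar (F := F)) where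
  add a b := by simp only [spStar, Matrix.transpose_add, Matrix.mul_add, Matrix.add_mul]
  mul a b := by
    have hJ := Matrix.J_squared (Fin 2) F
    simp only [spStar, Matrix.transpose_mul]
    calc -Matrix.J (Fin 2) F * (bᵀ * aᵀ) * Matrix.J (Fin 2) F
        = -Matrix.J (Fin 2) F * bᵀ * (-(Matrix.J (Fin 2) F * Matrix.J (Fin 2) F)) * aᵀ * Matrix.J (Fin 2) F := by
          rw [hJ]; simp [Matrix.mul_assoc]
      _ = _ := by simp [Matrix.mul_assoc]
  one := by
    simp only [spStar, Matrix.transpose_one, Matrix.mul_one]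
    rw [neg_mul, Matrix.J_squared, neg_neg]
  mem g := by
    rw [mem_spGL_iff, spStar]
    have hJ := Matrix.J_squared (Fin 2) F
    constructor
    · intro h
      rw [Matrix.mul_assoc, Matrix.mul_assoc, ← Matrix.mul_assoc _ (Matrix.J (Fin 2) F), h, neg_mul, hJ, neg_neg]
    · intro h
      have h1 := congrArg (fun X => Matrix.J (Fin 2) F * X) h
      simp only [Matrix.mul_one] at h1
      calc (g : Matrix I4 I4 F)ᵀ * Matrix.J (Fin 2) F * (g : Matrix I4 I4 F)
          = -(Matrix.J (Fin 2) F * Matrix.J (Fin 2) F) * ((g : Matrix I4 I4 F)ᵀ * Matrix.J (Fin 2) F *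
            (g : Matrix I4 I4 F)) := by rw [hJ]; simp
        _ = Matrix.J (Fin 2) F * (-Matrix.J (Fin 2) F * (g : Matrix I4 I4 F)ᵀ * Matrix.J (Fin 2) F *
            (g : Matrix I4 I4 F)) := by simp [Matrix.mul_assoc]
        _ = Matrix.J (Fin 2) F := h1

/-- A frame: four vectors with the standard Gram matrix give an element of `Sp₄`. -/
theorem exists_sp_of_gram (b : I4 → I4 → F)
    (hb : ∀ i j, sympForm 2 F (b i) (b j) = Matrix.J (Fin 2) F i j) :
    ∃ B ∈ spGL 2 F, ∀ j, (B : Matrix I4 I4 F) *ᵥ (Pi.single j 1) = b j := by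
  set M : Matrix I4 I4 F := Matrix.of fun i j => b j i with hM
  have hMc : ∀ j, M *ᵥ (Pi.single j 1) = b j := by
    intro j
    ext i
    simp [hM]
  have hMJ : Mᵀ * Matrix.J (Fin 2) F * M = Matrix.J (Fin 2) F := by
    ext i j
    rw [← hb i j, sympForm_def, Matrix.mul_assoc, Matrix.mul_apply]
    simp only [dotProduct, Matrix.transpose_apply, hM, Matrix.of_apply]
    refine Finset.sum_congr rfl (fun k _ => ?_)
    congr 1
  have hsymp : M ∈ Matrix.symplecticGroup (Fin 2) F := SymplecticGroup.mem_iff'.2 hMJ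
  have hdet := SymplecticGroup.symplectic_det hsymp
  refine ⟨Matrix.GeneralLinearGroup.mk'' M hdet, ?_, ?_⟩
  · rw [mem_spGL_iff]; exact hMJ
  · intro j; exact hMc j

/-- Two elements with the same action on standard frames are conjugate. -/
theorem conj_of_frames {x y : GL I4 F} (M : Matrix I4 I4 F)
    (hx : ∃ B ∈ spGL 2 F, (x : Matrix I4 I4 F) * (B : Matrix I4 I4 F) = (B : Matrix I4 I4 F) * M)
    (hy : ∃ B ∈ spGL 2 F, (y : Matrix I4 I4 F) * (B : Matrix I4 I4 F) = (B : Matrix I4 I4 F) * M) :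
    ∃ g ∈ spGL 2 F, g⁻¹ * x * g = y := by
  obtain ⟨B, hB, hxB⟩ := hx
  obtain ⟨C, hC, hyC⟩ := hy
  refine ⟨B * C⁻¹, (spGL 2 F).mul_mem hB ((spGL 2 F).inv_mem hC), ?_⟩
  have h1 : (((B⁻¹ * x * B : GL I4 F)) : Matrix I4 I4 F) = M := by
    rw [mul_assoc, Units.val_mul, Units.val_mul, hxB, ← Matrix.mul_assoc, ← Units.val_mul, inv_mul_cancel,
      Units.val_one, Matrix.one_mul]
  have h2 : (((C⁻¹ * y * C : GL I4 F)) : Matrix I4 I4 F) = M := by
    rw [mul_assoc, Units.val_mul, Units.val_mul, hyC, ← Matrix.mul_assoc, ← Units.val_mul, inv_mul_cancel,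
      Units.val_one, Matrix.one_mul]
  have h3 : B⁻¹ * x * B = C⁻¹ * y * C := Units.ext (h1.trans h2.symm)
  calc (B * C⁻¹)⁻¹ * x * (B * C⁻¹) = C * (B⁻¹ * x * B) * C⁻¹ := by group
    _ = y := by rw [h3]; group

/-- the frame of four vectors `e₁, e₂, f₁, f₂` -/
def fr (e1 e2 f1 f2 : I4 → F) : I4 → I4 → F := Sum.elim ![e1, e2] ![f1, f2]

theorem gram_fr {e1 e2 f1 f2 : I4 → F} (h1 : sympForm 2 F f1 e1 = 1) (h2 : sympForm 2 F f2 e2 = 1)
    (h12 : sympForm 2 F e1 e2 = 0) (h13 : sympForm 2 F f2 e1 = 0) (h23 : sympForm 2 F f1 e2 = 0)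
    (h34 : sympForm 2 F f1 f2 = 0) (i j : I4) :
    sympForm 2 F (fr e1 e2 f1 f2 i) (fr e1 e2 f1 f2 j) = Matrix.J (Fin 2) F i j := by
  have s1 := sympForm_swap e1 f1
  have s2 := sympForm_swap e2 f2
  have s12 := sympForm_swap e2 e1
  have s13 := sympForm_swap e1 f2
  have s23 := sympForm_swap e2 f1
  have s34 := sympForm_swap f2 f1
  rw [h1] at s1
  rw [h2] at s2
  rw [h12, neg_zero] at s12
  rw [h13, neg_zero] at s13
  rw [h23, neg_zero] at s23
  rw [h34, neg_zero] at s34
  rcases i with i | i <;> rcases j with j | j <;> fin_cases i <;> fin_cases j <;>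
    simp [fr, Matrix.J, h1, h2, h12, h13, h23, h34, s1, s2, s12, s13, s23, s34]

/-- conjugacy of involutions in `Sp₄` -/
theorem frame_of_invol (h2 : (2 : F) ≠ 0) {x : GL I4 F} (hx : x ∈ spGL 2 F) (hxx : x * x = 1) (h1 : x ≠ 1)
    (hm1 : x ≠ -1) : ∃ B ∈ spGL 2 F, (x : Matrix I4 I4 F) * (B : Matrix I4 I4 F) =
      (B : Matrix I4 I4 F) * Matrix.diagonal (Sum.elim ![1, -1] ![1, -1]) := by
  set X : Matrix I4 I4 F := (x : Matrix I4 I4 F) with hX
  have hXX : ∀ v, X *ᵥ (X *ᵥ v) = v := by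
    intro v
    rw [Matrix.mulVec_mulVec, hX, ← Units.val_mul, hxx, Units.val_one, Matrix.one_mulVec]
  have hf : ∀ u v, sympForm 2 F (X *ᵥ u) (X *ᵥ v) = sympForm 2 F u v := hx
  have hp : ∃ w, w + X *ᵥ w ≠ 0 := by
    by_contra hcon
    push Not at hcon
    apply hm1
    apply Units.ext
    ext i j
    have h3 := congrFun (hcon (Pi.single j 1)) i
    simp only [Pi.add_apply, Matrix.mulVec_single_one, Matrix.col_apply, Pi.zero_apply] at h3
    rw [Units.val_neg, Units.val_one, Matrix.neg_apply, Matrix.one_apply]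
    rw [Pi.single_apply] at h3
    exact eq_neg_of_add_eq_zero_right h3
  have hm : ∃ w, w - X *ᵥ w ≠ 0 := by
    by_contra hcon
    push Not at hcon
    apply h1
    apply Units.ext
    ext i j
    have h3 := congrFun (hcon (Pi.single j 1)) i
    simp only [Pi.sub_apply, Matrix.mulVec_single_one, Matrix.col_apply, Pi.zero_apply] at h3
    rw [Units.val_one, Matrix.one_apply]
    rw [Pi.single_apply] at h3
    exact (sub_eq_zero.1 h3).symm
  -- the eigenspaces
  have pair : ∀ (ε : F), ε * ε = 1 → (∃ w, w + ε • X *ᵥ w ≠ 0) → ∃ e g : I4 → F, X *ᵥ e = ε • e ∧ X *ᵥ g = ε • g ∧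
      sympForm 2 F g e = 1 := by
    intro ε hε hw
    obtain ⟨w, hw⟩ := hw
    have eig : ∀ w, X *ᵥ (w + ε • X *ᵥ w) = ε • (w + ε • X *ᵥ w) := by
      intro w
      rw [Matrix.mulVec_add, Matrix.mulVec_smul, hXX, smul_add, smul_smul, hε, one_smul, add_comm]
    obtain ⟨v, hv⟩ : ∃ v, sympForm 2 F v (w + ε • X *ᵥ w) ≠ 0 := by
      by_contra hcon
      push Not at hcon
      exact hw (eq_zero_of_forall_sympForm_left hcon)
    have h3 : sympForm 2 F (v + ε • X *ᵥ v) (w + ε • X *ᵥ w) = 2 * sympForm 2 F v (w + ε • X *ᵥ w) := by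
      rw [sympForm_add_left, sympForm_smul_left]
      have h4 : sympForm 2 F (X *ᵥ v) (w + ε • X *ᵥ w) = ε * sympForm 2 F v (w + ε • X *ᵥ w) := by
        rw [← hf v, eig w, sympForm_smul_right, ← mul_assoc, hε, one_mul]
      rw [h4, ← mul_assoc, hε]; ring
    refine ⟨w + ε • X *ᵥ w, (2 * sympForm 2 F v (w + ε • X *ᵥ w))⁻¹ • (v + ε • X *ᵥ v), eig w, ?_, ?_⟩
    · rw [Matrix.mulVec_smul, eig v, smul_comm]
    · rw [sympForm_smul_left, h3, inv_mul_cancel₀ (mul_ne_zero h2 hv)]
  obtain ⟨e1, f1, he1, hf1, hfe1⟩ := pair 1 (by ring) (by simpa using hp)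
  obtain ⟨e2, f2, he2, hf2, hfe2⟩ := pair (-1) (by ring) (by
    obtain ⟨w, hw⟩ := hm
    exact ⟨w, by simpa [sub_eq_add_neg] using hw⟩)
  have orth : ∀ u v, X *ᵥ u = (1 : F) • u → X *ᵥ v = (-1 : F) • v → sympForm 2 F u v = 0 := by
    intro u v hu hv
    have h3 := hf u v
    rw [hu, hv, sympForm_smul_left, sympForm_smul_right] at h3
    have h4 : 2 * sympForm 2 F u v = 0 := by linear_combination -h3
    exact (mul_eq_zero.1 h4).resolve_left h2
  have orth' : ∀ u v, X *ᵥ u = (1 : F) • u → X *ᵥ v = (-1 : F) • v → sympForm 2 F v u = 0 := by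
    intro u v hu hv
    rw [sympForm_swap, orth u v hu hv, neg_zero]
  obtain ⟨B, hB, hBc⟩ := exists_sp_of_gram (fr e1 e2 f1 f2)
    (gram_fr hfe1 hfe2 (orth _ _ he1 he2) (orth' _ _ he1 hf2) (orth _ _ hf1 he2) (orth _ _ hf1 hf2))
  refine ⟨B, hB, ?_⟩
  apply Matrix.ext_of_mulVec_single
  intro j
  rw [← Matrix.mulVec_mulVec, hBc, ← Matrix.mulVec_mulVec]
  have hd : (Matrix.diagonal (Sum.elim ![1, -1] ![1, -1]) : Matrix I4 I4 F) *ᵥ (Pi.single j 1) =
      (Sum.elim ![(1 : F), -1] ![1, -1] j) • (Pi.single j 1 : I4 → F) := by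
    ext i
    rw [Matrix.mulVec_diagonal, Pi.smul_apply, smul_eq_mul]
    by_cases hij : i = j
    · rw [hij]
    · rw [Pi.single_eq_of_ne hij, mul_zero, mul_zero]
  rw [hd, Matrix.mulVec_smul, hBc]
  rcases j with j | j <;> fin_cases j
  · exact he1
  · exact he2
  · exact hf1
  · exact hf2

/-- conjugacy of elements with `x² = -1` in `Sp₄` -/
theorem frame_of_quart [Finite F] (h2 : (2 : F) ≠ 0) {x : GL I4 F} (hx : x ∈ spGL 2 F) (hxx : x * x = -1) :
    ∃ B ∈ spGL 2 F, (x : Matrix I4 I4 F) * (B : Matrix I4 I4 F) =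
      (B : Matrix I4 I4 F) * Matrix.J (Fin 2) F := by
  set X : Matrix I4 I4 F := (x : Matrix I4 I4 F) with hX
  have hXX : ∀ v, X *ᵥ (X *ᵥ v) = -v := by
    intro v
    rw [Matrix.mulVec_mulVec, hX, ← Units.val_mul, hxx, Units.val_neg, Units.val_one, Matrix.neg_mulVec,
      Matrix.one_mulVec]
  have hf : ∀ u v, sympForm 2 F (X *ᵥ u) (X *ᵥ v) = sympForm 2 F u v := hx
  -- the symmetric form `g(u,v) = f(Xu, v)`
  have hsym : ∀ u v, sympForm 2 F (X *ᵥ u) v = sympForm 2 F (X *ᵥ v) u := by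
    intro u v
    rw [← hf (X *ᵥ u) v, hXX, sympForm_neg_left, sympForm_swap, neg_neg]
  have hgX : ∀ u v, sympForm 2 F (X *ᵥ (X *ᵥ u)) (X *ᵥ v) = sympForm 2 F (X *ᵥ u) v := fun u v => hf _ _
  -- inside an invariant set closed under addition
  have pick : ∀ W : Submodule F (I4 → F), (∀ w ∈ W, X *ᵥ w ∈ W) →
      (∀ w ∈ W, (∀ w' ∈ W, sympForm 2 F (X *ᵥ w) w' = 0) → w = 0) → W ≠ ⊥ →
      ∃ v ∈ W, sympForm 2 F (X *ᵥ v) v = 1 := by
    intro W hW hnd hne
    obtain ⟨v, hv, hvv⟩ : ∃ v ∈ W, sympForm 2 F (X *ᵥ v) v ≠ 0 := by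
      by_contra hcon
      push Not at hcon
      obtain ⟨w, hw, hw0⟩ := (Submodule.ne_bot_iff _).1 hne
      apply hw0
      apply hnd w hw
      intro w' hw'
      have h3 := hcon (w + w') (W.add_mem hw hw')
      rw [Matrix.mulVec_add, sympForm_add_left, sympForm_add_right, sympForm_add_right, hcon w hw, hcon w' hw',
        hsym w' w] at h3
      have h4 : 2 * sympForm 2 F (X *ᵥ w) w' = 0 := by linear_combination h3
      exact (mul_eq_zero.1 h4).resolve_left h2
    obtain ⟨a, b, hab⟩ := Cfsg.Agent.ClassicalGeometry.SymmNormalForm.exists_diag_two_eq h2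
      (a := sympForm 2 F (X *ᵥ v) v) (b := sympForm 2 F (X *ᵥ v) v) hvv hvv 1
    refine ⟨a • v + b • X *ᵥ v, W.add_mem (W.smul_mem _ hv) (W.smul_mem _ (hW v hv)), ?_⟩
    rw [Matrix.mulVec_add, Matrix.mulVec_smul, Matrix.mulVec_smul, hXX, sympForm_add_left, sympForm_add_right,
      sympForm_add_right]
    simp only [sympForm_smul_left, sympForm_smul_right, sympForm_neg_left, sympForm_self]
    rw [sympForm_swap v (X *ᵥ v)]
    linear_combination hab
  obtain ⟨v, -, hv⟩ := pick ⊤ (fun w _ => trivial)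
    (fun w _ h => by
      have h3 : X *ᵥ w = 0 := eq_zero_of_forall_sympForm_right (fun w' => h w' trivial)
      have h4 := hXX w
      rw [h3, Matrix.mulVec_zero] at h4
      exact neg_eq_zero.1 h4.symm) (by
      intro h
      have h3 : (Pi.single (Sum.inl 0) 1 : I4 → F) ∈ (⊤ : Submodule F (I4 → F)) := trivial
      rw [h, Submodule.mem_bot] at h3
      have := congrFun h3 (Sum.inl 0)
      simp at this)
  -- the orthogonal complement of `⟨v, Xv⟩`
  set W : Submodule F (I4 → F) :=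
    LinearMap.ker (sympBilin 2 F v) ⊓ LinearMap.ker (sympBilin 2 F (X *ᵥ v)) with hWdef
  have memW : ∀ w, w ∈ W ↔ sympForm 2 F v w = 0 ∧ sympForm 2 F (X *ᵥ v) w = 0 := by
    intro w
    rw [hWdef, Submodule.mem_inf, LinearMap.mem_ker, LinearMap.mem_ker, sympBilin_apply, sympBilin_apply]
  have hvXv : sympForm 2 F v (X *ᵥ v) = -1 := by rw [sympForm_swap, hv]
  obtain ⟨w, hw, hww⟩ := pick W
    (by
      intro w hw
      rw [memW] at hw ⊢
      constructor
      · rw [← hf v, hXX, sympForm_neg_right, hw.2, neg_zero]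
      · rw [hf, hw.1])
    (by
      intro w hw h
      rw [memW] at hw
      have h3 : X *ᵥ w = 0 := by
        apply eq_zero_of_forall_sympForm_right
        intro u
        -- projection of `u`
        set u' := u - (sympForm 2 F (X *ᵥ v) u) • v + (sympForm 2 F v u) • X *ᵥ v with hu'
        have hu'W : u' ∈ W := by
          rw [memW, hu']
          constructor
          · rw [sympForm_add_right, sympForm_sub_right, sympForm_smul_right, sympForm_smul_right, sympForm_self,
              hvXv]; ring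
          · rw [sympForm_add_right, sympForm_sub_right, sympForm_smul_right, sympForm_smul_right, sympForm_self,
              hv]; ring
        have h5 := h u' hu'W
        have h6 : sympForm 2 F (X *ᵥ w) v = 0 := by
          rw [hsym, hw.2]
        have h7 : sympForm 2 F (X *ᵥ w) (X *ᵥ v) = 0 := by
          rw [hf, sympForm_swap, hw.1, neg_zero]
        rw [hu', sympForm_add_right, sympForm_sub_right, sympForm_smul_right, sympForm_smul_right, h6, h7] at h5
        linear_combination h5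
      have h4 := hXX w
      rw [h3, Matrix.mulVec_zero] at h4
      exact neg_eq_zero.1 h4.symm)
    (by
      let φ : (I4 → F) →ₗ[F] (Fin 2 → F) :=
        { toFun := fun u => ![sympForm 2 F v u, sympForm 2 F (X *ᵥ v) u]
          map_add' := fun a b => by
            ext i
            fin_cases i <;> simp [sympForm_add_right]
          map_smul' := fun c a => by
            ext i
            fin_cases i <;> simp [sympForm_smul_right] }
      have h1 : LinearMap.ker φ ≠ ⊥ := LinearMap.ker_ne_bot_of_finrank_lt (by simp)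
      obtain ⟨u, hu, hu0⟩ := (Submodule.ne_bot_iff _).1 h1
      rw [Submodule.ne_bot_iff]
      refine ⟨u, ?_, hu0⟩
      rw [memW]
      constructor
      · have := congrFun (LinearMap.mem_ker.1 hu) 0
        simpa [φ] using this
      · have := congrFun (LinearMap.mem_ker.1 hu) 1
        simpa [φ] using this)
  rw [memW] at hw
  have hvXw : sympForm 2 F v (X *ᵥ w) = 0 := by rw [← hf v, hXX, sympForm_neg_right, hw.2, neg_zero]
  obtain ⟨B, hB, hBc⟩ := exists_sp_of_gram (fr v w (X *ᵥ v) (X *ᵥ w))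
    (gram_fr hv hww hw.1 (by rw [sympForm_swap, hvXw, neg_zero]) hw.2 (by rw [hf, hw.1]))
  refine ⟨B, hB, ?_⟩
  apply Matrix.ext_of_mulVec_single
  intro j
  rw [← Matrix.mulVec_mulVec, hBc, ← Matrix.mulVec_mulVec]
  have hJ : ∀ j : Fin 2, Matrix.J (Fin 2) F *ᵥ (Pi.single (Sum.inl j) 1) = Pi.single (Sum.inr j) 1 := by
    intro j
    ext i
    rcases i with i | i <;> simp [Matrix.J, Pi.single_apply, Matrix.one_apply]
  have hJ' : ∀ j : Fin 2, Matrix.J (Fin 2) F *ᵥ (Pi.single (Sum.inr j) 1) = -Pi.single (Sum.inl j) 1 := by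
    intro j
    ext i
    rcases i with i | i <;> simp [Matrix.J, Pi.single_apply, Matrix.one_apply]
  rcases j with j | j
  · rw [hJ, hBc]
    fin_cases j
    · rfl
    · rfl
  · rw [hJ', Matrix.mulVec_neg, hBc]
    fin_cases j
    · exact hXX v
    · exact hXX w

end Cfsg.Agent.H960
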