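import Cfsg.Agent.H960.TwoCase

/-!
Elements `x` with `x ^ 3` scalar are conjugate into `N(R)` (H960).
-/

set_option autoImplicit false
set_option linter.unusedSimpArgs false
open Cfsg Cfsg.Geo Matrix
open scoped MatrixGroups

namespace Cfsg.Agent.H960

variable {F : Type*} [Field F]

section

variable {ι : Type} [Fintype ι] [DecidableEq ι]

theorem glQuad_cube {M : GL ι F} (h : (M : Matrix ι ι F) * M + M + 1 = 0) : M ^ 3 = 1 := by
  apply m_ext
  have h1 : (M : Matrix ι ι F) * M = -M - 1 := by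
    rw [← sub_eq_zero, ← h]; abel
  rw [pow_succ, pow_two, Units.val_mul, Units.val_mul, h1, sub_mul, neg_mul, h1, Units.val_one]
  simp

/-- the two types of elements of order three in `N(R)` -/
theorem exists_three [Nonempty ι] {R : Subgroup (GL ι F)} {u v s t j : GL ι F} (h2 : (2 : F) ≠ 0) (h3 : (3 : F) ≠ 0)
    (E : Ext R) (P : Pauli R u v s t) (hj : j ∈ R) (hjs : j ∈ scalars ι F) (hjj : j * j = -1) :
    ∃ a b : GL ι F, a ∈ subgroupNormalizer R ∧ b ∈ subgroupNormalizer R ∧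
      (∀ (G0 : Subgroup (GL ι F)) (st : Matrix ι ι F → Matrix ι ι F), StarG G0 st → R ≤ G0 → a ∈ G0 ∧ b ∈ G0) ∧
      (a : Matrix ι ι F) * a + a + 1 = 0 ∧ b ^ 3 = 1 ∧ b ≠ 1 ∧ (b : Matrix ι ι F) * b + b + 1 ≠ 0 := by
  have hfin := E.fin
  have Q := P.swap hj hjs hjj
  obtain ⟨a, ha⟩ : ∃ a, a = y1 h2 P := ⟨_, rfl⟩
  obtain ⟨c, hc⟩ : ∃ c, c = y1 h2 Q := ⟨_, rfl⟩
  have hcomj : ∀ x : GL ι F, j * x = x * j := comm_of_scalar hjs
  have haq : (a : Matrix ι ι F) * a + a + 1 = 0 := by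
    rw [ha]
    exact qm_quad h2 (by rw [← Units.val_mul, P.ss]; rfl) (by rw [← Units.val_mul, P.tt]; rfl)
      (by rw [← Units.val_mul, P.ts]; rfl)
  have hcq : (c : Matrix ι ι F) * c + c + 1 = 0 := by
    rw [hc]
    exact qm_quad h2 (by rw [← Units.val_mul, Q.ss]; rfl) (by rw [← Units.val_mul, Q.tt]; rfl)
      (by rw [← Units.val_mul, Q.ts]; rfl)
  have hcs : c * s = s * c := by
    rw [hc]
    apply y1_comm h2 Q
    · rw [mul_assoc, ← P.su, ← mul_assoc, hcomj s, mul_assoc]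
    · rw [mul_assoc, ← P.sv, ← mul_assoc, hcomj s, mul_assoc]
  have hct : c * t = t * c := by
    rw [hc]
    apply y1_comm h2 Q
    · rw [mul_assoc, ← P.tu, ← mul_assoc, hcomj t, mul_assoc]
    · rw [mul_assoc, ← P.tv, ← mul_assoc, hcomj t, mul_assoc]
  have hac : a * c = c * a := by
    rw [ha]
    exact y1_comm h2 P hcs.symm hct.symm
  have hau : a * u = u * a := by
    rw [ha]
    exact y1_comm h2 P P.su P.tu
  have has : a * s = t * a := by rw [ha]; exact y1_s h2 P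
  have hcu : c * u = v * c := by
    have h := y1_s h2 Q
    rw [← hc, ← mul_assoc, ← hcomj c, mul_assoc, mul_assoc] at h
    exact mul_left_cancel h
  have hst : s ≠ t := by
    intro h
    have h1 := P.ts
    rw [h] at h1
    exact neg_ne h2 _ h1.symm
  have huv : v ≠ u := by
    intro h
    have h1 := P.vu
    rw [h] at h1
    exact neg_ne h2 _ h1.symm
  have haN : a ∈ subgroupNormalizer R := by rw [ha]; exact y1_mem_normalizer h2 P
  have hcN : c ∈ subgroupNormalizer R := by rw [hc]; exact y1_mem_normalizer h2 Q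
  refine ⟨a, a * c, haN, (subgroupNormalizer R).mul_mem haN hcN, ?_, haq, ?_, ?_, ?_⟩
  · intro G0 st S hR
    have h1 : a ∈ G0 := by rw [ha]; exact y1_mem S hR h2 P
    have h3 : c ∈ G0 := by rw [hc]; exact y1_mem S hR h2 Q
    exact ⟨h1, G0.mul_mem h1 h3⟩
  · rw [(show Commute a c from hac).mul_pow, glQuad_cube haq, glQuad_cube hcq, one_mul]
  · intro h
    have h1 : c = a⁻¹ := (inv_eq_of_mul_eq_one_right h).symm
    apply huv
    have h4 : c * u = u * c := by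
      rw [h1, inv_mul_eq_iff_eq_mul, ← mul_assoc, hau, mul_inv_cancel_right]
    rw [h4] at hcu
    exact (mul_right_cancel hcu).symm
  · intro h
    apply hst
    obtain ⟨A, hA⟩ : ∃ A : Matrix ι ι F, A = a := ⟨_, rfl⟩
    obtain ⟨C, hC⟩ : ∃ A : Matrix ι ι F, A = c := ⟨_, rfl⟩
    obtain ⟨Sm, hSm⟩ : ∃ A : Matrix ι ι F, A = s := ⟨_, rfl⟩
    have eAC : A * C = C * A := by rw [hA, hC, ← Units.val_mul, hac, Units.val_mul]
    have eCS : C * Sm = Sm * C := by rw [hSm, hC, ← Units.val_mul, hcs, Units.val_mul]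
    rw [Units.val_mul, ← hA, ← hC] at h
    rw [← hA] at haq
    rw [← hC] at hcq
    have e1 : A * A = -A - 1 := by rw [← sub_eq_zero, ← haq]; abel
    have e2 : C * C = -C - 1 := by rw [← sub_eq_zero, ← hcq]; abel
    have e3 : A * C * (A * C) = (A + 1) * (C + 1) := by
      calc A * C * (A * C) = A * (C * A) * C := by simp only [mul_assoc]
        _ = (A * A) * (C * C) := by rw [← eAC]; simp only [mul_assoc]
        _ = (A + 1) * (C + 1) := by rw [e1, e2]; noncomm_ring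
    rw [e3] at h
    have e4 : (Sm * A - A * Sm) * (2 * C + 1) = 0 := by
      have h5 : Sm * ((A + 1) * (C + 1) + A * C + 1) - ((A + 1) * (C + 1) + A * C + 1) * Sm = 0 := by
        rw [h, mul_zero, zero_mul, sub_zero]
      rw [← h5]
      have h6 : A * C * Sm = A * Sm * C := by rw [mul_assoc, eCS, ← mul_assoc]
      simp only [mul_add, add_mul, mul_one, one_mul, ← mul_assoc, sub_mul, h6, eCS, mul_two]
      abel
    have e5 : (2 * C + 1) * (2 * C + 1) = (-3 : F) • (1 : Matrix ι ι F) := by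
      have h7 : (2 * C + 1) * (2 * C + 1) = 4 * (C * C) + 4 * C + 1 := by noncomm_ring
      rw [h7, e2]
      have h8 : (4 : Matrix ι ι F) * (-C - 1) + 4 * C + 1 = -3 := by
        have h9 : (4 : Matrix ι ι F) * (-C - 1) + 4 * C + 1 = -4 + 1 := by
          rw [mul_sub, mul_neg, mul_one]; abel
        rw [h9]; norm_num
      rw [h8, neg_smul]
      congr 1
      have a1 : (3 : Matrix ι ι F) = 1 + 1 + 1 := by norm_num
      have a2 : (3 : F) = 1 + 1 + 1 := by norm_num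
      rw [a1, a2, add_smul, add_smul, one_smul]
    have e6 : (Sm * A - A * Sm) = 0 := by
      have h7 : (Sm * A - A * Sm) * ((2 * C + 1) * (2 * C + 1)) = 0 := by rw [← mul_assoc, e4, zero_mul]
      rw [e5, mul_smul_comm, mul_one, smul_eq_zero] at h7
      exact h7.resolve_left (neg_ne_zero.2 h3)
    have e7 : s * a = t * a := by
      rw [← has]
      apply m_ext
      rw [Units.val_mul, Units.val_mul, ← hA, ← hSm]
      exact sub_eq_zero.1 e6
    exact mul_right_cancel e7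

end

/-- elements of order three modulo scalars -/
theorem three_case {G0 : Subgroup (GL (Fin 4) F)}
    {R : Subgroup (GL (Fin 4) F)} (h2 : (2 : F) ≠ 0) (h3 : (3 : F) ≠ 0) (E : Ext R) (S : Adm G0) (hR : R ≤ G0)
    {u v s t j : GL (Fin 4) F} (P : Pauli R u v s t) (hj : j ∈ R) (hjs : j ∈ scalars (Fin 4) F) (hjj : j * j = -1)
    (hA : ∀ x ∈ G0, ∀ y ∈ G0, (x : Matrix (Fin 4) (Fin 4) F) * x + x + 1 = 0 →
      (y : Matrix (Fin 4) (Fin 4) F) * y + y + 1 = 0 → ∃ g ∈ G0 ⊓ specialLinear (Fin 4) F, g⁻¹ * x * g = y)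
    (hB : ∀ x ∈ G0, ∀ y ∈ G0, x ^ 3 = 1 → x ≠ 1 → (x : Matrix (Fin 4) (Fin 4) F) * x + x + 1 ≠ 0 → y ^ 3 = 1 → y ≠ 1 →
      (y : Matrix (Fin 4) (Fin 4) F) * y + y + 1 ≠ 0 → ∃ g ∈ G0 ⊓ specialLinear (Fin 4) F, g⁻¹ * x * g = y) :
    Lhs (G0 ⊓ specialLinear (Fin 4) F) R 3 := by
  obtain ⟨a, b, haN, hbN, hG, ha, hb3, hb1, hbq⟩ := exists_three h2 h3 E P hj hjs hjj
  have haG : a ∈ G0 := S a (fun st S => (hG G0 st S hR).1)
  have hbG : b ∈ G0 := S b (fun st S => (hG G0 st S hR).2)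
  intro x hx hxr hxs
  have hxG : x ∈ G0 := hx.1
  have hxdet : (x : Matrix (Fin 4) (Fin 4) F).det = 1 := (mem_sl x).1 hx.2
  obtain ⟨c0, hc0'⟩ := (mem_scalars_iff' _).1 hxr
  have hc4 : c0 ^ 4 = 1 := by
    have h1 := congrArg Matrix.det hc0'
    rw [Units.val_pow_eq_pow_val, Matrix.det_pow, hxdet, Matrix.det_smul, Matrix.det_one, Fintype.card_fin, mul_one,
      one_pow] at h1
    exact h1.symm
  obtain ⟨z, hz⟩ : ∃ z, z = x ^ 3 := ⟨_, rfl⟩
  rw [← hz] at hxr hc0'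
  have hz4 : z ^ 4 = 1 := by
    apply m_ext
    rw [Units.val_pow_eq_pow_val, hc0', smul_pow, hc4, one_smul, one_pow, Units.val_one]
  have hx4 : z * x = x ^ 4 := by rw [hz]; group
  have hx43 : (z * x) ^ 3 = 1 := by
    rw [hx4, ← hz4, hz, ← pow_mul, ← pow_mul]
  have hzG : z ∈ G0 := by rw [hz]; exact G0.pow_mem hxG 3
  have hx41 : z * x ≠ 1 := by
    intro h
    apply hxs
    have h1 : x = z⁻¹ := (inv_eq_of_mul_eq_one_right h).symm
    rw [h1]
    exact (scalars (Fin 4) F).inv_mem hxr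
  have key : ∃ g ∈ G0 ⊓ specialLinear (Fin 4) F, g⁻¹ * (z * x) * g ∈ subgroupNormalizer R := by
    by_cases hq : ((z * x : GL (Fin 4) F) : Matrix (Fin 4) (Fin 4) F) * (z * x : GL (Fin 4) F) + (z * x : GL (Fin 4) F) + 1 = 0
    · obtain ⟨g, hg, hgy⟩ := hA _ (G0.mul_mem hzG hxG) a haG hq ha
      exact ⟨g, hg, by rw [hgy]; exact haN⟩
    · obtain ⟨g, hg, hgy⟩ := hB _ (G0.mul_mem hzG hxG) b hbG hx43 hx41 hq hb3 hb1 hbq
      exact ⟨g, hg, by rw [hgy]; exact hbN⟩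
  obtain ⟨g, hg, hgN⟩ := key
  refine ⟨g, hg, ?_⟩
  have h1 : g⁻¹ * x * g = z⁻¹ * (g⁻¹ * (z * x) * g) := by
    have h5 : z⁻¹ * g⁻¹ = g⁻¹ * z⁻¹ := comm_of_scalar ((scalars (Fin 4) F).inv_mem hxr) _
    calc g⁻¹ * x * g = g⁻¹ * z⁻¹ * (z * x) * g := by group
      _ = z⁻¹ * g⁻¹ * (z * x) * g := by rw [h5]
      _ = _ := by group
  rw [h1]
  exact (subgroupNormalizer R).mul_mem (scalars_le_normalizer R ((scalars (Fin 4) F).inv_mem hxr)) hgN

end Cfsg.Agent.H960
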