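import Cfsg.Agent.H960.Frames
import Cfsg.Agent.ClassicalGeometry.SymmNormalForm

/-!
The classes of elements of order three of `GL_4(F)`, `|F| ≡ 2 (mod 3)`, under `SL_4(F)` (H960).
-/

set_option autoImplicit false
set_option linter.unusedSimpArgs false
open Cfsg Cfsg.Geo Matrix
open scoped MatrixGroups

namespace Cfsg.Agent.H960

variable {F : Type*} [Field F]

/-- elements with the same matrix in suitable frames are conjugate in `G0 ⊓ SL_n` -/
theorem conj_of_form {n : ℕ} {G0 : Subgroup (GL (Fin n) F)} {x y B C : GL (Fin n) F} {J : Matrix (Fin n) (Fin n) F}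
    (hx : (x : Matrix (Fin n) (Fin n) F) * (B : Matrix (Fin n) (Fin n) F) = B * J)
    (hy : (y : Matrix (Fin n) (Fin n) F) * (C : Matrix (Fin n) (Fin n) F) = C * J)
    (hBC : B * C⁻¹ ∈ G0) {D : GL (Fin n) F} (hD : (D : Matrix (Fin n) (Fin n) F) * J = J * D)
    (hDG : C * D * C⁻¹ ∈ G0)
    (hdet : ((B * C⁻¹ : GL (Fin n) F) : Matrix (Fin n) (Fin n) F).det * (D : Matrix (Fin n) (Fin n) F).det = 1) :
    ∃ g ∈ G0 ⊓ specialLinear (Fin n) F, g⁻¹ * x * g = y := by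
  have hS := conj_coe hx
  have hT := conj_coe hy
  have hST : B⁻¹ * x * B = C⁻¹ * y * C := m_ext (by rw [hS, hT])
  have hDT : D * (C⁻¹ * y * C) = (C⁻¹ * y * C) * D := by
    apply m_ext
    rw [Units.val_mul D, Units.val_mul _ D, hT, hD]
  refine conj_fix (B := B * C⁻¹) (D := C * D * C⁻¹) hBC ?_ hDG ?_ ?_
  · calc x * (B * C⁻¹) = B * (B⁻¹ * x * B) * C⁻¹ := by group
      _ = B * (C⁻¹ * y * C) * C⁻¹ := by rw [hST]
      _ = B * C⁻¹ * y := by group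
  · calc C * D * C⁻¹ * y = C * (D * (C⁻¹ * y * C)) * C⁻¹ := by group
      _ = C * ((C⁻¹ * y * C) * D) * C⁻¹ := by rw [hDT]
      _ = y * (C * D * C⁻¹) := by group
  · have h1 : (C : Matrix (Fin n) (Fin n) F).det * ((C⁻¹ : GL (Fin n) F) : Matrix (Fin n) (Fin n) F).det = 1 := by
      rw [← Matrix.det_mul, ← Units.val_mul, mul_inv_cancel, Units.val_one, Matrix.det_one]
    rw [Units.val_mul (C * D), Units.val_mul C D, Matrix.det_mul, Matrix.det_mul _ (D : Matrix (Fin n) (Fin n) F)]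
    calc ((B * C⁻¹ : GL (Fin n) F) : Matrix (Fin n) (Fin n) F).det * ((C : Matrix (Fin n) (Fin n) F).det *
          (D : Matrix (Fin n) (Fin n) F).det * ((C⁻¹ : GL (Fin n) F) : Matrix (Fin n) (Fin n) F).det) =
          (((B * C⁻¹ : GL (Fin n) F) : Matrix (Fin n) (Fin n) F).det * (D : Matrix (Fin n) (Fin n) F).det) *
          ((C : Matrix (Fin n) (Fin n) F).det * ((C⁻¹ : GL (Fin n) F) : Matrix (Fin n) (Fin n) F).det) := by ring
      _ = 1 := by rw [h1, hdet, one_mul]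

theorem det_ne {n : ℕ} (g : GL (Fin n) F) : (g : Matrix (Fin n) (Fin n) F).det ≠ 0 :=
  (Matrix.GeneralLinearGroup.det g).ne_zero

/-- block matrix commuting with `jA 1 1` and `jB` -/
def dm (α β : F) (c : F) : Matrix (Fin 4) (Fin 4) F := !![α, -β, 0, 0; β, α - β, 0, 0; 0, 0, c, 0; 0, 0, 0, 1]

theorem det_dm (α β c : F) : (dm α β c).det = (α * α - α * β + β * β) * c := by
  rw [Matrix.det_succ_row_zero]
  simp [dm, Fin.sum_univ_four, Matrix.det_fin_three, Matrix.submatrix_apply, Fin.succAbove]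
  ring

theorem dm_jA (α β : F) : dm α β 1 * jA 1 1 = jA 1 1 * dm α β 1 := by
  ext i k
  fin_cases i <;> fin_cases k <;> simp [dm, jA, Matrix.mul_apply, Fin.sum_univ_four] <;> ring

theorem dm_jB (c : F) : dm 1 0 c * (jB : Matrix (Fin 4) (Fin 4) F) = jB * dm 1 0 c := by
  ext i k
  fin_cases i <;> fin_cases k <;> simp [dm, jB, Matrix.mul_apply, Fin.sum_univ_four]

theorem exists_norm3 [Finite F] (h2 : (2 : F) ≠ 0) (h3 : (3 : F) ≠ 0) (c : F) :
    ∃ α β : F, α * α - α * β + β * β = c := by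
  have h4 : (4 : F) ≠ 0 := by
    intro h
    have h5 : (2 : F) * 2 = 0 := by linear_combination h
    exact h2 (mul_self_eq_zero.1 h5)
  obtain ⟨x, y, hxy⟩ := Cfsg.Agent.ClassicalGeometry.SymmNormalForm.exists_diag_two_eq h2
    (a := (1 : F)) (b := 3 / 4) one_ne_zero (div_ne_zero h3 h4) c
  refine ⟨x + y / 2, y, ?_⟩
  rw [← hxy]
  field_simp
  ring

theorem conj_typeA_GL [Finite F] (h2 : (2 : F) ≠ 0) (h3 : (3 : F) ≠ 0) (hroot : ∀ t : F, t * t + 1 * t + 1 ≠ 0)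
    {x y : GL (Fin 4) F} (hx : (x : Matrix (Fin 4) (Fin 4) F) * x + x + 1 = 0)
    (hy : (y : Matrix (Fin 4) (Fin 4) F) * y + y + 1 = 0) :
    ∃ g ∈ (⊤ : Subgroup (GL (Fin 4) F)) ⊓ specialLinear (Fin 4) F, g⁻¹ * x * g = y := by
  obtain ⟨B, hB⟩ := exists_frameA (M := (x : Matrix (Fin 4) (Fin 4) F)) (a := 1) (b := 1)
    (by rw [one_smul, one_smul]; exact hx) hroot
  obtain ⟨C, hC⟩ := exists_frameA (M := (y : Matrix (Fin 4) (Fin 4) F)) (a := 1) (b := 1)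
    (by rw [one_smul, one_smul]; exact hy) hroot
  obtain ⟨α, β, hαβ⟩ := exists_norm3 h2 h3 (((B * C⁻¹ : GL (Fin 4) F) : Matrix (Fin 4) (Fin 4) F).det)⁻¹
  have hdet : (dm α β 1).det = (((B * C⁻¹ : GL (Fin 4) F) : Matrix (Fin 4) (Fin 4) F).det)⁻¹ := by
    rw [det_dm, hαβ, mul_one]
  have hdet0 : (dm α β 1).det ≠ 0 := by
    rw [hdet]; exact inv_ne_zero (det_ne _)
  exact conj_of_form (D := Matrix.GeneralLinearGroup.mkOfDetNeZero (dm α β 1) hdet0) hB hC (Subgroup.mem_top _)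
    (dm_jA α β) (Subgroup.mem_top _) (by
      change _ * (dm α β 1).det = 1
      rw [hdet, mul_inv_cancel₀ (det_ne _)])

theorem conj_typeB_GL [Fintype F] (hcard : Fintype.card F % 3 = 2) (h3 : (3 : F) ≠ 0)
    (hroot : ∀ t : F, t * t + 1 * t + 1 ≠ 0) {x y : GL (Fin 4) F} (hx3 : x ^ 3 = 1) (hx1 : x ≠ 1)
    (hx : (x : Matrix (Fin 4) (Fin 4) F) * x + x + 1 ≠ 0) (hy3 : y ^ 3 = 1) (hy1 : y ≠ 1)
    (hy : (y : Matrix (Fin 4) (Fin 4) F) * y + y + 1 ≠ 0) :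
    ∃ g ∈ (⊤ : Subgroup (GL (Fin 4) F)) ⊓ specialLinear (Fin 4) F, g⁻¹ * x * g = y := by
  obtain ⟨B, hB⟩ := exists_frameB hcard h3 hroot hx3 hx1 hx
  obtain ⟨C, hC⟩ := exists_frameB hcard h3 hroot hy3 hy1 hy
  obtain ⟨c, hc⟩ : ∃ c, c = (((B * C⁻¹ : GL (Fin 4) F) : Matrix (Fin 4) (Fin 4) F).det)⁻¹ := ⟨_, rfl⟩
  have hdet : (dm 1 0 c).det = (((B * C⁻¹ : GL (Fin 4) F) : Matrix (Fin 4) (Fin 4) F).det)⁻¹ := by
    rw [det_dm, ← hc]; ring
  have hdet0 : (dm 1 0 c).det ≠ 0 := by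
    rw [hdet]; exact inv_ne_zero (det_ne _)
  exact conj_of_form (D := Matrix.GeneralLinearGroup.mkOfDetNeZero (dm 1 0 c) hdet0) hB hC (Subgroup.mem_top _)
    (dm_jB c) (Subgroup.mem_top _) (by
      change _ * (dm 1 0 c).det = 1
      rw [hdet, mul_inv_cancel₀ (det_ne _)])

end Cfsg.Agent.H960
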