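import Cfsg.Agent.H960.GUStar

/-!
The classes of elements of order three of `GU_4(p)`, `p ≡ 1 (mod 3)`, under `SU_4(p)` (H960).
-/

set_option autoImplicit false
set_option linter.unusedSimpArgs false
open Cfsg Cfsg.Geo Matrix
open scoped MatrixGroups

namespace Cfsg.Agent.H960

open Cfsg.Agent.LieClassical.HermBasic

variable {F : Type*} [Field F]

section Count

variable {ω : F}

theorem cube_cases (hω : ω * ω + ω + 1 = 0) {c : F} (hc : c ^ 3 = 1) : c = 1 ∨ c = ω ∨ c = ω * ω := by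
  have h1 : (c - 1) * ((c - ω) * (c - ω * ω)) = 0 := by
    have hω3 : ω * ω * ω = 1 := by linear_combination (ω - 1) * hω
    linear_combination hc + (-(c - 1) * c) * hω + (c - 1) * hω3
  rcases mul_eq_zero.1 h1 with h | h
  · exact Or.inl (sub_eq_zero.1 h)
  · rcases mul_eq_zero.1 h with h | h
    · exact Or.inr (Or.inl (sub_eq_zero.1 h))
    · exact Or.inr (Or.inr (sub_eq_zero.1 h))

open Classical in
/-- the number of indices with value `c` -/
noncomputable def cn (s : Fin 4 → F) (c : F) : ℕ := (Finset.univ.filter (fun i => s i = c)).card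

omit [Field F] in
theorem cn_eq (s : Fin 4 → F) (c : F) : Nat.card {i // s i = c} = cn s c := by
  classical
  rw [Nat.card_eq_fintype_card, Fintype.card_subtype, cn]

omit [Field F] in
theorem cn_zero {s : Fin 4 → F} {c : F} (h : ∀ i, s i ≠ c) : cn s c = 0 := by
  classical
  rw [cn, Finset.card_eq_zero, Finset.filter_eq_empty_iff]
  exact fun i _ => h i

omit [Field F] in
theorem cn_zero_iff {s : Fin 4 → F} {c : F} (h : cn s c = 0) (i : Fin 4) : s i ≠ c := by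
  classical
  rw [cn, Finset.card_eq_zero, Finset.filter_eq_empty_iff] at h
  exact h (Finset.mem_univ i)

theorem omega_ne (h3 : (3 : F) ≠ 0) (hω : ω * ω + ω + 1 = 0) : ω ≠ 1 ∧ ω * ω ≠ 1 ∧ ω ≠ ω * ω ∧ ω ≠ 0 := by
  have h0 : ω ≠ 0 := by
    rintro rfl
    apply one_ne_zero (α := F)
    linear_combination hω
  have h1 : ω ≠ 1 := by
    rintro rfl
    apply h3
    linear_combination hω
  refine ⟨h1, ?_, ?_, h0⟩
  · intro h
    apply h3
    linear_combination (2 - ω) * (hω - h) + h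
  · intro h
    apply h1
    have := mul_left_cancel₀ h0 ((mul_one ω).trans h)
    exact this.symm

theorem counts_key (h3 : (3 : F) ≠ 0) (hω : ω * ω + ω + 1 = 0) {s : Fin 4 → F} (hs : ∀ i, s i ^ 3 = 1)
    {R : Type*} [CommSemiring R] (f : F → R) : ∑ i, f (s i) =
      (cn s 1 : R) * f 1 + (cn s ω : R) * f ω + (cn s (ω * ω) : R) * f (ω * ω) := by
  classical
  obtain ⟨hω1, hω2, hω12, hω0⟩ := omega_ne h3 hω
  have h1 : ∀ i, f (s i) = (if s i = 1 then 1 else 0) * f 1 + (if s i = ω then 1 else 0) * f ω +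
      (if s i = ω * ω then 1 else 0) * f (ω * ω) := by
    intro i
    rcases cube_cases hω (hs i) with h | h | h
    · rw [h, if_pos rfl, if_neg (Ne.symm hω1), if_neg (Ne.symm hω2)]; ring
    · rw [h, if_neg hω1, if_pos rfl, if_neg hω12]; ring
    · rw [h, if_neg hω2, if_neg (Ne.symm hω12), if_pos rfl]; ring
  calc ∑ i, f (s i) = ∑ i, ((if s i = 1 then 1 else 0) * f 1 + (if s i = ω then 1 else 0) * f ω +
      (if s i = ω * ω then 1 else 0) * f (ω * ω)) := Finset.sum_congr rfl (fun i _ => h1 i)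
    _ = _ := by
      rw [Finset.sum_add_distrib, Finset.sum_add_distrib, ← Finset.sum_mul, ← Finset.sum_mul, ← Finset.sum_mul,
        Finset.sum_boole, Finset.sum_boole, Finset.sum_boole]
      rfl

theorem counts (h3 : (3 : F) ≠ 0) (hω : ω * ω + ω + 1 = 0) {s : Fin 4 → F} (hs : ∀ i, s i ^ 3 = 1) :
    cn s 1 + cn s ω + cn s (ω * ω) = 4 ∧ ∑ i, s i = (cn s 1 : F) + (cn s ω : F) * ω + (cn s (ω * ω) : F) * (ω * ω) ∧
    ∑ i, s i * s i = (cn s 1 : F) + (cn s ω : F) * (ω * ω) + (cn s (ω * ω) : F) * ω := by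
  have hω3 : ω * ω * ω = 1 := by linear_combination (ω - 1) * hω
  refine ⟨?_, ?_, ?_⟩
  · have h := counts_key h3 hω hs (R := ℕ) (fun _ => 1)
    simp only [Finset.sum_const, Finset.card_univ, Fintype.card_fin, smul_eq_mul, mul_one, Nat.cast_id] at h
    exact h.symm
  · have h := counts_key h3 hω hs (fun c => c)
    rw [h, mul_one]
  · have h := counts_key h3 hω hs (fun c => c * c)
    rw [h]
    linear_combination (cn s (ω * ω) : F) * ω * hω3

/-- equal numbers of `ω` and `ω²` -/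
theorem balanced (h3 : (3 : F) ≠ 0) (hω : ω * ω + ω + 1 = 0) {p : ℕ} [CharP F p] (hp : 5 ≤ p) {s : Fin 4 → F}
    (hs : ∀ i, s i ^ 3 = 1) (hb : ∑ i, s i = ∑ i, s i * s i) : cn s ω = cn s (ω * ω) := by
  obtain ⟨h4, h5, h6⟩ := counts h3 hω hs
  obtain ⟨hω1, hω2, hω12, hω0⟩ := omega_ne h3 hω
  have h7 : ((cn s ω : F) - (cn s (ω * ω) : F)) * (ω - ω * ω) = 0 := by
    linear_combination h6 - h5 + hb
  have h8 : (cn s ω : F) = (cn s (ω * ω) : F) :=
    sub_eq_zero.1 ((mul_eq_zero.1 h7).resolve_right (sub_ne_zero.2 hω12))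
  rw [CharP.cast_eq_iff_mod_eq F p, Nat.mod_eq_of_lt (by omega), Nat.mod_eq_of_lt (by omega)] at h8
  exact h8

theorem perm_of_counts (hω : ω * ω + ω + 1 = 0) {s t : Fin 4 → F} (hs : ∀ i, s i ^ 3 = 1)
    (ht : ∀ i, t i ^ 3 = 1) (h1 : cn s 1 = cn t 1) (h2 : cn s ω = cn t ω) (h4 : cn s (ω * ω) = cn t (ω * ω)) :
    ∃ σ : Equiv.Perm (Fin 4), ∀ i, t (σ i) = s i := by
  apply exists_perm
  intro c
  rw [cn_eq, cn_eq]
  by_cases hc1 : c = 1
  · rw [hc1, h1]
  by_cases hc2 : c = ω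
  · rw [hc2, h2]
  by_cases hc3 : c = ω * ω
  · rw [hc3, h4]
  have he : ∀ w : Fin 4 → F, (∀ i, w i ^ 3 = 1) → cn w c = 0 := by
    intro w hw
    apply cn_zero
    intro i h
    rcases cube_cases hω (hw i) with h' | h' | h'
    · exact hc1 (h.symm.trans h')
    · exact hc2 (h.symm.trans h')
    · exact hc3 (h.symm.trans h')
  rw [he s hs, he t ht]

/-- type A -/
theorem perm_typeA (h3 : (3 : F) ≠ 0) (hω : ω * ω + ω + 1 = 0) {p : ℕ} [CharP F p] (hp : 5 ≤ p) {s t : Fin 4 → F}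
    (hs : ∀ i, s i ^ 3 = 1) (hbs : ∑ i, s i = ∑ i, s i * s i) (hs1 : ∀ i, s i ≠ 1)
    (ht : ∀ i, t i ^ 3 = 1) (hbt : ∑ i, t i = ∑ i, t i * t i) (ht1 : ∀ i, t i ≠ 1) :
    ∃ σ : Equiv.Perm (Fin 4), ∀ i, t (σ i) = s i := by
  have h1 := balanced h3 hω hp hs hbs
  have h2 := balanced h3 hω hp ht hbt
  have h4 := (counts h3 hω hs).1
  have h5 := (counts h3 hω ht).1
  have h6 := cn_zero hs1
  have h7 := cn_zero ht1
  exact perm_of_counts hω hs ht (by omega) (by omega) (by omega)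

/-- type B -/
theorem perm_typeB (h3 : (3 : F) ≠ 0) (hω : ω * ω + ω + 1 = 0) {p : ℕ} [CharP F p] (hp : 5 ≤ p) {s t : Fin 4 → F}
    (hs : ∀ i, s i ^ 3 = 1) (hbs : ∑ i, s i = ∑ i, s i * s i) (hs1 : ∃ i, s i ≠ 1) (hs2 : ∃ i, s i = 1)
    (ht : ∀ i, t i ^ 3 = 1) (hbt : ∑ i, t i = ∑ i, t i * t i) (ht1 : ∃ i, t i ≠ 1) (ht2 : ∃ i, t i = 1) :
    ∃ σ : Equiv.Perm (Fin 4), ∀ i, t (σ i) = s i := by
  have key : ∀ s : Fin 4 → F, (∀ i, s i ^ 3 = 1) → ∑ i, s i = ∑ i, s i * s i → (∃ i, s i ≠ 1) → (∃ i, s i = 1) →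
      cn s 1 = 2 ∧ cn s ω = 1 ∧ cn s (ω * ω) = 1 := by
    rintro s hs hbs ⟨i, hi⟩ ⟨j, hj⟩
    have h1 := balanced h3 hω hp hs hbs
    have h4 := (counts h3 hω hs).1
    have h5 : cn s 1 ≠ 0 := fun h => cn_zero_iff h j hj
    have h6 : cn s ω ≠ 0 ∨ cn s (ω * ω) ≠ 0 := by
      by_contra hcon
      push Not at hcon
      rcases cube_cases hω (hs i) with h | h | h
      · exact hi h
      · exact cn_zero_iff hcon.1 i h
      · exact cn_zero_iff hcon.2 i h
    omega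
  obtain ⟨a1, a2, a3⟩ := key s hs hbs hs1 hs2
  obtain ⟨b1, b2, b3⟩ := key t ht hbt ht1 ht2
  exact perm_of_counts hω hs ht (by omega) (by omega) (by omega)

end Count

section Unitary

variable [Fintype F] {p : ℕ} {ω : F}

omit [Fintype F] in
theorem prim_omega (h3 : (3 : F) ≠ 0) (hω : ω * ω + ω + 1 = 0) : IsPrimitiveRoot ω 3 := by
  obtain ⟨hω1, hω2, hω12, hω0⟩ := omega_ne h3 hω
  rw [IsPrimitiveRoot.iff (by norm_num)]
  refine ⟨by linear_combination (ω - 1) * hω, fun l h0 hl => ?_⟩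
  interval_cases l
  · rw [pow_one]; exact hω1
  · rw [pow_two]; exact hω2

/-- the eigenvalues of an element of order three -/
theorem exists_std (hF : Fintype.card F = p ^ 2) (h3 : (3 : F) ≠ 0) (hω : ω * ω + ω + 1 = 0) (hωp : ω ^ p = ω)
    {x : GL (Fin 4) F} (hx : x ∈ GU 4 F p) (hx3 : x ^ 3 = 1) :
    ∃ (B : GL (Fin 4) F) (s : Fin 4 → F), (∀ i, s i ^ 3 = 1) ∧
      (x : Matrix (Fin 4) (Fin 4) F) * (B : Matrix (Fin 4) (Fin 4) F) = B * Matrix.diagonal s ∧
      ∑ i, s i = ∑ i, s i * s i := by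
  obtain ⟨B, s, hs, hB⟩ := exists_diag_GL (prim_omega h3 hω) (by norm_num) (by exact_mod_cast h3)
    (M := (x : Matrix (Fin 4) (Fin 4) F)) (by rw [← Units.val_pow_eq_pow_val, hx3, Units.val_one])
  refine ⟨B, s, hs, hB, ?_⟩
  have h1 : ((x * x : GL (Fin 4) F) : Matrix (Fin 4) (Fin 4) F) * (B : Matrix (Fin 4) (Fin 4) F) =
      B * Matrix.diagonal (fun i => s i * s i) := by
    rw [Units.val_mul, Matrix.mul_assoc, hB, ← Matrix.mul_assoc, hB, Matrix.mul_assoc, Matrix.diagonal_mul_diagonal]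
  have h2 := trace_of_diag h1
  have h4 := trace_of_diag hB
  have hxx : x * x = x⁻¹ := by
    rw [eq_inv_iff_mul_eq_one, ← hx3, pow_succ, pow_two]
  have h5 : stU hF (x : Matrix (Fin 4) (Fin 4) F) = ((x⁻¹ : GL (Fin 4) F) : Matrix (Fin 4) (Fin 4) F) :=
    (stU_star hF).eq_inv hx
  have h6 : (stU hF (x : Matrix (Fin 4) (Fin 4) F)).trace = (x : Matrix (Fin 4) (Fin 4) F).trace ^ p := by
    rw [Matrix.trace, Matrix.trace, sum_pow_q hF]
    refine Finset.sum_congr rfl fun i _ => ?_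
    rw [Matrix.diag_apply, Matrix.diag_apply, stU_apply]
  have h7 : ∀ i, s i ^ p = s i := by
    intro i
    rcases cube_cases hω (hs i) with h | h | h
    · rw [h, one_pow]
    · rw [h, hωp]
    · rw [h, mul_pow, hωp]
  rw [← h2, hxx, ← h5, h6, h4, sum_pow_q hF]
  exact Finset.sum_congr rfl fun i _ => (h7 i).symm

omit [Fintype F] in
theorem diag_perm {x B : GL (Fin 4) F} {s t : Fin 4 → F}
    (hB : (x : Matrix (Fin 4) (Fin 4) F) * (B : Matrix (Fin 4) (Fin 4) F) = B * Matrix.diagonal s)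
    {σ : Equiv.Perm (Fin 4)} (hσ : ∀ i, t (σ i) = s i) :
    ∃ B' : GL (Fin 4) F, (x : Matrix (Fin 4) (Fin 4) F) * (B' : Matrix (Fin 4) (Fin 4) F) = B' * Matrix.diagonal t := by
  obtain ⟨P, -, hP⟩ := (Amb.top (F := F) 4).perm σ
  refine ⟨B * P, ?_⟩
  rw [Units.val_mul, ← Matrix.mul_assoc, hB, hP, Matrix.mul_assoc, Matrix.mul_assoc, perm_diag σ s t hσ]

/-- the standard Gram matrix of type A -/
def JA : Matrix (Fin 4) (Fin 4) F := !![0, 0, 1, 0; 0, 0, 0, 1; 1, 0, 0, 0; 0, 1, 0, 0]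

omit [Fintype F] in
theorem det_JA : (JA : Matrix (Fin 4) (Fin 4) F).det = 1 := by
  rw [Matrix.det_succ_row_zero]
  simp [JA, Fin.sum_univ_four, Matrix.det_fin_three, Matrix.submatrix_apply, Fin.succAbove]

omit [Fintype F] in
theorem eig_of_diag {x B : GL (Fin 4) F} {t : Fin 4 → F}
    (hB : (x : Matrix (Fin 4) (Fin 4) F) * (B : Matrix (Fin 4) (Fin 4) F) = B * Matrix.diagonal t) (i : Fin 4) :
    (x : Matrix (Fin 4) (Fin 4) F) *ᵥ ((B : Matrix (Fin 4) (Fin 4) F) *ᵥ Pi.single i 1) =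
      t i • ((B : Matrix (Fin 4) (Fin 4) F) *ᵥ Pi.single i 1) := by
  rw [Matrix.mulVec_mulVec, hB, ← Matrix.mulVec_mulVec, ← Matrix.mulVec_smul]
  congr 1
  ext k
  rw [Matrix.mulVec_diagonal, Pi.smul_apply, smul_eq_mul]
  by_cases hik : k = i
  · rw [hik]
  · rw [Pi.single_eq_of_ne hik, mul_zero, mul_zero]

omit [Fintype F] in
theorem quad_of_diag {x B : GL (Fin 4) F} {t : Fin 4 → F}
    (hB : (x : Matrix (Fin 4) (Fin 4) F) * (B : Matrix (Fin 4) (Fin 4) F) = B * Matrix.diagonal t) :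
    (x : Matrix (Fin 4) (Fin 4) F) * x + x + 1 = 0 ↔ ∀ i, t i * t i + t i + 1 = 0 := by
  have h1 : ((x : Matrix (Fin 4) (Fin 4) F) * x + x + 1) * (B : Matrix (Fin 4) (Fin 4) F) =
      B * Matrix.diagonal (fun i => t i * t i + t i + 1) := by
    have h2 : (Matrix.diagonal (fun i => t i * t i + t i + 1) : Matrix (Fin 4) (Fin 4) F) =
        Matrix.diagonal (fun i => t i * t i) + Matrix.diagonal t + 1 := by
      rw [← Matrix.diagonal_one, Matrix.diagonal_add, Matrix.diagonal_add]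
    rw [h2, Matrix.add_mul, Matrix.add_mul, Matrix.one_mul, Matrix.mul_add, Matrix.mul_add, Matrix.mul_one, hB,
      Matrix.mul_assoc, hB, ← Matrix.mul_assoc, hB, Matrix.mul_assoc, Matrix.diagonal_mul_diagonal]
  constructor
  · intro h i
    rw [h, Matrix.zero_mul] at h1
    have h2 : Matrix.diagonal (fun i => t i * t i + t i + 1) = (0 : Matrix (Fin 4) (Fin 4) F) := by
      calc Matrix.diagonal (fun i => t i * t i + t i + 1) =
            ((B⁻¹ : GL (Fin 4) F) : Matrix (Fin 4) (Fin 4) F) * ((B : Matrix (Fin 4) (Fin 4) F) *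
            Matrix.diagonal (fun i => t i * t i + t i + 1)) := by
              rw [← Matrix.mul_assoc, ← Units.val_mul, inv_mul_cancel, Units.val_one, Matrix.one_mul]
        _ = 0 := by rw [← h1, Matrix.mul_zero]
    have h3 := congrFun (congrFun h2 i) i
    rwa [Matrix.diagonal_apply_eq, Matrix.zero_apply] at h3
  · intro h
    have h2 : (Matrix.diagonal (fun i => t i * t i + t i + 1) : Matrix (Fin 4) (Fin 4) F) = 0 := by
      rw [show (fun i => t i * t i + t i + 1) = fun _ => (0 : F) from funext h, Matrix.diagonal_zero]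
    rw [h2, Matrix.mul_zero] at h1
    calc (x : Matrix (Fin 4) (Fin 4) F) * x + x + 1 = ((x : Matrix (Fin 4) (Fin 4) F) * x + x + 1) *
          ((B : Matrix (Fin 4) (Fin 4) F) * ((B⁻¹ : GL (Fin 4) F) : Matrix (Fin 4) (Fin 4) F)) := by
            rw [← Units.val_mul B, mul_inv_cancel, Units.val_one, Matrix.mul_one]
      _ = 0 := by rw [← Matrix.mul_assoc, h1, Matrix.zero_mul]

theorem frameA_GU [CharP F p] (hF : Fintype.card F = p ^ 2) (hp : 5 ≤ p) (h3 : (3 : F) ≠ 0) (hω : ω * ω + ω + 1 = 0)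
    (hωp : ω ^ p = ω) {x : GL (Fin 4) F} (hx : x ∈ GU 4 F p) (hxA : (x : Matrix (Fin 4) (Fin 4) F) * x + x + 1 = 0) :
    ∃ w : Fin 4 → (Fin 4 → F), (∀ i j, hermForm 4 F p (w j) (w i) = (JA : Matrix (Fin 4) (Fin 4) F) i j) ∧
      ∀ i, (x : Matrix (Fin 4) (Fin 4) F) *ᵥ w i = (![ω, ω, ω * ω, ω * ω] : Fin 4 → F) i • w i := by
  have hω3 : ω * ω * ω = 1 := by linear_combination (ω - 1) * hω
  obtain ⟨hω1, hω2, hω12, hω0⟩ := omega_ne h3 hω
  obtain ⟨B, s, hs, hB, hbs⟩ := exists_std hF h3 hω hωp hx (glQuad_cube hxA)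
  have hs1 : ∀ i, s i ≠ 1 := by
    intro i h
    have h1 := (quad_of_diag hB).1 hxA i
    rw [h] at h1
    exact h3 (by linear_combination h1)
  obtain ⟨σ, hσ⟩ := perm_typeA (t := ![ω, ω, ω * ω, ω * ω]) h3 hω hp hs hbs hs1
    (by
      intro i
      fin_cases i
      · change ω ^ 3 = 1; linear_combination hω3
      · change ω ^ 3 = 1; linear_combination hω3
      · change (ω * ω) ^ 3 = 1; linear_combination (ω * ω * ω + 1) * hω3
      · change (ω * ω) ^ 3 = 1; linear_combination (ω * ω * ω + 1) * hω3)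
    (by
      rw [Fin.sum_univ_four, Fin.sum_univ_four]
      simp only [Matrix.cons_val_zero, Matrix.cons_val_one, Matrix.cons_val_two, Matrix.cons_val_three, Matrix.head_cons,
        Matrix.tail_cons, Matrix.cons_val]
      linear_combination -2 * ω * hω3)
    (by
      intro i
      fin_cases i
      · exact hω1
      · exact hω1
      · exact hω2
      · exact hω2)
  obtain ⟨C, hC⟩ := diag_perm hB hσ
  obtain ⟨D, hDC, hCD⟩ := exists_dual hF C
  have hD := dual_eig hF hx (s' := ![ω * ω, ω * ω, ω, ω]) hC hDC (by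
    intro i
    fin_cases i
    · change ω * (ω * ω) ^ p = 1
      rw [mul_pow, hωp]; linear_combination hω3
    · change ω * (ω * ω) ^ p = 1
      rw [mul_pow, hωp]; linear_combination hω3
    · change (ω * ω) * ω ^ p = 1
      rw [hωp]; linear_combination hω3
    · change (ω * ω) * ω ^ p = 1
      rw [hωp]; linear_combination hω3)
  have hbd : ∀ i j, hermForm 4 F p ((C : Matrix (Fin 4) (Fin 4) F) *ᵥ Pi.single i 1)
      ((D : Matrix (Fin 4) (Fin 4) F) *ᵥ Pi.single j 1) = (1 : Matrix (Fin 4) (Fin 4) F) j i := by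
    intro i j
    rw [herm_cols hF, hDC]
  have hdb : ∀ i j, hermForm 4 F p ((D : Matrix (Fin 4) (Fin 4) F) *ᵥ Pi.single i 1)
      ((C : Matrix (Fin 4) (Fin 4) F) *ᵥ Pi.single j 1) = (1 : Matrix (Fin 4) (Fin 4) F) j i := by
    intro i j
    rw [herm_cols hF, hCD]
  have eC := fun i => eig_of_diag hC i
  have eD := fun i => eig_of_diag hD i
  have n1 : ω * ω ^ p ≠ 1 := by rw [hωp]; exact hω2
  have n2 : (ω * ω) * (ω * ω) ^ p ≠ 1 := by
    rw [mul_pow, hωp]
    intro h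
    exact hω1 (by linear_combination h - ω * hω3)
  have hI := iso_of_mem hx
  have hbb : ∀ i j, (![ω, ω, ω * ω, ω * ω] : Fin 4 → F) i = ω → (![ω, ω, ω * ω, ω * ω] : Fin 4 → F) j = ω →
      hermForm 4 F p ((C : Matrix (Fin 4) (Fin 4) F) *ᵥ Pi.single i 1)
      ((C : Matrix (Fin 4) (Fin 4) F) *ᵥ Pi.single j 1) = 0 := by
    intro i j hi hj
    exact herm_eig hI (eC i) (eC j) (by rw [hi, hj]; exact n1)
  have hdd : ∀ i j, (![ω * ω, ω * ω, ω, ω] : Fin 4 → F) i = ω * ω → (![ω * ω, ω * ω, ω, ω] : Fin 4 → F) j = ω * ω →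
      hermForm 4 F p ((D : Matrix (Fin 4) (Fin 4) F) *ᵥ Pi.single i 1)
      ((D : Matrix (Fin 4) (Fin 4) F) *ᵥ Pi.single j 1) = 0 := by
    intro i j hi hj
    exact herm_eig hI (eD i) (eD j) (by rw [hi, hj]; exact n2)
  refine ⟨![(C : Matrix (Fin 4) (Fin 4) F) *ᵥ Pi.single 0 1, (C : Matrix (Fin 4) (Fin 4) F) *ᵥ Pi.single 1 1,
    (D : Matrix (Fin 4) (Fin 4) F) *ᵥ Pi.single 0 1, (D : Matrix (Fin 4) (Fin 4) F) *ᵥ Pi.single 1 1], ?_, ?_⟩
  · intro i j
    fin_cases i <;> fin_cases j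
    · exact hbb 0 0 rfl rfl
    · exact hbb 1 0 rfl rfl
    · exact (hdb 0 0).trans (by simp [JA])
    · exact (hdb 1 0).trans (by simp [JA])
    · exact hbb 0 1 rfl rfl
    · exact hbb 1 1 rfl rfl
    · exact (hdb 0 1).trans (by simp [JA])
    · exact (hdb 1 1).trans (by simp [JA])
    · exact (hbd 0 0).trans (by simp [JA])
    · exact (hbd 1 0).trans (by simp [JA])
    · exact hdd 0 0 rfl rfl
    · exact hdd 1 0 rfl rfl
    · exact (hbd 0 1).trans (by simp [JA])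
    · exact (hbd 1 1).trans (by simp [JA])
    · exact hdd 0 1 rfl rfl
    · exact hdd 1 1 rfl rfl
  · intro i
    fin_cases i
    · exact eC 0
    · exact eC 1
    · exact eD 0
    · exact eD 1

theorem conj_typeA_GU [CharP F p] (hF : Fintype.card F = p ^ 2) (hp : 5 ≤ p) (h3 : (3 : F) ≠ 0)
    (hω : ω * ω + ω + 1 = 0) (hωp : ω ^ p = ω) {x y : GL (Fin 4) F} (hx : x ∈ GU 4 F p) (hy : y ∈ GU 4 F p)
    (hxA : (x : Matrix (Fin 4) (Fin 4) F) * x + x + 1 = 0) (hyA : (y : Matrix (Fin 4) (Fin 4) F) * y + y + 1 = 0) :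
    ∃ g ∈ GU 4 F p ⊓ specialLinear (Fin 4) F, g⁻¹ * x * g = y := by
  obtain ⟨w, hw, hxw⟩ := frameA_GU hF hp h3 hω hωp hx hxA
  obtain ⟨w', hw', hyw⟩ := frameA_GU hF hp h3 hω hωp hy hyA
  refine conj_of_gram hF (J := (JA : Matrix (Fin 4) (Fin 4) F)) (by rw [det_JA]; exact one_ne_zero) hw hw' hxw hyw ?_
  intro δ hδ
  have hδ0 : δ ≠ 0 := by
    rintro rfl
    rw [zero_pow (Nat.succ_ne_zero p)] at hδ
    exact zero_ne_one hδ
  obtain ⟨b, hb⟩ := Cfsg.Agent.ClassicalGeometry.HermParabolic.hilbert90 hF (u := Units.mk0 δ hδ0)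
    (Units.ext (by rw [Units.val_pow_eq_pow_val, Units.val_mk0, hδ, Units.val_one]))
  have hb' : (b : F) ^ (p - 1) = δ := by
    rw [← Units.val_pow_eq_pow_val, hb, Units.val_mk0]
  have hb0 : (b : F) ≠ 0 := b.ne_zero
  have hbp : (b : F) ^ p = δ * b := by
    have h1 : p = (p - 1) + 1 := by omega
    rw [h1, pow_succ, hb']
  have hbpp : ((b : F) ^ p) ^ p = b := pow_q_pow_q hF _
  refine ⟨![(b : F)⁻¹, 1, (b : F) ^ p, 1], ?_, ?_⟩
  · intro i j
    fin_cases i <;> fin_cases j <;> simp [JA, hb0, hbpp]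
  · rw [Fin.prod_univ_four]
    simp only [Matrix.cons_val_zero, Matrix.cons_val_one, Matrix.cons_val_two, Matrix.cons_val_three, Matrix.head_cons,
      Matrix.tail_cons, Matrix.cons_val]
    rw [hbp]
    field_simp

theorem herm_zero_of_frame {n : ℕ} (hF : Fintype.card F = p ^ 2) (B : GL (Fin n) F) {v : Fin n → F}
    (h : ∀ i, hermForm n F p v ((B : Matrix (Fin n) (Fin n) F) *ᵥ Pi.single i 1) = 0) : v = 0 := by
  apply herm_nondeg hF
  intro w
  have h1 : w = ∑ i, ((B⁻¹ : GL (Fin n) F) : Matrix (Fin n) (Fin n) F).mulVec w i •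
      ((B : Matrix (Fin n) (Fin n) F) *ᵥ Pi.single i 1) := by
    have h2 : w = (B : Matrix (Fin n) (Fin n) F) *ᵥ (((B⁻¹ : GL (Fin n) F) : Matrix (Fin n) (Fin n) F) *ᵥ w) := by
      rw [Matrix.mulVec_mulVec, ← Units.val_mul, mul_inv_cancel, Units.val_one, Matrix.one_mulVec]
    conv_lhs => rw [h2]
    ext k
    rw [Finset.sum_apply, Matrix.mulVec, dotProduct]
    refine Finset.sum_congr rfl fun i _ => ?_
    rw [Pi.smul_apply, smul_eq_mul, Matrix.mulVec_single_one, mul_comm]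
    rfl
  rw [h1, herm_sum_right hF]
  refine Finset.sum_eq_zero fun i _ => ?_
  rw [herm_smul_right, h, mul_zero]

/-- the standard Gram matrix of type B -/
def JBg : Matrix (Fin 4) (Fin 4) F := !![0, 1, 0, 0; 1, 0, 0, 0; 0, 0, 1, 0; 0, 0, 0, 1]

omit [Fintype F] in
theorem det_JBg : (JBg : Matrix (Fin 4) (Fin 4) F).det = -1 := by
  rw [Matrix.det_succ_row_zero]
  simp [JBg, Fin.sum_univ_four, Matrix.det_fin_three, Matrix.submatrix_apply, Fin.succAbove]

theorem frameB_GU [CharP F p] (hF : Fintype.card F = p ^ 2) (hp : 5 ≤ p) (h3 : (3 : F) ≠ 0) (hω : ω * ω + ω + 1 = 0)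
    (hωp : ω ^ p = ω) {x : GL (Fin 4) F} (hx : x ∈ GU 4 F p) (hx3 : x ^ 3 = 1) (hx1 : x ≠ 1)
    (hxA : (x : Matrix (Fin 4) (Fin 4) F) * x + x + 1 ≠ 0) :
    ∃ w : Fin 4 → (Fin 4 → F), (∀ i j, hermForm 4 F p (w j) (w i) = (JBg : Matrix (Fin 4) (Fin 4) F) i j) ∧
      ∀ i, (x : Matrix (Fin 4) (Fin 4) F) *ᵥ w i = (![ω, ω * ω, 1, 1] : Fin 4 → F) i • w i := by
  have hω3 : ω * ω * ω = 1 := by linear_combination (ω - 1) * hω
  obtain ⟨hω1, hω2, hω12, hω0⟩ := omega_ne h3 hω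
  obtain ⟨B, s, hs, hB, hbs⟩ := exists_std hF h3 hω hωp hx hx3
  have hs1 : ∃ i, s i ≠ 1 := by
    by_contra hcon
    push Not at hcon
    apply hx1
    apply m_ext
    rw [eq_of_diag hB hcon, one_smul, Units.val_one]
  have hs2 : ∃ i, s i = 1 := by
    by_contra hcon
    push Not at hcon
    apply hxA
    rw [quad_of_diag hB]
    intro i
    rcases cube_cases hω (hs i) with h | h | h
    · exact absurd h (hcon i)
    · rw [h]; exact hω
    · rw [h]; linear_combination ω * hω3 + hω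
  obtain ⟨σ, hσ⟩ := perm_typeB (t := ![ω, ω * ω, 1, 1]) h3 hω hp hs hbs hs1 hs2
    (by
      intro i
      fin_cases i
      · change ω ^ 3 = 1; linear_combination hω3
      · change (ω * ω) ^ 3 = 1; linear_combination (ω * ω * ω + 1) * hω3
      · change (1 : F) ^ 3 = 1; norm_num
      · change (1 : F) ^ 3 = 1; norm_num)
    (by
      rw [Fin.sum_univ_four, Fin.sum_univ_four]
      simp only [Matrix.cons_val_zero, Matrix.cons_val_one, Matrix.cons_val_two, Matrix.cons_val_three, Matrix.head_cons,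
        Matrix.tail_cons, Matrix.cons_val]
      linear_combination -ω * hω3) ⟨0, hω1⟩ ⟨2, rfl⟩
  obtain ⟨C, hC⟩ := diag_perm hB hσ
  obtain ⟨D, hDC, hCD⟩ := exists_dual hF C
  have hD := dual_eig hF hx (s' := ![ω * ω, ω, 1, 1]) hC hDC (by
    intro i
    fin_cases i
    · change ω * (ω * ω) ^ p = 1
      rw [mul_pow, hωp]; linear_combination hω3
    · change (ω * ω) * ω ^ p = 1
      rw [hωp]; linear_combination hω3
    · change (1 : F) * 1 ^ p = 1
      rw [one_pow, one_mul]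
    · change (1 : F) * 1 ^ p = 1
      rw [one_pow, one_mul])
  have hbd : hermForm 4 F p ((C : Matrix (Fin 4) (Fin 4) F) *ᵥ Pi.single 0 1)
      ((D : Matrix (Fin 4) (Fin 4) F) *ᵥ Pi.single 0 1) = 1 := by
    rw [herm_cols hF, hDC, Matrix.one_apply_eq]
  have hdb : hermForm 4 F p ((D : Matrix (Fin 4) (Fin 4) F) *ᵥ Pi.single 0 1)
      ((C : Matrix (Fin 4) (Fin 4) F) *ᵥ Pi.single 0 1) = 1 := by
    rw [herm_cols hF, hCD, Matrix.one_apply_eq]
  have eC := fun i => eig_of_diag hC i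
  have eD := fun i => eig_of_diag hD i
  have hI := iso_of_mem hx
  have eC0 : (x : Matrix (Fin 4) (Fin 4) F) *ᵥ ((C : Matrix (Fin 4) (Fin 4) F) *ᵥ Pi.single 0 1) =
      ω • ((C : Matrix (Fin 4) (Fin 4) F) *ᵥ Pi.single 0 1) := eC 0
  have eC1 : (x : Matrix (Fin 4) (Fin 4) F) *ᵥ ((C : Matrix (Fin 4) (Fin 4) F) *ᵥ Pi.single 1 1) =
      (ω * ω) • ((C : Matrix (Fin 4) (Fin 4) F) *ᵥ Pi.single 1 1) := eC 1
  have eC2 : (x : Matrix (Fin 4) (Fin 4) F) *ᵥ ((C : Matrix (Fin 4) (Fin 4) F) *ᵥ Pi.single 2 1) =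
      (1 : F) • ((C : Matrix (Fin 4) (Fin 4) F) *ᵥ Pi.single 2 1) := eC 2
  have eC3 : (x : Matrix (Fin 4) (Fin 4) F) *ᵥ ((C : Matrix (Fin 4) (Fin 4) F) *ᵥ Pi.single 3 1) =
      (1 : F) • ((C : Matrix (Fin 4) (Fin 4) F) *ᵥ Pi.single 3 1) := eC 3
  have eD0 : (x : Matrix (Fin 4) (Fin 4) F) *ᵥ ((D : Matrix (Fin 4) (Fin 4) F) *ᵥ Pi.single 0 1) =
      (ω * ω) • ((D : Matrix (Fin 4) (Fin 4) F) *ᵥ Pi.single 0 1) := eD 0
  have n1 : ω * ω ^ p ≠ 1 := by rw [hωp]; exact hω2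
  have n2 : (ω * ω) * (ω * ω) ^ p ≠ 1 := by
    rw [mul_pow, hωp]
    intro h
    exact hω1 (by linear_combination h - ω * hω3)
  have m1 : 1 * ω ^ p ≠ 1 := by rw [hωp, one_mul]; exact hω1
  have m2 : 1 * (ω * ω) ^ p ≠ 1 := by rw [mul_pow, hωp, one_mul]; exact hω2
  have m1' : ω * 1 ^ p ≠ 1 := by rw [one_pow, mul_one]; exact hω1
  have m2' : (ω * ω) * 1 ^ p ≠ 1 := by rw [one_pow, mul_one]; exact hω2
  -- the fixed plane
  obtain ⟨U, hU⟩ : ∃ U, U = Submodule.span F (Set.range ![(C : Matrix (Fin 4) (Fin 4) F) *ᵥ Pi.single 2 1,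
    (C : Matrix (Fin 4) (Fin 4) F) *ᵥ Pi.single 3 1]) := ⟨_, rfl⟩
  have hUfix : ∀ v ∈ U, (x : Matrix (Fin 4) (Fin 4) F) *ᵥ v = (1 : F) • v := by
    have hle : U ≤ LinearMap.ker (Matrix.toLin' ((x : Matrix (Fin 4) (Fin 4) F) - 1)) := by
      rw [hU, Submodule.span_le]
      rintro _ ⟨i, rfl⟩
      rw [SetLike.mem_coe, LinearMap.mem_ker, Matrix.toLin'_apply, Matrix.sub_mulVec, Matrix.one_mulVec, sub_eq_zero]
      fin_cases i
      · exact eC2.trans (one_smul _ _)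
      · exact eC3.trans (one_smul _ _)
    intro v hv
    have h1 := hle hv
    rw [LinearMap.mem_ker, Matrix.toLin'_apply, Matrix.sub_mulVec, Matrix.one_mulVec, sub_eq_zero] at h1
    rw [h1, one_smul]
  have hdim : Module.finrank F U = 2 := by
    have hli : LinearIndependent F ![(C : Matrix (Fin 4) (Fin 4) F) *ᵥ Pi.single 2 1,
        (C : Matrix (Fin 4) (Fin 4) F) *ᵥ Pi.single 3 1] := by
      rw [LinearIndependent.pair_iff]
      intro a b hab
      rw [← Matrix.mulVec_smul, ← Matrix.mulVec_smul, ← Matrix.mulVec_add] at hab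
      have h1 : a • (Pi.single 2 1 : Fin 4 → F) + b • Pi.single 3 1 = 0 := by
        calc a • (Pi.single 2 1 : Fin 4 → F) + b • Pi.single 3 1 =
              ((C⁻¹ : GL (Fin 4) F) : Matrix (Fin 4) (Fin 4) F) *ᵥ ((C : Matrix (Fin 4) (Fin 4) F) *ᵥ
              (a • (Pi.single 2 1 : Fin 4 → F) + b • Pi.single 3 1)) := by
                rw [Matrix.mulVec_mulVec, ← Units.val_mul, inv_mul_cancel, Units.val_one, Matrix.one_mulVec]
          _ = 0 := by rw [hab, Matrix.mulVec_zero]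
      have h2 := congrFun h1 2
      have h4 := congrFun h1 3
      simp at h2 h4
      exact ⟨h2, h4⟩
    rw [hU, finrank_span_eq_card hli, Fintype.card_fin]
  have hnd : ∀ u ∈ U, (∀ v ∈ U, hermForm 4 F p u v = 0) → u = 0 := by
    intro u hu hv
    apply herm_zero_of_frame hF C
    intro i
    have hux := hUfix u hu
    fin_cases i
    · exact herm_eig hI hux eC0 m1
    · exact herm_eig hI hux eC1 m2
    · exact hv _ (by rw [hU]; exact Submodule.subset_span ⟨0, rfl⟩)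
    · exact hv _ (by rw [hU]; exact Submodule.subset_span ⟨1, rfl⟩)
  obtain ⟨g, hgU, hg⟩ := Cfsg.Agent.ClassicalGeometry.HermFrame.exists_orthonormal hF 2 U hdim hnd
  have eg := fun i => hUfix _ (hgU i)
  refine ⟨![(C : Matrix (Fin 4) (Fin 4) F) *ᵥ Pi.single 0 1, (D : Matrix (Fin 4) (Fin 4) F) *ᵥ Pi.single 0 1,
    g 0, g 1], ?_, ?_⟩
  · intro i j
    fin_cases i <;> fin_cases j
    · exact (herm_eig hI eC0 eC0 n1).trans (by simp [JBg])
    · exact hdb.trans (by simp [JBg])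
    · exact (herm_eig hI (eg 0) eC0 m1).trans (by simp [JBg])
    · exact (herm_eig hI (eg 1) eC0 m1).trans (by simp [JBg])
    · exact hbd.trans (by simp [JBg])
    · exact (herm_eig hI eD0 eD0 n2).trans (by simp [JBg])
    · exact (herm_eig hI (eg 0) eD0 m2).trans (by simp [JBg])
    · exact (herm_eig hI (eg 1) eD0 m2).trans (by simp [JBg])
    · exact (herm_eig hI eC0 (eg 0) m1').trans (by simp [JBg])
    · exact (herm_eig hI eD0 (eg 0) m2').trans (by simp [JBg])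
    · exact (hg 0 0).trans (by simp [JBg])
    · exact (hg 1 0).trans (by simp [JBg])
    · exact (herm_eig hI eC0 (eg 1) m1').trans (by simp [JBg])
    · exact (herm_eig hI eD0 (eg 1) m2').trans (by simp [JBg])
    · exact (hg 0 1).trans (by simp [JBg])
    · exact (hg 1 1).trans (by simp [JBg])
  · intro i
    fin_cases i
    · exact eC0
    · exact eD0
    · exact eg 0
    · exact eg 1

theorem conj_typeB_GU [CharP F p] (hF : Fintype.card F = p ^ 2) (hp : 5 ≤ p) (h3 : (3 : F) ≠ 0)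
    (hω : ω * ω + ω + 1 = 0) (hωp : ω ^ p = ω) {x y : GL (Fin 4) F} (hx : x ∈ GU 4 F p) (hy : y ∈ GU 4 F p)
    (hx3 : x ^ 3 = 1) (hx1 : x ≠ 1) (hxA : (x : Matrix (Fin 4) (Fin 4) F) * x + x + 1 ≠ 0)
    (hy3 : y ^ 3 = 1) (hy1 : y ≠ 1) (hyA : (y : Matrix (Fin 4) (Fin 4) F) * y + y + 1 ≠ 0) :
    ∃ g ∈ GU 4 F p ⊓ specialLinear (Fin 4) F, g⁻¹ * x * g = y := by
  obtain ⟨w, hw, hxw⟩ := frameB_GU hF hp h3 hω hωp hx hx3 hx1 hxA
  obtain ⟨w', hw', hyw⟩ := frameB_GU hF hp h3 hω hωp hy hy3 hy1 hyA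
  refine conj_of_gram hF (J := (JBg : Matrix (Fin 4) (Fin 4) F)) (by rw [det_JBg]; exact neg_ne_zero.2 one_ne_zero)
    hw hw' hxw hyw ?_
  intro δ hδ
  have hδ' : δ ^ p * δ = 1 := by rw [← pow_succ, hδ]
  refine ⟨![1, 1, δ, 1], ?_, ?_⟩
  · intro i j
    fin_cases i <;> fin_cases j <;> simp [JBg, hδ']
  · rw [Fin.prod_univ_four]
    simp only [Matrix.cons_val_zero, Matrix.cons_val_one, Matrix.cons_val_two, Matrix.cons_val_three, Matrix.head_cons,
      Matrix.tail_cons, Matrix.cons_val]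
    ring

end Unitary

end Cfsg.Agent.H960
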