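import Cfsg.Agent.H960.CliffGL

/-!
No transvection normalises a group with commutators and squares `± 1` (H960), in dimension at least three.
-/

set_option autoImplicit false
open Cfsg Cfsg.Geo Matrix
open scoped MatrixGroups

namespace Cfsg.Agent.H960

variable {ι : Type} [Fintype ι] [DecidableEq ι] {F : Type*} [Field F]

/-- Two square-zero elements whose commutator is an involution are equal. -/
theorem eq_of_nil {N N' : Matrix ι ι F} (h2 : (2 : F) ≠ 0) (hN : N * N = 0)
    (h : (1 + N) * (1 - N') = (1 + N') * (1 - N)) : N = N' := by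
  have cancel : ∀ X : Matrix ι ι F, (2 : F) • X = 0 → X = 0 := fun X hX =>
    (smul_eq_zero.1 hX).resolve_left h2
  have h1 : (2 : F) • (N - N') = N * N' - N' * N := by
    have h3 : (1 + N) * (1 - N') - (1 + N') * (1 - N) = 0 := sub_eq_zero.2 h
    have h4 : (1 + N) * (1 - N') - (1 + N') * (1 - N) = (2 : F) • (N - N') - (N * N' - N' * N) := by
      rw [two_smul]; noncomm_ring
    rw [h4] at h3
    exact sub_eq_zero.1 h3
  have a1 : (2 : F) • (N * N') = N * N' * N := by
    have h3 := congrArg (fun X => N * X) h1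
    simp only [Matrix.mul_smul, Matrix.mul_sub, ← Matrix.mul_assoc, hN, Matrix.zero_mul, zero_sub, smul_neg] at h3
    exact neg_inj.1 h3
  have a2 : (2 : F) • (N' * N) = -(N * N' * N) := by
    have h3 := congrArg (fun X => X * N) h1
    simp only [Matrix.smul_mul, Matrix.sub_mul, hN, zero_sub, smul_neg, Matrix.mul_assoc, Matrix.mul_zero,
      sub_zero] at h3
    rw [Matrix.mul_assoc, ← h3, neg_neg]
  have a3 : N * N' = -(N' * N) := by
    have : (2 : F) • (N * N' + N' * N) = 0 := by rw [smul_add, a1, a2]; abel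
    exact eq_neg_of_add_eq_zero_left (cancel _ this)
  have a4 : N * N' * N = 0 := by rw [a3, neg_mul, Matrix.mul_assoc, hN, Matrix.mul_zero, neg_zero]
  have a5 : N * N' = 0 := cancel _ (by rw [a1, a4])
  have a6 : N' * N = 0 := cancel _ (by rw [a2, a4, neg_zero])
  have a7 : (2 : F) • (N - N') = 0 := by rw [h1, a5, a6, sub_zero]
  exact sub_eq_zero.1 (cancel _ a7)

theorem no_transvection {R : Subgroup (GL ι F)} (E : Ext R) (hn : 3 ≤ Fintype.card ι) {y : GL ι F}
    (hy : y ∈ subgroupNormalizer R) {a b : ι → F} (hyN : (y : Matrix ι ι F) = 1 + Matrix.vecMulVec a b)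
    (hNN : Matrix.vecMulVec a b * Matrix.vecMulVec a b = 0) : Matrix.vecMulVec a b = 0 := by
  have hne := E.ne
  set N := Matrix.vecMulVec a b with hN
  have hyinv : ((y⁻¹ : GL ι F) : Matrix ι ι F) = 1 - N := by
    have h1 : (y : Matrix ι ι F) * (1 - N) = 1 := by
      rw [hyN, add_mul, one_mul, mul_sub, mul_one, hNN]; abel
    calc ((y⁻¹ : GL ι F) : Matrix ι ι F) = ((y⁻¹ : GL ι F) : Matrix ι ι F) * ((y : Matrix ι ι F) * (1 - N)) := by
          rw [h1, mul_one]
      _ = 1 - N := by rw [← mul_assoc, ← Units.val_mul, inv_mul_cancel, Units.val_one, one_mul]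
  have key : ∀ g ∈ R, N * (g : Matrix ι ι F) = (g : Matrix ι ι F) * N := by
    intro g hg
    set N' := (g : Matrix ι ι F) * N * ((g⁻¹ : GL ι F) : Matrix ι ι F) with hN'
    have hgg : ((g⁻¹ : GL ι F) : Matrix ι ι F) * (g : Matrix ι ι F) = 1 := by
      rw [← Units.val_mul, inv_mul_cancel, Units.val_one]
    have hgg' : (g : Matrix ι ι F) * ((g⁻¹ : GL ι F) : Matrix ι ι F) = 1 := by
      rw [← Units.val_mul, mul_inv_cancel, Units.val_one]
    have hN'N' : N' * N' = 0 := by
      rw [hN']
      calc (g : Matrix ι ι F) * N * ((g⁻¹ : GL ι F) : Matrix ι ι F) *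
            ((g : Matrix ι ι F) * N * ((g⁻¹ : GL ι F) : Matrix ι ι F))
          = (g : Matrix ι ι F) * N * (((g⁻¹ : GL ι F) : Matrix ι ι F) * (g : Matrix ι ι F)) * N *
            ((g⁻¹ : GL ι F) : Matrix ι ι F) := by simp only [Matrix.mul_assoc]
        _ = (g : Matrix ι ι F) * (N * N) * ((g⁻¹ : GL ι F) : Matrix ι ι F) := by
            rw [hgg, Matrix.mul_one]; simp only [Matrix.mul_assoc]
        _ = 0 := by rw [hNN, Matrix.mul_zero, Matrix.zero_mul]
    -- the commutator
    set t : GL ι F := y * g * y⁻¹ * g⁻¹ with ht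
    have htR : t ∈ R := R.mul_mem (mem_normalizer hy hg) (R.inv_mem hg)
    have htm : (t : Matrix ι ι F) = (1 + N) * (1 - N') := by
      rw [ht, Units.val_mul, Units.val_mul, Units.val_mul, hyN, hyinv, hN', Matrix.mul_sub, Matrix.mul_one,
        Matrix.sub_mul, Matrix.mul_sub, Matrix.mul_one]
      congr 1
      · rw [Matrix.mul_assoc, hgg', Matrix.mul_one]
      · simp only [Matrix.mul_assoc]
    have htinv : ((t⁻¹ : GL ι F) : Matrix ι ι F) = (1 + N') * (1 - N) := by
      have h1 : (t : Matrix ι ι F) * ((1 + N') * (1 - N)) = 1 := by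
        rw [htm]
        have h2 : (1 - N') * (1 + N') = 1 := by
          rw [sub_mul, one_mul, mul_add, mul_one, hN'N']; abel
        have h3 : (1 + N) * (1 - N) = 1 := by
          rw [add_mul, one_mul, mul_sub, mul_one, hNN]; abel
        calc (1 + N) * (1 - N') * ((1 + N') * (1 - N)) = (1 + N) * ((1 - N') * (1 + N')) * (1 - N) := by
              simp only [Matrix.mul_assoc]
          _ = 1 := by rw [h2, Matrix.mul_one, h3]
      calc ((t⁻¹ : GL ι F) : Matrix ι ι F)
          = ((t⁻¹ : GL ι F) : Matrix ι ι F) * ((t : Matrix ι ι F) * ((1 + N') * (1 - N))) := by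
            rw [h1, mul_one]
        _ = (1 + N') * (1 - N) := by rw [← mul_assoc, ← Units.val_mul, inv_mul_cancel, Units.val_one, one_mul]
    -- a common null vector
    obtain ⟨v, hv0, hv1, hv2⟩ : ∃ v : ι → F, v ≠ 0 ∧ b ⬝ᵥ v = 0 ∧
        b ⬝ᵥ (((g⁻¹ : GL ι F) : Matrix ι ι F) *ᵥ v) = 0 := by
      let φ : (ι → F) →ₗ[F] (Fin 2 → F) :=
        { toFun := fun v => ![b ⬝ᵥ v, b ⬝ᵥ (((g⁻¹ : GL ι F) : Matrix ι ι F) *ᵥ v)]
          map_add' := fun v w => by
            ext i
            fin_cases i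
            · simp [dotProduct_add]
            · simp [Matrix.mulVec_add, dotProduct_add]
          map_smul' := fun c v => by
            ext i
            fin_cases i
            · simp [dotProduct_smul]
            · simp [Matrix.mulVec_smul, dotProduct_smul] }
      have h1 : LinearMap.ker φ ≠ ⊥ := LinearMap.ker_ne_bot_of_finrank_lt (by simp; omega)
      obtain ⟨v, hv, hv0⟩ := (Submodule.ne_bot_iff _).1 h1
      refine ⟨v, hv0, ?_, ?_⟩
      · have := congrFun (LinearMap.mem_ker.1 hv) 0
        simpa [φ] using this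
      · have := congrFun (LinearMap.mem_ker.1 hv) 1
        simpa [φ] using this
    have hNv : N *ᵥ v = 0 := by
      rw [hN, Matrix.vecMulVec_mulVec, hv1]; simp
    have hN'v : N' *ᵥ v = 0 := by
      rw [hN', ← Matrix.mulVec_mulVec, ← Matrix.mulVec_mulVec, hN, Matrix.vecMulVec_mulVec, hv2]; simp
    have htv : (t : Matrix ι ι F) *ᵥ v = v := by
      rw [htm, ← Matrix.mulVec_mulVec, Matrix.sub_mulVec, hN'v, Matrix.one_mulVec, sub_zero, Matrix.add_mulVec, hNv,
        Matrix.one_mulVec, add_zero]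
    have htt : t * t = 1 := by
      refine (E.sq t htR).resolve_right (fun h => ?_)
      have h1 : ((t * t : GL ι F) : Matrix ι ι F) *ᵥ v = v := by
        rw [Units.val_mul, ← Matrix.mulVec_mulVec, htv, htv]
      rw [h, Units.val_neg, Units.val_one, Matrix.neg_mulVec, Matrix.one_mulVec] at h1
      apply hv0
      have h3 : (2 : F) • v = 0 := by rw [two_smul]; nth_rw 1 [← h1]; exact neg_add_cancel v
      exact (smul_eq_zero.1 h3).resolve_left E.two
    have h1 : (1 + N) * (1 - N') = (1 + N') * (1 - N) := by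
      rw [← htm, ← htinv, inv_eq_of_mul_eq_one_right htt]
    have h3 := eq_of_nil E.two hNN h1
    calc N * (g : Matrix ι ι F) = N' * (g : Matrix ι ι F) := by rw [← h3]
      _ = (g : Matrix ι ι F) * N := by rw [hN', Matrix.mul_assoc, hgg, Matrix.mul_one]
  obtain ⟨c, hc⟩ := E.c1 N key
  rw [hc]
  rw [hc, Matrix.smul_mul, Matrix.one_mul, smul_smul] at hNN
  obtain ⟨i⟩ := hne
  have h1 := congrFun (congrFun hNN i) i
  simp only [Matrix.smul_apply, Matrix.one_apply_eq, Matrix.zero_apply, smul_eq_mul, mul_one] at h1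
  rw [mul_self_eq_zero.1 h1, zero_smul]

end Cfsg.Agent.H960
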