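import Cfsg.Agent.H960.Amb

/-!
Elements `x` with `x ^ 2` scalar are conjugate into `N(R)` (H960).
-/

set_option autoImplicit false
set_option linter.unusedSimpArgs false
open Cfsg Cfsg.Geo Matrix
open scoped MatrixGroups

namespace Cfsg.Agent.H960

variable {F : Type*} [Field F]

section Sign

variable {n : ℕ}

open Classical in
/-- the number of `-1`'s -/
noncomputable def cnt (s : Fin n → F) : ℕ := (Finset.univ.filter (fun i => s i = -1)).card

theorem sign_perm (h2 : (2 : F) ≠ 0) {s t : Fin n → F} (hs : ∀ i, s i = 1 ∨ s i = -1) (ht : ∀ i, t i = 1 ∨ t i = -1)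
    (h : cnt s = cnt t) : ∃ σ : Equiv.Perm (Fin n), ∀ i, t (σ i) = s i := by
  classical
  have h11 : (1 : F) ≠ -1 := fun h => h2 (by linear_combination h)
  have hc : ∀ w : Fin n → F, Nat.card {i // w i = -1} = cnt w := by
    intro w
    rw [Nat.card_eq_fintype_card, Fintype.card_subtype, cnt]
  have hc1 : ∀ w : Fin n → F, (∀ i, w i = 1 ∨ w i = -1) → Nat.card {i // w i = 1} = n - cnt w := by
    intro w hw
    have h1 : Finset.univ.filter (fun i => w i = 1) = (Finset.univ.filter (fun i => w i = -1))ᶜ := by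
      ext i
      simp only [Finset.mem_filter, Finset.mem_univ, true_and, Finset.mem_compl]
      rcases hw i with h | h
      · rw [h]; simp [h11]
      · rw [h]; simp [Ne.symm h11]
    rw [Nat.card_eq_fintype_card, Fintype.card_subtype, cnt, h1, Finset.card_compl, Fintype.card_fin]
  apply exists_perm
  intro c
  by_cases hc1' : c = -1
  · rw [hc1', hc, hc, h]
  by_cases hc2 : c = 1
  · rw [hc2, hc1 s hs, hc1 t ht, h]
  · have he : ∀ w : Fin n → F, (∀ i, w i = 1 ∨ w i = -1) → Nat.card {i // w i = c} = 0 := by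
      intro w hw
      have : IsEmpty {i // w i = c} := ⟨fun i => by
        rcases hw i.1 with h | h
        · exact hc2 (i.2.symm.trans h)
        · exact hc1' (i.2.symm.trans h)⟩
      exact Nat.card_of_isEmpty
    rw [he s hs, he t ht]

theorem sign_prod {s : Fin n → F} (hs : ∀ i, s i = 1 ∨ s i = -1) : ∏ i, s i = (-1) ^ cnt s := by
  classical
  have h1 : ∀ i, s i = if s i = -1 then -1 else 1 := by
    intro i
    by_cases h : s i = -1
    · rw [if_pos h, h]
    · rw [if_neg h]; exact (hs i).resolve_right h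
  calc ∏ i, s i = ∏ i, (if s i = -1 then (-1 : F) else 1) := Finset.prod_congr rfl (fun i _ => h1 i)
    _ = (-1) ^ cnt s := by
      rw [Finset.prod_ite, Finset.prod_const, Finset.prod_const_one, mul_one, cnt]

theorem sign_sum {s : Fin n → F} (hs : ∀ i, s i = 1 ∨ s i = -1) : ∑ i, s i = (n : F) - 2 * (cnt s : F) := by
  classical
  have h1 : ∀ i, s i = 1 - if s i = -1 then 2 else 0 := by
    intro i
    by_cases h : s i = -1
    · rw [if_pos h, h]; norm_num
    · rw [if_neg h, sub_zero]; exact (hs i).resolve_right h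
  calc ∑ i, s i = ∑ i, (1 - if s i = -1 then (2 : F) else 0) := Finset.sum_congr rfl (fun i _ => h1 i)
    _ = (n : F) - 2 * (cnt s : F) := by
      rw [Finset.sum_sub_distrib, Finset.sum_ite, Finset.sum_const, Finset.sum_const_zero, add_zero, Finset.sum_const,
        cnt, nsmul_eq_mul, nsmul_eq_mul, Finset.card_univ, Fintype.card_fin, mul_one, mul_comm]

theorem cnt_le (s : Fin n → F) : cnt s ≤ n := by
  classical
  rw [cnt]
  exact (Finset.card_filter_le _ _).trans (by rw [Finset.card_univ, Fintype.card_fin])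

theorem cnt_eq_zero {s : Fin n → F} (hs : ∀ i, s i = 1 ∨ s i = -1) (h : cnt s = 0) (i : Fin n) : s i = 1 := by
  classical
  rw [cnt, Finset.card_eq_zero, Finset.filter_eq_empty_iff] at h
  exact (hs i).resolve_right (h (Finset.mem_univ i))

theorem cnt_eq_n {s : Fin n → F} (h : cnt s = n) (i : Fin n) : s i = -1 := by
  classical
  have h1 : Finset.univ.filter (fun i => s i = -1) = Finset.univ := by
    apply Finset.eq_univ_of_card
    rw [Fintype.card_fin]
    exact h
  have := h1 ▸ Finset.mem_univ i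
  exact (Finset.mem_filter.1 this).2

theorem cnt_neg (h2 : (2 : F) ≠ 0) {s : Fin n → F} (hs : ∀ i, s i = 1 ∨ s i = -1) : cnt (-s) = n - cnt s := by
  classical
  have h11 : (1 : F) ≠ -1 := fun h => h2 (by linear_combination h)
  have h1 : Finset.univ.filter (fun i => (-s) i = -1) = (Finset.univ.filter (fun i => s i = -1))ᶜ := by
    ext i
    simp only [Finset.mem_filter, Finset.mem_univ, true_and, Finset.mem_compl, Pi.neg_apply]
    rcases hs i with h | h
    · rw [h]; simp [h11]
    · rw [h]; simp [h11]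
  rw [cnt, cnt, h1, Finset.card_compl, Fintype.card_fin]

/-- an element `x` with `x B = B diag(s)` -/
theorem det_of_diag {x B : GL (Fin n) F} {s : Fin n → F}
    (hx : (x : Matrix (Fin n) (Fin n) F) * B = B * Matrix.diagonal s) :
    (x : Matrix (Fin n) (Fin n) F).det = ∏ i, s i := by
  have h1 := congrArg Matrix.det hx
  rw [Matrix.det_mul, Matrix.det_mul, Matrix.det_diagonal, mul_comm] at h1
  exact mul_left_cancel₀ (Matrix.GeneralLinearGroup.det B).ne_zero h1

theorem trace_of_diag {x B : GL (Fin n) F} {s : Fin n → F}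
    (hx : (x : Matrix (Fin n) (Fin n) F) * B = B * Matrix.diagonal s) :
    (x : Matrix (Fin n) (Fin n) F).trace = ∑ i, s i := by
  rw [← conj_trace x B, conj_coe hx, Matrix.trace_diagonal]

theorem eq_of_diag {x B : GL (Fin n) F} {s : Fin n → F} {c : F}
    (hx : (x : Matrix (Fin n) (Fin n) F) * B = B * Matrix.diagonal s) (hs : ∀ i, s i = c) :
    (x : Matrix (Fin n) (Fin n) F) = c • (1 : Matrix (Fin n) (Fin n) F) := by
  have h1 : Matrix.diagonal s = c • (1 : Matrix (Fin n) (Fin n) F) := by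
    rw [show s = fun _ => c from funext hs, ← Matrix.smul_one_eq_diagonal]
  rw [h1, Matrix.mul_smul, Matrix.mul_one] at hx
  calc (x : Matrix (Fin n) (Fin n) F) = x * B * (B⁻¹ : GL (Fin n) F) := by
        rw [Matrix.mul_assoc, ← Units.val_mul, mul_inv_cancel, Units.val_one, Matrix.mul_one]
    _ = c • ((B : Matrix (Fin n) (Fin n) F) * (B⁻¹ : GL (Fin n) F)) := by rw [hx, Matrix.smul_mul]
    _ = _ := by rw [← Units.val_mul, mul_inv_cancel, Units.val_one]

end Sign

theorem trace_of_anti {ι : Type} [Fintype ι] [DecidableEq ι] (h2 : (2 : F) ≠ 0) {g h : GL ι F}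
    (hgh : h * g = -(g * h)) : (g : Matrix ι ι F).trace = 0 := by
  have h1 : h * g * h⁻¹ = -g := by rw [hgh, neg_mul, mul_inv_cancel_right]
  have h3 := conj_trace g h⁻¹
  rw [inv_inv, h1, Units.val_neg, Matrix.trace_neg] at h3
  have h4 : (2 : F) * (g : Matrix ι ι F).trace = 0 := by linear_combination -h3
  exact (mul_eq_zero.1 h4).resolve_left h2

theorem not_sign_of_scalar {ι : Type} [Fintype ι] [DecidableEq ι] [Nonempty ι] {w : GL ι F} (hw : w ∉ scalars ι F) :
    w ≠ 1 ∧ w ≠ -1 := by
  constructor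
  · rintro rfl; exact hw (scalars ι F).one_mem
  · rintro rfl; exact hw ((mem_scalars_iff' _).2 ⟨-1, by simp⟩)

/-- `G0` contains the elements which are unitary for all anti-involutions defining `G0` -/
def Adm {ι : Type} [Fintype ι] [DecidableEq ι] (G0 : Subgroup (GL ι F)) : Prop :=
  ∀ W : GL ι F, (∀ st : Matrix ι ι F → Matrix ι ι F, StarG G0 st → W ∈ G0) → W ∈ G0

theorem adm_top {ι : Type} [Fintype ι] [DecidableEq ι] : Adm (⊤ : Subgroup (GL ι F)) := fun W _ => Subgroup.mem_top W

theorem adm_of_star {ι : Type} [Fintype ι] [DecidableEq ι] {G0 : Subgroup (GL ι F)} {st : Matrix ι ι F → Matrix ι ι F}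
    (S : StarG G0 st) : Adm G0 := fun _ h => h st S

/-- elements of order two modulo scalars -/
theorem two_case {G0 : Subgroup (GL (Fin 4) F)} {U : F → Prop}
    {R : Subgroup (GL (Fin 4) F)} (h2 : (2 : F) ≠ 0) (E : Ext R) (hA : Amb G0 U) (S : Adm G0) (hR : R ≤ G0)
    {u v s t j : GL (Fin 4) F} (P : Pauli R u v s t) (hj : j ∈ R) (hjs : j ∈ scalars (Fin 4) F) (hjj : j * j = -1)
    (hdiag : ∀ y ∈ G0, y * y = 1 → ∃ B ∈ G0, ∃ s : Fin 4 → F, (∀ i, s i = 1 ∨ s i = -1) ∧
      (y : Matrix (Fin 4) (Fin 4) F) * B = B * Matrix.diagonal s)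
    (hroot : ∀ x ∈ G0 ⊓ specialLinear (Fin 4) F, x * x ∈ scalars (Fin 4) F → (x * x) * (x * x) = -1 →
      ∃ ζ ∈ G0, ζ ∈ scalars (Fin 4) F ∧ ζ * ζ = x * x) :
    Lhs (G0 ⊓ specialLinear (Fin 4) F) R 2 := by
  have hfin := E.fin
  have h11 : (1 : F) ≠ -1 := fun h => h2 (by linear_combination h)
  have h4 : (4 : F) ≠ 0 := by
    intro h
    have h3 : (2 : F) * 2 = 0 := by linear_combination h
    exact h2 (mul_self_eq_zero.1 h3)
  -- involutions
  have hinv : ∀ y ∈ G0, y * y = 1 → ∃ B ∈ G0, ∃ s : Fin 4 → F, (∀ i, s i = 1 ∨ s i = -1) ∧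
      (y : Matrix (Fin 4) (Fin 4) F) * B = B * Matrix.diagonal s ∧ (y ≠ 1 → cnt s ≠ 0) ∧ (y ≠ -1 → cnt s ≠ 4) := by
    intro y hy hyy
    obtain ⟨B, hB, s, hs, hys⟩ := hdiag y hy hyy
    refine ⟨B, hB, s, hs, hys, ?_, ?_⟩
    · intro hne h
      apply hne
      apply m_ext
      rw [eq_of_diag hys (cnt_eq_zero hs h), one_smul, Units.val_one]
    · intro hne h
      apply hne
      apply m_ext
      rw [eq_of_diag hys (cnt_eq_n h), neg_smul, one_smul, Units.val_neg, Units.val_one]
  have hus := not_sign_of_scalar (E.not_scalar_of_anti P.vu)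
  -- `u`
  obtain ⟨C, hC, c, hc, huc, hc0, hc4⟩ := hinv u (hR P.hu) P.uu
  have hcu : cnt c = 2 := by
    have h1 := trace_of_diag huc
    rw [trace_of_anti h2 P.vu, sign_sum hc] at h1
    have h3 : (cnt c : F) = 2 := by
      apply mul_left_cancel₀ h2
      push_cast at h1
      linear_combination h1
    have h5 := hc0 hus.1
    have h6 := hc4 hus.2
    have h7 := cnt_le c
    interval_cases h8 : cnt c
    · exact absurd rfl h5
    · push_cast at h3
      exact absurd (by linear_combination -h3 : (1 : F) = 0) one_ne_zero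
    · rfl
    · push_cast at h3
      exact absurd (by linear_combination h3 : (1 : F) = 0) one_ne_zero
    · exact absurd rfl h6
  -- the element `W`
  obtain ⟨W, hWN, hWW, hWu, hWv, hWm, hWG⟩ := exists_cz h2 P hj hjs hjj
  have hW : W ∈ G0 := S W (fun st S => hWG G0 st S hR)
  have hss : s ∉ scalars (Fin 4) F := E.not_scalar_of_anti P.ts
  have hjss : j * s ∉ scalars (Fin 4) F := by
    intro h
    apply hss
    have h1 : s = j⁻¹ * (j * s) := by group
    rw [h1]
    exact (scalars (Fin 4) F).mul_mem ((scalars (Fin 4) F).inv_mem hjs) h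
  have hWne : W ≠ -1 := by
    intro h
    rw [h, neg_one_mul, mul_neg_one, neg_inj] at hWv
    have h1 : j * s = 1 := by
      have := mul_right_cancel (b := v) (a := 1) (c := j * s) (by rw [one_mul]; exact hWv)
      exact this.symm
    exact (not_sign_of_scalar hjss).1 h1
  have hWtr : (W : Matrix (Fin 4) (Fin 4) F).trace = 2 := by
    have e1 : t * (j * s) = -((j * s) * t) := by
      rw [← mul_assoc, ← comm_of_scalar hjs t, mul_assoc, P.ts, mul_neg, mul_assoc]
    have e2 : v * (u * (j * s)) = -((u * (j * s)) * v) := by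
      rw [← mul_assoc, P.vu, neg_mul, neg_inj, mul_assoc, mul_assoc, ← mul_assoc v j s, ← comm_of_scalar hjs v,
        mul_assoc j v s, ← P.sv, ← mul_assoc j s v]
    rw [hWm, Matrix.trace_smul, Matrix.trace_sub, Matrix.trace_add, Matrix.trace_add, Matrix.trace_one,
      trace_of_anti h2 P.vu, trace_of_anti h2 e1, trace_of_anti h2 e2, Fintype.card_fin, smul_eq_mul]
    push_cast
    field_simp
    norm_num
  obtain ⟨D, hD, d, hd, hWd, hd0, hd4⟩ := hinv W hW hWW
  have hdW : cnt d = 1 := by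
    have h1 := trace_of_diag hWd
    rw [hWtr, sign_sum hd] at h1
    have h3 : (cnt d : F) = 1 := by
      apply mul_left_cancel₀ h2
      push_cast at h1
      linear_combination h1
    have h6 := hd4 hWne
    have h7 := cnt_le d
    interval_cases h8 : cnt d
    · push_cast at h3
      exact absurd h3 zero_ne_one
    · rfl
    · push_cast at h3
      exact absurd (by linear_combination h3 : (1 : F) = 0) one_ne_zero
    · push_cast at h3
      exact absurd (by linear_combination h3 : (2 : F) = 0) h2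
    · exact absurd rfl h6
  have keyA : ∀ y ∈ G0, y * y = 1 → (y : Matrix (Fin 4) (Fin 4) F).det = 1 → y ∉ scalars (Fin 4) F →
      ∃ g ∈ G0 ⊓ specialLinear (Fin 4) F, g⁻¹ * y * g ∈ subgroupNormalizer R := by
    intro y hy hyy hdet hys
    obtain ⟨B, hB, b, hb, hyb, hb0, hb4⟩ := hinv y hy hyy
    have hcb : cnt b = cnt c := by
      rw [hcu]
      have h0 := hb0 (not_sign_of_scalar hys).1
      have h1 := hb4 (not_sign_of_scalar hys).2
      have h3 := cnt_le b
      rw [det_of_diag hyb, sign_prod hb] at hdet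
      interval_cases h8 : cnt b
      · exact absurd rfl h0
      · exact absurd (by linear_combination -hdet : (1 : F) = -1) h11
      · rfl
      · exact absurd (by linear_combination -hdet : (1 : F) = -1) h11
      · exact absurd rfl h1
    obtain ⟨σ, hσ⟩ := sign_perm h2 hb hc hcb
    obtain ⟨g, hg, hgy⟩ := hA.conj 0 hB hC hyb huc σ hσ
    exact ⟨g, hg, by rw [hgy]; exact le_normalizer R P.hu⟩
  have keyB : ∀ y ∈ G0, y * y = 1 → (y : Matrix (Fin 4) (Fin 4) F).det = -1 →
      ∃ g ∈ G0 ⊓ specialLinear (Fin 4) F, g⁻¹ * y * g ∈ subgroupNormalizer R := by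
    have hneg : (-1 : GL (Fin 4) F) ∈ scalars (Fin 4) F := (mem_scalars_iff' _).2 ⟨-1, by simp⟩
    intro y hy hyy hdet
    obtain ⟨B, hB, b, hb, hyb, hb0, hb4⟩ := hinv y hy hyy
    have hcb : cnt b = 1 ∨ cnt b = 3 := by
      have h3 := cnt_le b
      rw [det_of_diag hyb, sign_prod hb] at hdet
      interval_cases h8 : cnt b
      · exact absurd (by linear_combination hdet : (1 : F) = -1) h11
      · exact Or.inl rfl
      · exact absurd (by linear_combination hdet : (1 : F) = -1) h11
      · exact Or.inr rfl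
      · exact absurd (by linear_combination hdet : (1 : F) = -1) h11
    rcases hcb with hcb | hcb
    · obtain ⟨σ, hσ⟩ := sign_perm h2 hb hd (hcb.trans hdW.symm)
      obtain ⟨g, hg, hgy⟩ := hA.conj 0 hB hD hyb hWd σ hσ
      exact ⟨g, hg, by rw [hgy]; exact hWN⟩
    · have hb' : ∀ i, (-b) i = 1 ∨ (-b) i = -1 := by
        intro i
        rw [Pi.neg_apply]
        rcases hb i with h | h
        · right; rw [h]
        · left; rw [h, neg_neg]
      have hyb' : ((-y : GL (Fin 4) F) : Matrix (Fin 4) (Fin 4) F) * B = B * Matrix.diagonal (-b) := by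
        rw [Units.val_neg, Matrix.neg_mul, hyb, ← Matrix.mul_neg, Matrix.diagonal_neg]; rfl
      obtain ⟨σ, hσ⟩ := sign_perm h2 hb' hd (by rw [cnt_neg h2 hb, hcb, hdW])
      obtain ⟨g, hg, hgy⟩ := hA.conj 0 hB hD hyb' hWd σ hσ
      refine ⟨g, hg, ?_⟩
      have h1 : g⁻¹ * y * g = -1 * W := by
        rw [← hgy, neg_one_mul, mul_neg, neg_mul, neg_neg]
      rw [h1]
      exact (subgroupNormalizer R).mul_mem (scalars_le_normalizer R hneg) hWN
  -- scalar multiples
  have hscale : ∀ (x z : GL (Fin 4) F), z ∈ scalars (Fin 4) F →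
      (∃ g ∈ G0 ⊓ specialLinear (Fin 4) F, g⁻¹ * (z⁻¹ * x) * g ∈ subgroupNormalizer R) →
      ∃ g ∈ G0 ⊓ specialLinear (Fin 4) F, g⁻¹ * x * g ∈ subgroupNormalizer R := by
    rintro x z hz ⟨g, hg, hgN⟩
    refine ⟨g, hg, ?_⟩
    have h1 : g⁻¹ * x * g = z * (g⁻¹ * (z⁻¹ * x) * g) := by
      have h3 : z * g⁻¹ = g⁻¹ * z := comm_of_scalar hz _
      calc g⁻¹ * x * g = g⁻¹ * z * (z⁻¹ * x) * g := by group
        _ = z * g⁻¹ * (z⁻¹ * x) * g := by rw [h3]
        _ = _ := by group
    rw [h1]
    exact (subgroupNormalizer R).mul_mem (scalars_le_normalizer R hz) hgN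
  have hdetinv : ∀ z : GL (Fin 4) F, ((z⁻¹ : GL (Fin 4) F) : Matrix (Fin 4) (Fin 4) F).det *
      (z : Matrix (Fin 4) (Fin 4) F).det = 1 := by
    intro z
    rw [← Matrix.det_mul, ← Units.val_mul, inv_mul_cancel, Units.val_one, Matrix.det_one]
  intro x hx hxr hxs
  have hxG : x ∈ G0 := hx.1
  have hxdet : (x : Matrix (Fin 4) (Fin 4) F).det = 1 := (mem_sl x).1 hx.2
  rw [pow_two] at hxr
  obtain ⟨c0, hc0'⟩ := (mem_scalars_iff' _).1 hxr
  have hc4 : c0 ^ 4 = 1 := by
    have h1 := congrArg Matrix.det hc0'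
    rw [Units.val_mul, Matrix.det_mul, hxdet, Matrix.det_smul, Matrix.det_one, Fintype.card_fin, mul_one, mul_one] at h1
    exact h1.symm
  have hsq : ∀ z : GL (Fin 4) F, z ∈ scalars (Fin 4) F → z * z = x * x → (z⁻¹ * x) * (z⁻¹ * x) = 1 := by
    intro z hz hzz
    have h1 : x * z⁻¹ = z⁻¹ * x := (comm_of_scalar ((scalars (Fin 4) F).inv_mem hz) x).symm
    calc (z⁻¹ * x) * (z⁻¹ * x) = z⁻¹ * (x * z⁻¹) * x := by group
      _ = z⁻¹ * (z⁻¹ * x) * x := by rw [h1]
      _ = z⁻¹ * z⁻¹ * (x * x) := by group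
      _ = 1 := by rw [← hzz]; group
  have hns : ∀ z : GL (Fin 4) F, z ∈ scalars (Fin 4) F → z⁻¹ * x ∉ scalars (Fin 4) F := by
    intro z hz h
    apply hxs
    have h1 : x = z * (z⁻¹ * x) := by group
    rw [h1]
    exact (scalars (Fin 4) F).mul_mem hz h
  have hdetsc : ∀ (z : GL (Fin 4) F) (a : F), (z : Matrix (Fin 4) (Fin 4) F) = a • (1 : Matrix (Fin 4) (Fin 4) F) →
      (z : Matrix (Fin 4) (Fin 4) F).det = a ^ 4 := by
    intro z a h
    rw [h, Matrix.det_smul, Matrix.det_one, Fintype.card_fin, mul_one]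
  have hcases : (c0 = 1 ∨ c0 = -1) ∨ c0 * c0 = -1 := by
    have h1 : (c0 * c0 - 1) * (c0 * c0 + 1) = 0 := by linear_combination hc4
    rcases mul_eq_zero.1 h1 with h | h
    · exact Or.inl (mul_self_eq_one_iff.1 (by linear_combination h))
    · exact Or.inr (by linear_combination h)
  rcases hcases with (h | h) | h
  · have hxx : x * x = 1 := by
      apply m_ext
      rw [hc0', h, one_smul, Units.val_one]
    exact keyA x hxG hxx hxdet hxs
  · have hxx : x * x = -1 := by
      apply m_ext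
      rw [hc0', h, neg_smul, one_smul, Units.val_neg, Units.val_one]
    obtain ⟨a, ha⟩ := (mem_scalars_iff' _).1 hjs
    have haa : a * a = -1 := by
      have h1 := congrArg (fun g : GL (Fin 4) F => (g : Matrix (Fin 4) (Fin 4) F) 0 0) hjj
      simp only [Units.val_mul, ha, Units.val_neg, Units.val_one, Matrix.smul_mul, Matrix.one_mul, smul_smul,
        Matrix.smul_apply, Matrix.one_apply_eq, Matrix.neg_apply, smul_eq_mul, mul_one] at h1
      exact h1
    have hdj : (j : Matrix (Fin 4) (Fin 4) F).det = 1 := by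
      rw [hdetsc j a ha]
      linear_combination (a * a - 1) * haa
    apply hscale x j hjs
    apply keyA _ (G0.mul_mem (G0.inv_mem (hR hj)) hxG) (hsq j hjs (by rw [hjj, hxx])) ?_ (hns j hjs)
    have h5 := hdetinv j
    rw [hdj, mul_one] at h5
    rw [Units.val_mul, Matrix.det_mul, hxdet, h5, mul_one]
  · have hxx : (x * x) * (x * x) = -1 := by
      apply m_ext
      rw [Units.val_mul (x * x), hc0', Matrix.smul_mul, Matrix.one_mul, smul_smul, h, neg_smul, one_smul, Units.val_neg,
        Units.val_one]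
    obtain ⟨ζ, hζG, hζs, hζζ⟩ := hroot x hx hxr hxx
    obtain ⟨a, ha⟩ := (mem_scalars_iff' _).1 hζs
    have haa : a * a = c0 := by
      have h1 := congrArg (fun g : GL (Fin 4) F => (g : Matrix (Fin 4) (Fin 4) F) 0 0) hζζ
      simp only [hc0'] at h1
      simp only [Units.val_mul, ha, Matrix.smul_mul, Matrix.one_mul, smul_smul,
        Matrix.smul_apply, Matrix.one_apply_eq, smul_eq_mul, mul_one] at h1
      exact h1
    have hdj : (ζ : Matrix (Fin 4) (Fin 4) F).det = -1 := by
      rw [hdetsc ζ a ha, ← h, ← haa]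
      ring
    apply hscale x ζ hζs
    apply keyB _ (G0.mul_mem (G0.inv_mem hζG) hxG) (hsq ζ hζs hζζ)
    have h5 := hdetinv ζ
    rw [hdj] at h5
    rw [Units.val_mul, Matrix.det_mul, hxdet]
    linear_combination -h5

end Cfsg.Agent.H960
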